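import Mathlib
import Cfsg.Agent.S0199
import Cfsg.Agent.Lib.Coprime.Coset
import Cfsg.Agent.Lib.Coprime.Three

set_option autoImplicit false
set_option linter.style.haveILetI false
set_option linter.unusedSectionVars false

/-!
# Non-solvable groups contain a 2-element inverting a non-trivial element of odd order

Modulo Feit-Thompson: a non-solvable finite group has a `2`-element `y` and a `q`-element `i ≠ 1` (`q` odd)
with `y i y⁻¹ = i⁻¹`.
-/

namespace Cfsg.Agent.Lib.Components.InvLift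

open Subgroup
open Cfsg.Agent.Lib.Coprime.Coset
open scoped commutatorElement

universe u

section Lift

variable {X Y : Type*} [Group X] [Group Y] [Finite X]

/-- Lifting an inverted element of prime order through a homomorphism. -/
theorem exists_inverted (π : X →* Y) {q : ℕ} [Fact q.Prime] (hq : q ≠ 2) {r s : Y}
    (hr : orderOf r = q) (hs : s * s = 1) (hsr : s * r * s⁻¹ = r⁻¹) (A : Subgroup X) [A.Normal]
    (hA : ∀ a ∈ A, π a ∈ zpowers r) (hAr : ∃ x ∈ A, π x = r) (y₀ : X) (hy₀ : π y₀ = s) :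
    ∃ y i : X, (∃ k, orderOf y = 2 ^ k) ∧ (∃ j, orderOf i = q ^ j) ∧ i ≠ 1 ∧ y * i * y⁻¹ = i⁻¹ := by
  classical
  have hqp : q.Prime := Fact.out
  have hqodd : Odd q := hqp.odd_of_ne_two hq
  -- relations in `Y`
  have hpow : ∀ k : ℤ, s * r ^ k * s⁻¹ = (r ^ k)⁻¹ := by
    intro k
    have h1 : s * r ^ k * s⁻¹ = (s * r * s⁻¹) ^ k := by
      rw [conj_zpow]
    rw [h1, hsr, inv_zpow]
  have hinv : ∀ u ∈ zpowers r, s * u * s⁻¹ = u⁻¹ := by
    rintro u ⟨k, rfl⟩
    exact hpow k
  have hsinv : s⁻¹ = s := by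
    rw [inv_eq_iff_mul_eq_one]; exact hs
  -- a Sylow subgroup `Q` of `A`
  obtain ⟨Q⟩ : Nonempty (Sylow q A) := inferInstance
  set Q' : Subgroup X := (Q : Subgroup A).map A.subtype with hQ'
  have hQ'A : Q' ≤ A := map_subtype_le _
  have hQ'p : IsPGroup q Q' := (Q.isPGroup').map A.subtype
  -- the image of `Q` in `zpowers r` is non-trivial
  let ρ : A →* Y := π.comp A.subtype
  have hρne : ∃ x ∈ Q', π x ≠ 1 := by
    by_contra hno
    push_neg at hno
    have hle : (Q : Subgroup A) ≤ ρ.ker := by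
      intro x hx
      rw [MonoidHom.mem_ker]
      exact hno x ⟨x, hx, rfl⟩
    have h1 : ρ.ker.index ∣ (Q : Subgroup A).index := Subgroup.index_dvd_of_le hle
    have h2 : q ∣ ρ.ker.index := by
      rw [Subgroup.index_ker]
      obtain ⟨x, hx, hxr⟩ := hAr
      have h3 : r ∈ ρ.range := ⟨⟨x, hx⟩, hxr⟩
      have h4 := Subgroup.orderOf_dvd_natCard ρ.range h3
      rwa [hr] at h4
    exact Q.not_dvd_index (h2.trans h1)
  obtain ⟨x, hxQ, hxne⟩ := hρne
  set r' := π x with hr'
  have hr'z : r' ∈ zpowers r := hA x (hQ'A hxQ)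
  -- an element normalizing `Q` lifting a reflection
  have htop := Q.normalizer_sup_eq_top
  have hy₀mem : y₀ ∈ A ⊔ normalizer (Q' : Set X) := by
    rw [sup_comm]
    have : normalizer (Q' : Set X) ⊔ A = ⊤ := by
      have h0 := Q.normalizer_sup_eq_top
      exact h0
    rw [this]; trivial
  have hnorm : normalizer (Q' : Set X) ≤ normalizer (A : Set X) := by
    intro g _
    rw [Subgroup.mem_normalizer_iff]
    intro h
    have := (inferInstance : A.Normal)
    constructor
    · intro hh; exact this.conj_mem h hh g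
    · intro hh
      have h2 := this.conj_mem _ hh g⁻¹
      simpa [mul_assoc] using h2
  obtain ⟨a, ha, n, hn, hy₀e⟩ := (mem_sup_iff_of_le_normalizer hnorm y₀).mp hy₀mem
  set s' := π n with hs'
  have hs'e : s' = (π a)⁻¹ * s := by
    rw [← hy₀, ← hy₀e, map_mul, inv_mul_cancel_left]
  have hs's' : s' * s' = 1 := by
    have h5 := hinv _ (hA a ha)
    rw [hs'e]
    have h6 : s * (π a)⁻¹ * s = π a := by
      have h7 : s * (π a)⁻¹ * s⁻¹ = ((π a)⁻¹)⁻¹ := hinv _ (Subgroup.inv_mem _ (hA a ha))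
      rw [hsinv, inv_inv] at h7
      exact h7
    calc (π a)⁻¹ * s * ((π a)⁻¹ * s) = (π a)⁻¹ * (s * (π a)⁻¹ * s) := by group
      _ = 1 := by rw [h6]; group
  have hs'inv : ∀ u ∈ zpowers r, s' * u * s'⁻¹ = u⁻¹ := by
    intro u hu
    have hcomm : ∀ v ∈ zpowers r, ∀ w ∈ zpowers r, v * w = w * v := by
      rintro _ ⟨k, rfl⟩ _ ⟨l, rfl⟩
      change r ^ k * r ^ l = r ^ l * r ^ k
      rw [← zpow_add, ← zpow_add, add_comm]
    rw [hs'e]
    have h8 := hinv u hu
    calc (π a)⁻¹ * s * u * ((π a)⁻¹ * s)⁻¹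
        = (π a)⁻¹ * (s * u * s⁻¹) * (π a) := by group
      _ = (π a)⁻¹ * u⁻¹ * (π a) := by rw [h8]
      _ = u⁻¹ := by
        rw [hcomm _ (Subgroup.inv_mem _ (hA a ha)) _ (Subgroup.inv_mem _ hu)]
        group
  -- the `2`-part of `n`
  obtain ⟨c₂, m₂, hn₂, hc₂⟩ : ∃ c₂ m₂ : ℕ, orderOf n = 2 ^ c₂ * m₂ ∧ Odd m₂ := by
    have hne : orderOf n ≠ 0 := (orderOf_pos n).ne'
    obtain ⟨c, m, hm, he⟩ := Nat.exists_eq_two_pow_mul_odd hne
    exact ⟨c, m, he, hm⟩
  set y := n ^ m₂ with hy
  have hyord : orderOf y = 2 ^ c₂ := by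
    rw [hy, orderOf_pow_of_dvd (Nat.pos_iff_ne_zero.mp hc₂.pos) (by rw [hn₂]; exact Dvd.intro_left _ rfl), hn₂]
    exact Nat.mul_div_cancel _ hc₂.pos
  have hyN : y ∈ normalizer (Q' : Set X) := Subgroup.pow_mem _ hn _
  have hπy : π y = s' := by
    rw [hy, map_pow]
    obtain ⟨t, ht⟩ := hc₂
    rw [ht, pow_succ, pow_mul, pow_two, hs's', one_pow, one_mul]
  have hπy2 : π (y ^ 2) = 1 := by
    rw [map_pow, hπy, pow_two, hs's']
  -- the action of `y²`
  have hY2N : zpowers (y ^ 2) ≤ normalizer (Q' : Set X) := by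
    rw [Subgroup.zpowers_le]
    exact Subgroup.pow_mem _ hyN 2
  have hcop : (Nat.card (zpowers (y ^ 2))).Coprime (Nat.card Q') := by
    rw [Nat.card_zpowers]
    have h1 : orderOf (y ^ 2) ∣ 2 ^ c₂ := by
      rw [← hyord]; exact orderOf_pow_dvd 2 |>.trans (dvd_refl _)
    obtain ⟨e, he⟩ := IsPGroup.iff_card.mp hQ'p
    rw [he]
    refine Nat.Coprime.pow_right _ ?_
    refine Nat.Coprime.coprime_dvd_left h1 (Nat.Coprime.pow_left _ ?_)
    exact (Nat.prime_two.coprime_iff_not_dvd).mpr (fun h => hq ((Nat.prime_dvd_prime_iff_eq Nat.prime_two hqp).mp h).symm)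
  have hsolv : Group.IsSolvable (zpowers (y ^ 2)) := by
    apply Group.isSolvable_of_comm
    rintro ⟨_, k, rfl⟩ ⟨_, l, rfl⟩
    apply Subtype.ext
    change (y ^ 2) ^ k * (y ^ 2) ^ l = (y ^ 2) ^ l * (y ^ 2) ^ k
    rw [← zpow_add, ← zpow_add, add_comm]
  obtain ⟨c, hc, hxc⟩ := exists_mem_commutator_mul_centralizer hY2N hcop (Or.inl hsolv) hxQ
  -- `π` kills the commutator with `y²`
  have hker : ⁅Q', zpowers (y ^ 2)⁆ ≤ π.ker := by
    rw [Subgroup.commutator_le]
    rintro u _ _ ⟨k, rfl⟩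
    rw [MonoidHom.mem_ker, commutatorElement_def]
    simp only [map_mul, map_inv, map_zpow, hπy2, one_zpow, mul_one, inv_one, mul_inv_cancel]
  have hπc : π c = r' := by
    have h1 := hker hxc
    rw [MonoidHom.mem_ker, map_mul, map_inv] at h1
    rw [hr']
    exact (inv_mul_eq_one.mp h1).symm
  have hcy2 : y ^ 2 * c = c * y ^ 2 := by
    have := mem_centralizer_iff.mp hc.2 (y ^ 2) (mem_zpowers _)
    exact this
  -- the inverted element
  refine ⟨y, c⁻¹ * (y * c * y⁻¹), ⟨c₂, hyord⟩, ?_, ?_, ?_⟩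
  · have hmem : c⁻¹ * (y * c * y⁻¹) ∈ Q' :=
      Q'.mul_mem (Q'.inv_mem hc.1) ((mem_normalizer_iff.mp hyN c).mp hc.1)
    obtain ⟨e, he⟩ := IsPGroup.iff_orderOf.mp hQ'p ⟨_, hmem⟩
    refine ⟨e, ?_⟩
    rw [← he]
    exact (Subgroup.orderOf_mk _ _).symm
  · intro h1
    have h2 := congrArg π h1
    rw [map_mul, map_inv, map_mul, map_mul, map_inv, map_one, hπy, hπc, hs'inv r' hr'z] at h2
    -- `r'⁻¹ * r'⁻¹ = 1`
    have h3 : r' ^ 2 = 1 := by
      rw [pow_two]
      have := congrArg (·⁻¹) h2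
      simpa [mul_inv_rev] using this
    have h4 : orderOf r' ∣ 2 := orderOf_dvd_of_pow_eq_one h3
    have h5 : orderOf r' ∣ q := by
      have := Subgroup.orderOf_dvd_natCard (zpowers r) hr'z
      rwa [Nat.card_zpowers, hr] at this
    have h6 : orderOf r' = 1 := by
      have := Nat.dvd_gcd h4 h5
      have hg : Nat.gcd 2 q = 1 := by
        exact (Nat.prime_two.coprime_iff_not_dvd).mpr
          (fun h => hq ((Nat.prime_dvd_prime_iff_eq Nat.prime_two hqp).mp h).symm)
      rw [hg] at this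
      exact Nat.dvd_one.mp this
    exact hxne (orderOf_eq_one_iff.mp h6)
  · have hy2 : y * (y * c * y⁻¹) * y⁻¹ = c := by
      calc y * (y * c * y⁻¹) * y⁻¹ = (y ^ 2 * c) * (y ^ 2)⁻¹ := by
            rw [pow_two]; group
        _ = c := by rw [hcy2]; group
    calc y * (c⁻¹ * (y * c * y⁻¹)) * y⁻¹
        = (y * c⁻¹ * y⁻¹) * (y * (y * c * y⁻¹) * y⁻¹) := by group
      _ = (y * c⁻¹ * y⁻¹) * c := by rw [hy2]
      _ = _ := by group

end Lift

section Main

variable {G : Type u} [Group G] [Finite G]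

/-- The quotient form of the lifting. -/
theorem exists_inverted_of_quotient (N : Subgroup G) [N.Normal] {q : ℕ} [Fact q.Prime] (hq : q ≠ 2)
    {r s : G ⧸ N} (hr : orderOf r = q) (hs : s * s = 1) (hsr : s * r * s⁻¹ = r⁻¹) :
    ∃ y i : G, (∃ k, orderOf y = 2 ^ k) ∧ (∃ j, orderOf i = q ^ j) ∧ i ≠ 1 ∧ y * i * y⁻¹ = i⁻¹ := by
  classical
  let π₀ : G →* G ⧸ N := QuotientGroup.mk' N
  have hπ₀ : Function.Surjective π₀ := QuotientGroup.mk'_surjective N
  -- `zpowers r` is normalized by `D`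
  set D : Subgroup (G ⧸ N) := zpowers r ⊔ zpowers s with hD
  have hDn : D ≤ normalizer ((zpowers r : Subgroup (G ⧸ N)) : Set (G ⧸ N)) := by
    refine sup_le ?_ ?_
    · rw [Subgroup.zpowers_le]
      exact Subgroup.le_normalizer (mem_zpowers r)
    · rw [Subgroup.zpowers_le]
      apply Cfsg.Agent.Lib.Coprime.Three.mem_normalizer_of_conj_mem
      rintro _ ⟨k, rfl⟩
      change s * r ^ k * s⁻¹ ∈ zpowers r
      have h1 : s * r ^ k * s⁻¹ = (s * r * s⁻¹) ^ k := by rw [conj_zpow]
      rw [h1, hsr]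
      exact Subgroup.zpow_mem _ (Subgroup.inv_mem _ (mem_zpowers r)) k
  let M : Subgroup G := D.comap π₀
  let π : M →* G ⧸ N := π₀.comp M.subtype
  have hπD : ∀ g : M, π g ∈ D := fun g => g.2
  let A : Subgroup M := (zpowers r).comap π
  haveI hAn : A.Normal := by
    refine ⟨fun a ha g => ?_⟩
    change π (g * a * g⁻¹) ∈ zpowers r
    rw [map_mul, map_mul, map_inv]
    exact (mem_normalizer_iff.mp (hDn (hπD g)) _).mp ha
  obtain ⟨x₀, hx₀⟩ := hπ₀ r
  obtain ⟨y₀, hy₀⟩ := hπ₀ s
  have hx₀M : x₀ ∈ M := by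
    change π₀ x₀ ∈ D
    rw [hx₀]
    exact Subgroup.mem_sup_left (mem_zpowers r)
  have hy₀M : y₀ ∈ M := by
    change π₀ y₀ ∈ D
    rw [hy₀]
    exact Subgroup.mem_sup_right (mem_zpowers s)
  obtain ⟨y, i, ⟨k, hk⟩, ⟨j, hj⟩, hi1, hyi⟩ := exists_inverted π hq hr hs hsr A (fun a ha => ha)
    ⟨⟨x₀, hx₀M⟩, by
      change π₀ x₀ ∈ zpowers r
      rw [hx₀]; exact mem_zpowers r, hx₀⟩ ⟨y₀, hy₀M⟩ hy₀
  refine ⟨y, i, ⟨k, ?_⟩, ⟨j, ?_⟩, ?_, ?_⟩
  · rw [Subgroup.orderOf_coe]; exact hk
  · rw [Subgroup.orderOf_coe]; exact hj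
  · intro h
    exact hi1 (Subtype.ext h)
  · exact congrArg Subtype.val hyi

/-- In a group with no non-trivial normal `2`-subgroup, an involution inverts an element of odd
prime order. -/
theorem exists_inverted_prime_of_involution {Q : Type*} [Group Q] [Finite Q] {s : Q}
    (hs : orderOf s = 2) (hO : ∀ M : Subgroup Q, M.Normal → IsPGroup 2 M → M = ⊥) :
    ∃ (q : ℕ) (_ : Fact q.Prime) (r : Q), q ≠ 2 ∧ orderOf r = q ∧ s * r * s⁻¹ = r⁻¹ := by
  classical
  haveI : Fact (Nat.Prime 2) := ⟨Nat.prime_two⟩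
  have hss : s * s = 1 := by
    rw [← pow_two, ← hs, pow_orderOf_eq_one]
  have hsinv : s⁻¹ = s := by
    rw [inv_eq_iff_mul_eq_one]; exact hss
  have hX : IsPGroup 2 (zpowers s) := by
    rw [IsPGroup.iff_card]
    refine ⟨1, ?_⟩
    rw [Nat.card_zpowers, hs, pow_one]
  have hne : ¬ ∀ g : Q, IsPGroup 2 ↥(zpowers s ⊔ (zpowers s).map (MulAut.conj g).toMonoidHom) := by
    intro h
    obtain ⟨M, hMn, hM2, hsM⟩ := Cfsg.Agent.S0199.result (zpowers s) hX h
    have hb := hO M hMn hM2
    have : s ∈ M := hsM (mem_zpowers s)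
    rw [hb, Subgroup.mem_bot] at this
    rw [this, orderOf_one] at hs
    exact absurd hs (by norm_num)
  push_neg at hne
  obtain ⟨g, hg⟩ := hne
  set t := g * s * g⁻¹ with ht
  have htt : t * t = 1 := by
    rw [ht]
    calc g * s * g⁻¹ * (g * s * g⁻¹) = g * (s * s) * g⁻¹ := by group
      _ = 1 := by rw [hss]; group
  have htinv : t⁻¹ = t := by
    rw [inv_eq_iff_mul_eq_one]; exact htt
  set w := s * t with hw
  have hsw : s * w * s⁻¹ = w⁻¹ := by
    rw [hw, mul_inv_rev, hsinv, htinv]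
    calc s * (s * t) * s = (s * s) * t * s := by group
      _ = t * s := by rw [hss]; group
  -- `w` is not a `2`-element
  have hw2 : ¬ ∃ k, orderOf w = 2 ^ k := by
    rintro ⟨k, hk⟩
    apply hg
    have hwp : IsPGroup 2 (zpowers w) := by
      rw [IsPGroup.iff_card]
      exact ⟨k, by rw [Nat.card_zpowers, hk]⟩
    have hnorm : zpowers s ≤ normalizer ((zpowers w : Subgroup Q) : Set Q) := by
      rw [Subgroup.zpowers_le]
      apply Cfsg.Agent.Lib.Coprime.Three.mem_normalizer_of_conj_mem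
      rintro _ ⟨l, rfl⟩
      change s * w ^ l * s⁻¹ ∈ zpowers w
      have h1 : s * w ^ l * s⁻¹ = (s * w * s⁻¹) ^ l := by rw [conj_zpow]
      rw [h1, hsw]
      exact Subgroup.zpow_mem _ (Subgroup.inv_mem _ (mem_zpowers w)) l
    have hsup : IsPGroup 2 ↥(zpowers s ⊔ zpowers w) :=
      IsPGroup.to_sup_of_normal_right' hX hwp hnorm
    refine hsup.to_le (sup_le le_sup_left ?_)
    rintro _ ⟨_, ⟨l, rfl⟩, rfl⟩
    have h2 : (MulAut.conj g).toMonoidHom (s ^ l) = t ^ l := by
      change g * s ^ l * g⁻¹ = t ^ l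
      rw [ht, conj_zpow]
    change (MulAut.conj g).toMonoidHom (s ^ l) ∈ _
    rw [h2]
    refine Subgroup.zpow_mem _ ?_ l
    have h3 : t = s * w := by
      rw [hw, ← mul_assoc, hss, one_mul]
    rw [h3]
    exact Subgroup.mul_mem _ (Subgroup.mem_sup_left (mem_zpowers s))
      (Subgroup.mem_sup_right (mem_zpowers w))
  -- an odd prime divisor of the order of `w`
  have hoddp : ∃ q, q.Prime ∧ q ≠ 2 ∧ q ∣ orderOf w := by
    by_contra hno
    push_neg at hno
    apply hw2
    have hpos := orderOf_pos w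
    exact ⟨_, Nat.eq_prime_pow_of_unique_prime_dvd hpos.ne' (p := 2) (fun {d} hd hdvd => by
      by_contra hd2
      exact hno d hd hd2 hdvd)⟩
  obtain ⟨q, hq, hq2, hqw⟩ := hoddp
  haveI : Fact q.Prime := ⟨hq⟩
  refine ⟨q, inferInstance, w ^ (orderOf w / q), hq2, ?_, ?_⟩
  · rw [orderOf_pow_of_dvd (by
      intro h0
      have hle := Nat.div_pos (Nat.le_of_dvd (orderOf_pos w) hqw) hq.pos
      omega) (Nat.div_dvd_of_dvd hqw)]
    exact Nat.div_div_self hqw (orderOf_pos w).ne'
  · rw [← inv_pow, ← hsw, conj_pow]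

/-- The radical-like maximal normal solvable subgroup. -/
theorem exists_max_normal_solvable (G : Type u) [Group G] [Finite G] :
    ∃ N : Subgroup G, N.Normal ∧ Group.IsSolvable N ∧
      ∀ M : Subgroup G, M.Normal → Group.IsSolvable M → N ≤ M → M = N := by
  classical
  let S : Set (Subgroup G) := {N | N.Normal ∧ Group.IsSolvable N}
  have hS : S.Nonempty := ⟨⊥, inferInstance, by
    change Group.IsSolvable (⊥ : Subgroup G)
    infer_instance⟩
  obtain ⟨N, hN⟩ := (Set.toFinite S).exists_maximal hS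
  refine ⟨N, hN.1.1, hN.1.2, fun M hM hMs hle => ?_⟩
  exact le_antisymm (hN.2 ⟨hM, hMs⟩ hle) hle

/-- **Non-solvable groups** contain a `2`-element inverting a non-trivial `q`-element, `q` odd. -/
theorem exists_inverted_of_not_solvable
    (hFT : ∀ (K : Type u) [Group K] [Finite K], Odd (Nat.card K) → Group.IsSolvable K)
    (hG : ¬ Group.IsSolvable G) :
    ∃ (q : ℕ) (_ : Fact q.Prime) (y i : G), q ≠ 2 ∧ (∃ k, orderOf y = 2 ^ k) ∧
      (∃ j, orderOf i = q ^ j) ∧ i ≠ 1 ∧ y * i * y⁻¹ = i⁻¹ := by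
  classical
  haveI : Fact (Nat.Prime 2) := ⟨Nat.prime_two⟩
  obtain ⟨N, hNn, hNs, hNmax⟩ := exists_max_normal_solvable G
  haveI := hNn
  haveI := hNs
  -- `G / N` is not solvable
  have hQ : ¬ Group.IsSolvable (G ⧸ N) := by
    intro h
    apply hG
    haveI := h
    refine Group.isSolvable_of_ker_le_range N.subtype (QuotientGroup.mk' N) ?_
    rw [QuotientGroup.ker_mk', Subgroup.range_subtype]
  -- no normal `2`-subgroup in `G / N`
  have hO : ∀ M : Subgroup (G ⧸ N), M.Normal → IsPGroup 2 M → M = ⊥ := by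
    intro M hM hM2
    set M' : Subgroup G := M.comap (QuotientGroup.mk' N) with hM'
    haveI hM'n : M'.Normal := hM.comap _
    haveI hMsolv : Group.IsSolvable M := by
      haveI : Finite M := inferInstance
      have := hM2.isNilpotent
      infer_instance
    have hleN : N ≤ M' := by
      intro x hx
      change (QuotientGroup.mk' N) x ∈ M
      have : (QuotientGroup.mk' N) x = 1 := (QuotientGroup.eq_one_iff x).mpr hx
      rw [this]; exact M.one_mem
    have hM's : Group.IsSolvable M' := by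
      let f : N →* M' := Subgroup.inclusion hleN
      let g : M' →* M := ((QuotientGroup.mk' N).comp M'.subtype).codRestrict M (fun x => x.2)
      refine Group.isSolvable_of_ker_le_range f g ?_
      intro x hx
      have hx1 : (QuotientGroup.mk' N) (x : G) = 1 := by
        have := congrArg Subtype.val (MonoidHom.mem_ker.mp hx)
        exact this
      have hxN : (x : G) ∈ N := (QuotientGroup.eq_one_iff _).mp hx1
      exact ⟨⟨x, hxN⟩, Subtype.ext rfl⟩
    have hME := hNmax M' hM'n hM's hleN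
    rw [eq_bot_iff]
    intro z hz
    obtain ⟨z', rfl⟩ := QuotientGroup.mk'_surjective N z
    have : z' ∈ M' := hz
    rw [hME] at this
    exact (QuotientGroup.eq_one_iff _).mpr this
  -- an involution
  have heven : Even (Nat.card (G ⧸ N)) := by
    rw [← Nat.not_odd_iff_even]
    exact fun h => hQ (hFT _ h)
  obtain ⟨s, hs⟩ := exists_prime_orderOf_dvd_card' 2 (even_iff_two_dvd.mp heven)
  obtain ⟨q, hqf, r, hq2, hr, hsr⟩ := exists_inverted_prime_of_involution hs hO
  have hss : s * s = 1 := by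
    rw [← pow_two, ← hs, pow_orderOf_eq_one]
  obtain ⟨y, i, h1, h2, h3, h4⟩ := exists_inverted_of_quotient N hq2 hr hss hsr
  exact ⟨q, hqf, y, i, hq2, h1, h2, h3, h4⟩

end Main

section Classes

variable {G : Type*} [Group G] [Finite G]

/-- The class sizes in the metacyclic group `⟨i, y⟩`: the class of `i` has size `2`, that of `y` is odd and `> 1`. -/
theorem class_sizes_of_inverted {y i : G} (hy : ∃ k, orderOf y = 2 ^ k) (hi : Odd (orderOf i))
    (hi1 : i ≠ 1) (hyi : y * i * y⁻¹ = i⁻¹) :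
    ∃ (H : Subgroup G) (a b : H), (a : G) = i ∧ (b : G) = y ∧
      (centralizer ({a} : Set H)).index = 2 ∧ Odd (centralizer ({b} : Set H)).index ∧
        1 < (centralizer ({b} : Set H)).index := by
  classical
  have hine : i ≠ i⁻¹ := by
    intro h
    have h2 : i ^ 2 = 1 := by
      rw [pow_two]; nth_rw 1 [h]; exact inv_mul_cancel i
    have h3 : orderOf i ∣ 2 := orderOf_dvd_of_pow_eq_one h2
    have h4 : orderOf i = 1 := by
      rcases (Nat.dvd_prime Nat.prime_two).mp h3 with h5 | h5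
      · exact h5
      · rw [h5] at hi
        exact absurd hi (by decide)
    exact hi1 (orderOf_eq_one_iff.mp h4)
  set Z : Subgroup G := zpowers i with hZ
  have hyZ : zpowers y ≤ normalizer (Z : Set G) := by
    rw [Subgroup.zpowers_le]
    apply Cfsg.Agent.Lib.Coprime.Three.mem_normalizer_of_conj_mem
    rintro _ ⟨l, rfl⟩
    change y * i ^ l * y⁻¹ ∈ zpowers i
    have h1 : y * i ^ l * y⁻¹ = (y * i * y⁻¹) ^ l := by rw [conj_zpow]
    rw [h1, hyi]
    exact Subgroup.zpow_mem _ (Subgroup.inv_mem _ (mem_zpowers i)) l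
  set H : Subgroup G := Z ⊔ zpowers y with hH
  let a : H := ⟨i, Subgroup.mem_sup_left (mem_zpowers i)⟩
  let b : H := ⟨y, Subgroup.mem_sup_right (mem_zpowers y)⟩
  refine ⟨H, a, b, rfl, rfl, ?_, ?_, ?_⟩
  · -- conjugation by `H` preserves `{i, i⁻¹}`
    let T : Subgroup G :=
      { carrier := {g | g * i * g⁻¹ = i ∨ g * i * g⁻¹ = i⁻¹}
        one_mem' := by simp
        mul_mem' := by
          rintro g₁ g₂ h₁ h₂
          have e : (g₁ * g₂) * i * (g₁ * g₂)⁻¹ = g₁ * (g₂ * i * g₂⁻¹) * g₁⁻¹ := by group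
          rw [Set.mem_setOf_eq, e]
          have e2 : g₁ * i⁻¹ * g₁⁻¹ = (g₁ * i * g₁⁻¹)⁻¹ := by group
          rcases h₂ with h | h <;> rcases h₁ with h' | h' <;> rw [h]
          · exact Or.inl h'
          · exact Or.inr h'
          · rw [e2, h']; exact Or.inr rfl
          · rw [e2, h', inv_inv]; exact Or.inl rfl
        inv_mem' := by
          rintro g h
          have e : g⁻¹ * i * g⁻¹⁻¹ = g⁻¹ * i * g := by group
          rw [Set.mem_setOf_eq, e]
          rcases h with h | h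
          · left
            calc g⁻¹ * i * g = g⁻¹ * (g * i * g⁻¹) * g := by rw [h]
              _ = i := by group
          · right
            have h5 : i = g * i⁻¹ * g⁻¹ := by
              have e2 : g * i⁻¹ * g⁻¹ = (g * i * g⁻¹)⁻¹ := by group
              rw [e2, h, inv_inv]
            calc g⁻¹ * i * g = g⁻¹ * (g * i⁻¹ * g⁻¹) * g := by rw [← h5]
              _ = i⁻¹ := by group }
    have hHT : H ≤ T := by
      refine sup_le ?_ ?_
      · rintro _ ⟨l, rfl⟩
        left
        change i ^ l * i * (i ^ l)⁻¹ = i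
        have hc : Commute (i ^ l) i := (Commute.refl i).zpow_left l
        rw [hc.eq]; group
      · rw [Subgroup.zpowers_le]
        exact Or.inr hyi
    rw [Subgroup.index_eq_two_iff]
    refine ⟨b, fun h => ?_⟩
    have e : ((h : G) * y) * i * ((h : G) * y)⁻¹ = ((h : G) * i * (h : G)⁻¹)⁻¹ := by
      calc ((h : G) * y) * i * ((h : G) * y)⁻¹ = (h : G) * (y * i * y⁻¹) * (h : G)⁻¹ := by group
        _ = (h : G) * i⁻¹ * (h : G)⁻¹ := by rw [hyi]
        _ = _ := by group
    have h1 : h * b ∈ centralizer ({a} : Set H) ↔ (h : G) * i * (h : G)⁻¹ = i⁻¹ := by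
      rw [mem_centralizer_singleton_iff]
      constructor
      · intro h2
        have h3 : (h : G) * y * i = i * ((h : G) * y) := congrArg Subtype.val h2
        have h4 : ((h : G) * y) * i * ((h : G) * y)⁻¹ = i := by
          rw [h3]; group
        rw [e] at h4
        exact inv_eq_iff_eq_inv.mp h4
      · intro h2
        apply Subtype.ext
        change (h : G) * y * i = i * ((h : G) * y)
        have h4 : ((h : G) * i * (h : G)⁻¹)⁻¹ = i := by rw [h2, inv_inv]
        rw [← e] at h4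
        exact mul_inv_eq_iff_eq_mul.mp h4
    have h2 : h ∈ centralizer ({a} : Set H) ↔ (h : G) * i * (h : G)⁻¹ = i := by
      rw [mem_centralizer_singleton_iff]
      constructor
      · intro h3
        have h4 : (h : G) * i = i * (h : G) := congrArg Subtype.val h3
        rw [h4]; group
      · intro h3
        apply Subtype.ext
        change (h : G) * i = i * (h : G)
        rw [mul_inv_eq_iff_eq_mul] at h3
        exact h3
    rw [h1, h2]
    rcases hHT h.2 with h3 | h3
    · exact Or.inr ⟨h3, fun h4 => hine (h3.symm.trans h4)⟩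
    · exact Or.inl ⟨h3, fun h4 => hine (h4.symm.trans h3)⟩
  · -- index of `C_H(y)`
    obtain ⟨k, hk⟩ := hy
    let J : Subgroup H := zpowers b
    let Z' : Subgroup H := Z.subgroupOf H
    have hZH : Z ≤ H := le_sup_left
    have hHnZ : H ≤ normalizer (Z : Set G) := sup_le Subgroup.le_normalizer hyZ
    haveI hZ'n : Z'.Normal := (Subgroup.normal_subgroupOf_iff_le_normalizer hZH).mpr hHnZ
    have hJK : J ≤ centralizer ({b} : Set H) := by
      rw [Subgroup.zpowers_le, mem_centralizer_singleton_iff]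
    have hdvd : (centralizer ({b} : Set H)).index ∣ J.index := Subgroup.index_dvd_of_le hJK
    have hsup : J ⊔ Z' = ⊤ := by
      rw [eq_top_iff]
      rintro ⟨x, hx⟩ _
      have hx' : x ∈ Z ⊔ zpowers y := hx
      obtain ⟨z, hz, u, hu, rfl⟩ := (mem_sup_iff_of_le_normalizer hyZ x).mp hx'
      have e1 : (⟨z * u, hx⟩ : H) = ⟨z, hZH hz⟩ * ⟨u, le_sup_right (a := Z) hu⟩ := rfl
      rw [e1, sup_comm]
      have hz1 : (⟨z, hZH hz⟩ : H) ∈ Z' := hz
      have hu1 : (⟨u, le_sup_right (a := Z) hu⟩ : H) ∈ J := by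
        obtain ⟨l, hl⟩ := hu
        refine ⟨l, Subtype.ext ?_⟩
        simpa [b] using hl
      exact Subgroup.mul_mem_sup hz1 hu1
    have hinf : Z'.subgroupOf J = ⊥ := by
      rw [eq_bot_iff]
      rintro ⟨x, hx⟩ hxZ
      rw [Subgroup.mem_subgroupOf] at hxZ
      have hxZ' : (x : G) ∈ Z := hxZ
      have h1 : orderOf x ∣ orderOf b := by
        have := Subgroup.orderOf_dvd_natCard J hx
        rwa [Nat.card_zpowers] at this
      have h2 : orderOf (x : G) ∣ orderOf i := by
        have := Subgroup.orderOf_dvd_natCard Z hxZ'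
        rwa [Nat.card_zpowers] at this
      have h3 : orderOf b = 2 ^ k := by
        rw [← hk]; exact Subgroup.orderOf_mk y _
      have h4 : Nat.Coprime (2 ^ k) (orderOf i) :=
        Nat.Coprime.pow_left _ ((Nat.coprime_two_left).mpr hi)
      rw [Subgroup.orderOf_coe] at h2
      rw [h3] at h1
      have h5 : orderOf x = 1 := Nat.eq_one_of_dvd_coprimes h4 h1 h2
      rw [Subgroup.mem_bot]
      exact Subtype.ext (orderOf_eq_one_iff.mp h5)
    have hZidx : Z'.index = Nat.card J := by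
      have h1 : Z'.relIndex (J ⊔ Z') = Z'.relIndex J := Subgroup.relIndex_sup_right J Z'
      rw [hsup, Subgroup.relIndex_top_right] at h1
      rw [h1, Subgroup.relIndex, hinf, Subgroup.index_bot]
    have hcardZ : Nat.card Z' = orderOf i := by
      have := Nat.card_congr (Subgroup.subgroupOfEquivOfLe hZH).toEquiv
      change Nat.card (Z.subgroupOf H) = _
      rw [this, hZ, Nat.card_zpowers]
    have hJidx : J.index = orderOf i := by
      have h1 := Subgroup.card_mul_index J
      have h2 := Subgroup.card_mul_index Z'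
      rw [hZidx, hcardZ] at h2
      have hJpos : 0 < Nat.card J := Nat.card_pos
      apply Nat.eq_of_mul_eq_mul_left hJpos
      rw [h1, ← h2, mul_comm]
    rw [hJidx] at hdvd
    exact Odd.of_dvd_nat hi hdvd
  · have hne0 : (centralizer ({b} : Set H)).index ≠ 0 := Subgroup.index_ne_zero_of_finite
    have hne1 : (centralizer ({b} : Set H)).index ≠ 1 := by
      intro h1
      rw [Subgroup.index_eq_one] at h1
      have h2 : a ∈ centralizer ({b} : Set H) := by rw [h1]; trivial
      rw [mem_centralizer_singleton_iff] at h2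
      have h3 : i * y = y * i := congrArg Subtype.val h2
      apply hine
      rw [← hyi, ← h3]
      group
    omega

end Classes

/-- S4159, modulo Feit-Thompson. -/
theorem s4159_of_ft {G : Type u} [Group G] [Finite G]
    (hFT : ∀ (K : Type u) [Group K] [Finite K], Odd (Nat.card K) → Group.IsSolvable K)
    (h : ∀ (H : Subgroup G) (x y : H), 1 < (centralizer ({x} : Set H)).index →
      1 < (centralizer ({y} : Set H)).index →
      ¬ ((centralizer ({x} : Set H)).index).Coprime (centralizer ({y} : Set H)).index) :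
    Group.IsSolvable G := by
  by_contra hG
  obtain ⟨q, hqf, y, i, hq2, hy, ⟨j, hj⟩, hi1, hyi⟩ := exists_inverted_of_not_solvable hFT hG
  have hodd : Odd (orderOf i) := by
    rw [hj]; exact (hqf.out.odd_of_ne_two hq2).pow
  obtain ⟨H, a, b, -, -, h1, h2, h3⟩ := class_sizes_of_inverted hy hodd hi1 hyi
  refine h H a b (by omega) h3 ?_
  rw [h1]
  exact (Nat.coprime_two_left).mpr h2

end Cfsg.Agent.Lib.Components.InvLift
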