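import Mathlib
import Cfsg.Agent.Lib.Coprime.InvSylow
import Cfsg.Agent.Lib.Nilpotent.Fitting
import Cfsg.Agent.Lib.Nilpotent.Elements
import Cfsg.Agent.Lib.Components.InvLift
import Cfsg.Agent.S0117
import Cfsg.Agent.Lib.PGroup.StableClosure
import Cfsg.Agent.Lib.Basic.MaxEA
import Cfsg.Agent.Lib.Coprime.TIHallMain

/-!
# Coprime action: every proper invariant subgroup nilpotent
-/

set_option autoImplicit false
set_option linter.style.haveILetI false
set_option linter.unusedSectionVars false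
set_option linter.unusedVariables false

namespace Cfsg.Agent.Lib.Components.CoprimeMinNil

open Cfsg
open scoped commutatorElement

universe u v

section
variable (A : Type v) {G : Type u} [Group A] [Group G] [MulDistribMulAction A G]

/-- `A`-invariance of a subgroup. -/
def Inv (H : Subgroup G) : Prop := ∀ a : A, ∀ x ∈ H, a • x ∈ H

variable {A}

theorem Inv.smul_mem_iff {H : Subgroup G} (h : Inv A H) (a : A) (x : G) : a • x ∈ H ↔ x ∈ H := by
  constructor
  · intro hx
    have := h a⁻¹ _ hx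
    simpa using this
  · exact h a x

theorem inv_of_characteristic (H : Subgroup G) [hH : H.Characteristic] : Inv A H := by
  intro a x hx
  have h1 := hH.fixed (MulDistribMulAction.toMulAut A G a)
  rw [← h1] at hx
  exact hx

/-- The action on a quotient by an invariant normal subgroup. -/
@[reducible] def quotAction (N : Subgroup G) [N.Normal] (hN : Inv A N) : MulDistribMulAction A (G ⧸ N) where
  smul a q := QuotientGroup.map N N (MulDistribMulAction.toMonoidHom G a) (fun x hx => hN a x hx) q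
  one_smul q := by
    induction q using QuotientGroup.induction_on with
    | H x =>
      show (((1 : A) • x : G) : G ⧸ N) = x
      rw [one_smul]
  mul_smul a b q := by
    induction q using QuotientGroup.induction_on with
    | H x =>
      show (((a * b) • x : G) : G ⧸ N) = ((a • (b • x) : G) : G ⧸ N)
      rw [mul_smul]
  smul_mul a := map_mul _
  smul_one a := map_one _

theorem quot_smul_mk (N : Subgroup G) [N.Normal] (hN : Inv A N) (a : A) (x : G) :
    (quotAction N hN).toSMul.smul a (x : G ⧸ N) = ((a • x : G) : G ⧸ N) := rfl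

end

section inv_sylow

variable {A : Type v} {G : Type u} [Group A] [Group G] [Finite A] [Finite G] [MulDistribMulAction A G]

theorem exists_inv_sylow (hcop : (Nat.card A).Coprime (Nat.card G))
    (hS : Group.IsSolvable A ∨ Group.IsSolvable G) (p : ℕ) [Fact p.Prime] :
    ∃ P : Sylow p G, Inv A (P : Subgroup G) := by
  classical
  let φ : A →* MulAut G := MulDistribMulAction.toMulAut A G
  let X := G ⋊[φ] A
  let K : Subgroup X := (SemidirectProduct.inl : G →* X).range
  let A' : Subgroup X := (SemidirectProduct.inr : A →* X).range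
  haveI : Finite X := Finite.of_equiv (G × A) SemidirectProduct.equivProd.symm
  have hKn : K.Normal := by
    have : K = (SemidirectProduct.rightHom : X →* A).ker := SemidirectProduct.range_inl_eq_ker_rightHom
    rw [this]
    exact MonoidHom.normal_ker _
  have hAK : A' ≤ Subgroup.normalizer (K : Set X) := by
    rw [Subgroup.normalizer_eq_top]
    exact le_top
  let eK : G ≃* K := MonoidHom.ofInjective SemidirectProduct.inl_injective
  let eA : A ≃* A' := MonoidHom.ofInjective SemidirectProduct.inr_injective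
  have hcK : Nat.card K = Nat.card G := (Nat.card_congr eK.toEquiv).symm
  have hcA : Nat.card A' = Nat.card A := (Nat.card_congr eA.toEquiv).symm
  have hcop' : (Nat.card A').Coprime (Nat.card K) := by rw [hcK, hcA]; exact hcop
  have hS' : Group.IsSolvable A' ∨ Group.IsSolvable K := by
    rcases hS with h | h
    · left; exact Group.isSolvable_of_surjective (f := eA.toMonoidHom) eA.surjective
    · right; exact Group.isSolvable_of_surjective (f := eK.toMonoidHom) eK.surjective
  obtain ⟨P', hP'⟩ := Cfsg.Agent.Lib.Coprime.InvSylow.exists_invariant_sylow hAK hcop' hS' p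
  let P : Sylow p G := P'.mapSurjective (f := eK.symm.toMonoidHom) eK.symm.surjective
  refine ⟨P, ?_⟩
  intro a x hx
  have hxmem : (SemidirectProduct.inl x : X) ∈ (P' : Subgroup K).map K.subtype := by
    obtain ⟨y, hy, hyy⟩ := hx
    refine ⟨y, hy, ?_⟩
    have : (eK.symm y) = x := hyy
    rw [← this]
    have h2 := eK.apply_symm_apply y
    have h3 := congrArg Subtype.val h2
    exact h3.symm
  have hn := hP' (⟨a, rfl⟩ : (SemidirectProduct.inr a : X) ∈ A')
  rw [Subgroup.mem_normalizer_iff] at hn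
  have h1 := (hn _).mp hxmem
  have h2 : (SemidirectProduct.inr a : X) * SemidirectProduct.inl x * (SemidirectProduct.inr a)⁻¹
      = SemidirectProduct.inl (a • x) := by
    rw [← map_inv]
    exact (SemidirectProduct.inl_aut (φ := φ) a x).symm
  rw [h2] at h1
  obtain ⟨y, hy, hyy⟩ := h1
  refine ⟨y, hy, ?_⟩
  have h4 : eK (a • x) = y := by
    apply Subtype.ext
    exact hyy.symm
  show eK.symm y = a • x
  rw [← h4]
  exact eK.symm_apply_apply _

end inv_sylow

section general

variable {Y : Type u} [Group Y] [Finite Y]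

theorem hasNormalPComplement_of_isNilpotent (p : ℕ) [Fact p.Prime] [hn : Group.IsNilpotent Y] :
    HasNormalPComplement p Y := by
  classical
  obtain ⟨P⟩ : Nonempty (Sylow p Y) := inferInstance
  have hiff : Group.IsNilpotent Y ↔ ∀ (p : ℕ) (_ : Fact p.Prime) (P : Sylow p Y), (P : Subgroup Y).Normal :=
    (Group.isNilpotent_of_finite_tfae (G := Y)).out 0 3
  have hPn : (P : Subgroup Y).Normal := hiff.mp hn p inferInstance P
  obtain ⟨H, hH⟩ := Subgroup.exists_right_complement'_of_coprime (N := (P : Subgroup Y)) P.card_coprime_index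
  have hcH : Nat.card H = (P : Subgroup Y).index := hH.symm.index_eq_card.symm
  refine ⟨P, H, ?_, hH.symm⟩
  constructor
  intro n hnH g
  obtain ⟨⟨x, h⟩, hxh⟩ := hH.2 g
  have hxh' : x.1 * h.1 = g := hxh
  have hcop : (orderOf x.1).Coprime (orderOf (h.1 * n * h.1⁻¹)) := by
    have h1 : orderOf x.1 ∣ Nat.card P := by
      rw [Subgroup.orderOf_coe]
      exact orderOf_dvd_natCard x
    have hm : h.1 * n * h.1⁻¹ ∈ H := H.mul_mem (H.mul_mem h.2 hnH) (H.inv_mem h.2)
    have h2 : orderOf (h.1 * n * h.1⁻¹) ∣ Nat.card H := by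
      have := orderOf_dvd_natCard (⟨_, hm⟩ : H)
      rwa [Subgroup.orderOf_mk] at this
    rw [hcH] at h2
    exact Nat.Coprime.coprime_dvd_left h1 (Nat.Coprime.coprime_dvd_right h2 P.card_coprime_index)
  have hc := (Cfsg.Agent.Lib.Nilpotent.Elements.commute_of_coprime_orderOf hcop).eq
  have hm : h.1 * n * h.1⁻¹ ∈ H := H.mul_mem (H.mul_mem h.2 hnH) (H.inv_mem h.2)
  have : g * n * g⁻¹ = h.1 * n * h.1⁻¹ := by
    rw [← hxh']
    calc x.1 * h.1 * n * (x.1 * h.1)⁻¹ = x.1 * (h.1 * n * h.1⁻¹) * x.1⁻¹ := by group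
      _ = (h.1 * n * h.1⁻¹) * x.1 * x.1⁻¹ := by rw [hc]
      _ = h.1 * n * h.1⁻¹ := by group
  rw [this]
  exact hm

theorem solvable_of_normal_complements (h : ∀ q : ℕ, q.Prime → q ≠ 2 → HasNormalPComplement q Y) :
    Group.IsSolvable Y := by
  classical
  let I := {q : ℕ // q ∈ (Nat.card Y).primeFactors ∧ q ≠ 2}
  haveI : Finite I := Finite.of_injective (fun i : I => (⟨i.1, i.2.1⟩ : (Nat.card Y).primeFactors))
    (fun a b hab => Subtype.ext (congrArg (fun z : (Nat.card Y).primeFactors => z.1) hab))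
  have hI : ∀ i : I, i.1.Prime := fun i => Nat.prime_of_mem_primeFactors i.2.1
  choose P K hKn hKc using fun i : I => h i.1 (hI i) i.2.2
  haveI := hKn
  have hiK : ∀ i : I, Nat.card (Y ⧸ K i) = Nat.card (P i) := by
    intro i
    exact (hKc i).symm.index_eq_card ▸ rfl
  haveI hnil : ∀ i : I, Group.IsNilpotent (Y ⧸ K i) := by
    intro i
    haveI : Fact (i.1.Prime) := ⟨hI i⟩
    have hpg : IsPGroup i.1 (P i : Subgroup Y) := (P i).isPGroup'
    obtain ⟨n, hn⟩ := IsPGroup.iff_card.mp hpg
    have : IsPGroup i.1 (Y ⧸ K i) := IsPGroup.of_card (n := n) (by rw [hiK i]; exact hn)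
    exact this.isNilpotent
  let f : Y →* ∀ i : I, Y ⧸ K i := MonoidHom.pi (fun i => QuotientGroup.mk' (K i))
  have hker : ∀ x : Y, f x = 1 → ∀ i : I, x ∈ K i := by
    intro x hx i
    have := congrFun hx i
    exact (QuotientGroup.eq_one_iff x).mp this
  haveI hp2 : Fact (Nat.Prime 2) := ⟨Nat.prime_two⟩
  have hkerp : IsPGroup 2 f.ker := by
    intro x
    have hne : orderOf x.1 ≠ 0 := (orderOf_pos x.1).ne'
    have hall : ∀ {d : ℕ}, d.Prime → d ∣ orderOf x.1 → d = 2 := by
      intro d hd hdv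
      by_contra hd2
      have hdc : d ∣ Nat.card Y := hdv.trans (orderOf_dvd_natCard x.1)
      let i : I := ⟨d, Nat.mem_primeFactors.mpr ⟨hd, hdc, Nat.card_pos.ne'⟩, hd2⟩
      haveI : Fact (i.1.Prime) := ⟨hd⟩
      have hxK : x.1 ∈ K i := hker x.1 x.2 i
      have h1 : orderOf x.1 ∣ Nat.card (K i) := by
        have := orderOf_dvd_natCard (⟨x.1, hxK⟩ : K i)
        rwa [Subgroup.orderOf_mk] at this
      have h2 : Nat.card (K i) = (P i : Subgroup Y).index := (hKc i).index_eq_card.symm
      rw [h2] at h1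
      exact (P i).not_dvd_index (hdv.trans h1)
    have h3 := Nat.eq_prime_pow_of_unique_prime_dvd hne hall
    refine ⟨(orderOf x.1).primeFactorsList.length, ?_⟩
    apply Subtype.ext
    show x.1 ^ 2 ^ _ = 1
    rw [← h3]
    exact pow_orderOf_eq_one _
  haveI : Group.IsSolvable f.ker := by
    haveI := hkerp.isNilpotent
    infer_instance
  exact Group.isSolvable_of_ker_le_range f.ker.subtype f (by rw [Subgroup.range_subtype])

theorem centerThompsonOf_inv {X : Type u} [Group X] (p : ℕ) (e : X ≃* X) (P : Subgroup X)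
    (hP : ∀ x, e x ∈ P ↔ x ∈ P) {x : X} (hx : x ∈ centerThompsonOf p P) :
    e x ∈ centerThompsonOf p P := by
  have hPs : ∀ x, e.symm x ∈ P ↔ x ∈ P := by
    intro x
    rw [← hP (e.symm x)]
    simp
  let η : ↥P ≃* ↥P :=
    { toFun := fun y => ⟨e y.1, (hP _).mpr y.2⟩
      invFun := fun y => ⟨e.symm y.1, (hPs _).mpr y.2⟩
      left_inv := fun y => Subtype.ext (by simp)
      right_inv := fun y => Subtype.ext (by simp)
      map_mul' := fun y z => Subtype.ext (by simp) }
  have hJ := Cfsg.Agent.Lib.PGroup.StableClosure.thompson_map (p := p) η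
  have hJof : ∀ y, y ∈ thompsonSubgroupOf p P → e y ∈ thompsonSubgroupOf p P := by
    rintro _ ⟨y, hy, rfl⟩
    refine ⟨η y, ?_, rfl⟩
    rw [← hJ]
    exact ⟨y, hy, rfl⟩
  have hJof' : ∀ y, y ∈ thompsonSubgroupOf p P → e.symm y ∈ thompsonSubgroupOf p P := by
    rintro _ ⟨y, hy, rfl⟩
    rw [← hJ] at hy
    obtain ⟨z, hz, rfl⟩ := hy
    refine ⟨z, hz, ?_⟩
    show z.1 = e.symm (e z.1)
    simp
  refine ⟨hJof x hx.1, ?_⟩
  refine Subgroup.mem_centralizer_iff.mpr ?_
  intro y hy
  have h1 := Subgroup.mem_centralizer_iff.mp hx.2 (e.symm y) (hJof' y hy)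
  have h2 := congrArg e h1
  simpa using h2

theorem centerThompsonOf_ne_bot {X : Type u} [Group X] [Finite X] (p : ℕ) [Fact p.Prime] (P : Subgroup X)
    (hP : IsPGroup p P) (hne : P ≠ ⊥) : centerThompsonOf p P ≠ ⊥ := by
  classical
  haveI : Nontrivial P := (Subgroup.bot_or_nontrivial P).resolve_left hne
  obtain ⟨n, hn0, hn⟩ := hP.nontrivial_iff_card.mp inferInstance
  have hpc : p ∣ Nat.card P := by rw [hn]; exact dvd_pow_self p hn0.ne'
  obtain ⟨x, hx⟩ := exists_prime_orderOf_dvd_card' p hpc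
  obtain ⟨A, hA⟩ := Cfsg.Agent.Lib.Basic.MaxEA.exists_mem_maxEA (P := ↥P) p
  have hxEA : IsElementaryAbelian p (Subgroup.zpowers x) := by
    refine ⟨⟨⟨fun a b => ?_⟩⟩, ?_⟩
    · obtain ⟨a, ha⟩ := a
      obtain ⟨b, hb⟩ := b
      obtain ⟨i, rfl⟩ := Subgroup.mem_zpowers_iff.mp ha
      obtain ⟨j, rfl⟩ := Subgroup.mem_zpowers_iff.mp hb
      apply Subtype.ext
      show x ^ i * x ^ j = x ^ j * x ^ i
      rw [← zpow_add, ← zpow_add, add_comm]
    · intro a ha
      obtain ⟨i, rfl⟩ := Subgroup.mem_zpowers_iff.mp ha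
      rw [← zpow_natCast, zpow_comm, zpow_natCast, ← hx, pow_orderOf_eq_one, one_zpow]
  have hcA : p ≤ Nat.card A := by
    have h1 := hA.2 _ hxEA
    rw [Nat.card_zpowers, hx] at h1
    exact h1
  have hp1 : 1 < p := (Fact.out : p.Prime).one_lt
  have hJne : thompsonSubgroup p ↥P ≠ ⊥ := by
    intro hbot
    have hA' : A ≤ thompsonSubgroup p ↥P := Cfsg.Agent.Lib.Basic.MaxEA.le_thompsonSubgroup hA
    rw [hbot, le_bot_iff] at hA'
    rw [hA', Subgroup.card_bot] at hcA
    omega
  haveI : Nontrivial (thompsonSubgroup p ↥P) := (Subgroup.bot_or_nontrivial _).resolve_left hJne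
  have hJp : IsPGroup p (thompsonSubgroup p ↥P) := hP.to_subgroup _
  haveI := hJp.center_nontrivial
  obtain ⟨z, hz⟩ := exists_ne (1 : Subgroup.center (thompsonSubgroup p ↥P))
  intro hbot
  have hmem : z.1.1.1 ∈ centerThompsonOf p P := by
    refine ⟨⟨z.1.1, z.1.2, rfl⟩, ?_⟩
    refine Subgroup.mem_centralizer_iff.mpr ?_
    rintro _ ⟨y, hy, rfl⟩
    have := Subgroup.mem_center_iff.mp z.2 ⟨y, hy⟩
    exact congrArg (fun w : thompsonSubgroup p ↥P => w.1.1) this
  rw [hbot, Subgroup.mem_bot] at hmem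
  apply hz
  apply Subtype.ext
  apply Subtype.ext
  apply Subtype.ext
  exact hmem

end general

section main

variable {A : Type v} {G : Type u} [Group A] [Group G] [MulDistribMulAction A G]

theorem inv_normalizer {W : Subgroup G} (hW : Inv A W) : Inv A (Subgroup.normalizer (W : Set G)) := by
  intro a x hx
  rw [Subgroup.mem_normalizer_iff] at hx ⊢
  intro y
  have hy : y = a • (a⁻¹ • y) := by simp
  have h1 : (a • x) * y * (a • x)⁻¹ = a • (x * (a⁻¹ • y) * x⁻¹) := by
    conv_lhs => rw [hy]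
    simp only [smul_mul', smul_inv']
  have h2 : y ∈ W ↔ a⁻¹ • y ∈ W := by
    conv_lhs => rw [hy]
    exact hW.smul_mem_iff a _
  show y ∈ W ↔ (a • x) * y * (a • x)⁻¹ ∈ W
  rw [h1, hW.smul_mem_iff, h2]
  exact hx _

theorem inv_centerThompson (p : ℕ) {P : Subgroup G} (hP : Inv A P) : Inv A (centerThompsonOf p P) := by
  intro a x hx
  exact centerThompsonOf_inv p (MulDistribMulAction.toMulAut A G a) P (fun y => hP.smul_mem_iff a y) hx

theorem inv_sup {H K : Subgroup G} (hH : Inv A H) (hK : Inv A K) : Inv A (H ⊔ K) := by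
  intro a x hx
  have h1 : (H ⊔ K).map (MulDistribMulAction.toMulAut A G a).toMonoidHom ≤ H ⊔ K := by
    rw [Subgroup.map_sup]
    apply sup_le_sup
    · rintro _ ⟨y, hy, rfl⟩; exact hH a y hy
    · rintro _ ⟨y, hy, rfl⟩; exact hK a y hy
  exact h1 ⟨x, hx, rfl⟩

variable [Finite A] [Finite G]

theorem hnil_of_hmax
    (hmax : ∀ H : Subgroup G, H ≠ ⊤ → (∀ a : A, ∀ x ∈ H, a • x ∈ H) →
      (∀ K : Subgroup G, H < K → (∀ a : A, ∀ x ∈ K, a • x ∈ K) → K = ⊤) → Group.IsNilpotent H) :
    ∀ H : Subgroup G, H ≠ ⊤ → Inv A H → Group.IsNilpotent H := by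
  intro H hH hI
  classical
  let S : Set (Subgroup G) := {M | H ≤ M ∧ M ≠ ⊤ ∧ Inv A M}
  have hne : S.Nonempty := ⟨H, le_rfl, hH, hI⟩
  obtain ⟨M, hM⟩ := S.toFinite.exists_maximal hne
  refine Cfsg.Agent.Lib.Nilpotent.Fitting.isNilpotent_of_le hM.prop.1
    (hmax M hM.prop.2.1 hM.prop.2.2 ?_)
  intro K hMK hK
  by_contra hKt
  have hKS : K ∈ S := ⟨hM.prop.1.trans hMK.le, hKt, hK⟩
  exact absurd (hM.le_of_ge hKS hMK.le) (not_le_of_gt hMK)

/-- Comap of an invariant subgroup is invariant. -/
theorem inv_comap (N : Subgroup G) [N.Normal] (hN : Inv A N) (C : Subgroup (G ⧸ N))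
    (hC : @Inv A (G ⧸ N) _ _ (quotAction N hN) C) : Inv A (C.comap (QuotientGroup.mk' N)) := by
  intro a x hx
  exact hC a _ hx

theorem nil_quot {N : Subgroup G} [N.Normal] (hN : Inv A N)
    (hnil : ∀ H : Subgroup G, H ≠ ⊤ → Inv A H → Group.IsNilpotent H) (C : Subgroup (G ⧸ N)) (hCt : C ≠ ⊤)
    (hC : @Inv A (G ⧸ N) _ _ (quotAction N hN) C) : Group.IsNilpotent C := by
  have h1 : C.comap (QuotientGroup.mk' N) ≠ ⊤ := by
    intro h
    apply hCt
    rw [← Subgroup.map_comap_eq_self_of_surjective (QuotientGroup.mk'_surjective N) C, h]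
    rw [← MonoidHom.range_eq_map, QuotientGroup.range_mk']
  haveI h2 := hnil _ h1 (inv_comap N hN C hC)
  let f : C.comap (QuotientGroup.mk' N) →* C :=
    ((QuotientGroup.mk' N).comp (C.comap (QuotientGroup.mk' N)).subtype).codRestrict C (fun x => x.2)
  refine nilpotent_of_surjective f ?_
  rintro ⟨c, hc⟩
  obtain ⟨x, rfl⟩ := QuotientGroup.mk'_surjective N c
  exact ⟨⟨x, hc⟩, rfl⟩

/-- **Solvability.** -/
theorem solvable_part (hcop : (Nat.card A).Coprime (Nat.card G))
    (hS : Group.IsSolvable A ∨ Group.IsSolvable G)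
    (hnil : ∀ H : Subgroup G, H ≠ ⊤ → Inv A H → Group.IsNilpotent H) : Group.IsSolvable G := by
  classical
  obtain ⟨R, hRn, hRs, hRmax⟩ := Cfsg.Agent.Lib.Components.InvLift.exists_max_normal_solvable G
  haveI := hRn
  have hRle : ∀ N : Subgroup G, N.Normal → Group.IsSolvable N → N ≤ R := by
    intro N hNn hNs
    haveI := hNn
    have h1 : N ⊔ R = R := hRmax _ inferInstance
      (Cfsg.Agent.Lib.Coprime.TIHall.isSolvable_sup hNs hRs) le_sup_right
    exact h1 ▸ le_sup_left
  have hRinv : Inv A R := by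
    intro a x hx
    let e := MulDistribMulAction.toMulAut A G a
    have h1 : (R.map e.toMonoidHom).Normal := Subgroup.Normal.map hRn _ e.surjective
    have h2 : Group.IsSolvable (R.map e.toMonoidHom) :=
      Group.isSolvable_of_surjective (f := (R.equivMapOfInjective _ e.injective).toMonoidHom)
        (MulEquiv.surjective _)
    exact hRle _ h1 h2 ⟨x, hx, rfl⟩
  by_contra hns
  letI act : MulDistribMulAction A (G ⧸ R) := quotAction R hRinv
  have hext : Group.IsSolvable (G ⧸ R) → Group.IsSolvable G := by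
    intro h
    haveI := h
    exact Group.isSolvable_of_ker_le_range R.subtype (QuotientGroup.mk' R)
      (by rw [QuotientGroup.ker_mk', Subgroup.range_subtype])
  have hcopQ : (Nat.card A).Coprime (Nat.card (G ⧸ R)) :=
    Nat.Coprime.coprime_dvd_right ⟨Nat.card R, by
      rw [← Subgroup.card_mul_index R, mul_comm]; rfl⟩ hcop
  have hSQ : Group.IsSolvable A ∨ Group.IsSolvable (G ⧸ R) := by
    rcases hS with h | h
    · exact Or.inl h
    · right
      exact Group.isSolvable_of_surjective (f := QuotientGroup.mk' R) (QuotientGroup.mk'_surjective R)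
  have hcompl : ¬ ∀ q : ℕ, q.Prime → q ≠ 2 → HasNormalPComplement q (G ⧸ R) :=
    fun h => hns (hext (solvable_of_normal_complements h))
  push Not at hcompl
  obtain ⟨p, hp, hp2, hnc⟩ := hcompl
  haveI : Fact p.Prime := ⟨hp⟩
  obtain ⟨P, hP⟩ := exists_inv_sylow (A := A) (G := G ⧸ R) hcopQ hSQ p
  have hW := inv_centerThompson p hP
  set W : Subgroup (G ⧸ R) := centerThompsonOf p (P : Subgroup (G ⧸ R)) with hWdef
  have hNinv := inv_normalizer hW
  have hT : Subgroup.normalizer (W : Set (G ⧸ R)) = ⊤ := by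
    by_contra hne
    haveI := nil_quot hRinv hnil _ hne hNinv
    apply hnc
    rw [Cfsg.Agent.S0117.result hp2 P]
    exact hasNormalPComplement_of_isNilpotent p
  have hWn : W.Normal := Subgroup.normalizer_eq_top_iff.mp hT
  have hPne : (P : Subgroup (G ⧸ R)) ≠ ⊥ := by
    intro hb
    apply hnc
    refine ⟨P, ⊤, inferInstance, ?_⟩
    rw [hb]
    exact Subgroup.isComplement'_top_bot
  have hWne := centerThompsonOf_ne_bot p (P : Subgroup (G ⧸ R)) P.isPGroup' hPne
  apply hWne
  -- `W` is a normal `p`-subgroup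
  have hWp : IsPGroup p W := by
    have hle : W ≤ (P : Subgroup (G ⧸ R)) := by
      intro x hx
      obtain ⟨y, _, rfl⟩ := hx.1
      exact y.2
    exact P.isPGroup'.to_le hle
  haveI : Group.IsNilpotent W := hWp.isNilpotent
  have hWs : Group.IsSolvable (W.comap (QuotientGroup.mk' R)) := by
    let f : W.comap (QuotientGroup.mk' R) →* W :=
      ((QuotientGroup.mk' R).comp (W.comap (QuotientGroup.mk' R)).subtype).codRestrict W (fun x => x.2)
    let g : R →* W.comap (QuotientGroup.mk' R) := Subgroup.inclusion (by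
      intro x hx
      have : QuotientGroup.mk' R x = 1 := (QuotientGroup.eq_one_iff x).mpr hx
      show QuotientGroup.mk' R x ∈ W
      rw [this]; exact W.one_mem)
    refine Group.isSolvable_of_ker_le_range g f ?_
    intro x hx
    have h1 : QuotientGroup.mk' R x.1 = 1 := congrArg Subtype.val hx
    exact ⟨⟨x.1, (QuotientGroup.eq_one_iff _).mp h1⟩, rfl⟩
  have hle := hRle (W.comap (QuotientGroup.mk' R)) inferInstance hWs
  rw [eq_bot_iff]
  intro y hy
  obtain ⟨x, rfl⟩ := QuotientGroup.mk'_surjective R y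
  exact (Subgroup.mem_bot).mpr ((QuotientGroup.eq_one_iff x).mpr (hle hy))

theorem card_eq_of_sup_top (R S : Subgroup G) [S.Normal] (h : R ⊔ S = ⊤)
    (hc : (Nat.card R).Coprime (Nat.card S)) : Nat.card G = Nat.card R * Nat.card S := by
  have h1 : S.index = Nat.card R := by
    have h2 : S.relIndex (R ⊔ S) = S.relIndex R := Subgroup.relIndex_sup_right R S
    rw [h, Subgroup.relIndex_top_right] at h2
    rw [h2, Subgroup.relIndex]
    have h3 : S.subgroupOf R = ⊥ := by
      rw [eq_bot_iff]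
      intro x hx
      have hxS : x.1 ∈ S := hx
      have hd1 : orderOf x ∣ Nat.card R := orderOf_dvd_natCard x
      have hd2 : orderOf x ∣ Nat.card S := by
        have := orderOf_dvd_natCard (⟨x.1, hxS⟩ : S)
        rwa [Subgroup.orderOf_mk, Subgroup.orderOf_coe] at this
      have hd : orderOf x = 1 := Nat.eq_one_of_dvd_coprimes hc hd1 hd2
      exact (Subgroup.mem_bot).mpr (orderOf_eq_one_iff.mp hd)
    rw [h3, Subgroup.index_bot]
  rw [← Subgroup.card_mul_index S, h1, mul_comm]

/-- **Structure** of a solvable group all of whose proper invariant subgroups are nilpotent. -/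
theorem structure_part (hcop : (Nat.card A).Coprime (Nat.card G))
    (hS : Group.IsSolvable A ∨ Group.IsSolvable G)
    (hnil : ∀ H : Subgroup G, H ≠ ⊤ → Inv A H → Group.IsNilpotent H)
    (hsol : Group.IsSolvable G) (hG : ¬ Group.IsNilpotent G) :
    (∃ p q a b : ℕ, p.Prime ∧ q.Prime ∧ p ≠ q ∧ Nat.card G = p ^ a * q ^ b) ∧
      ∃ (p : ℕ) (P : Sylow p G), p.Prime ∧ p ∣ Nat.card G ∧ (P : Subgroup G).Normal ∧
        (∀ a : A, ∀ x ∈ (P : Subgroup G), a • x ∈ (P : Subgroup G)) := by
  classical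
  set F : Subgroup G := fittingSubgroup G with hF
  haveI hFn : F.Normal := Cfsg.Agent.Lib.Nilpotent.Fitting.fittingSubgroup_normal
  have hFnil : Group.IsNilpotent F := Cfsg.Agent.Lib.Nilpotent.Fitting.isNilpotent_fittingSubgroup
  have hFinv : Inv A F := by
    intro a x hx
    let e := MulDistribMulAction.toMulAut A G a
    haveI h1 : (F.map e.toMonoidHom).Normal := Subgroup.Normal.map hFn _ e.surjective
    have h2 : Group.IsNilpotent (F.map e.toMonoidHom) :=
      nilpotent_of_surjective (F.equivMapOfInjective _ e.injective).toMonoidHom (MulEquiv.surjective _)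
    exact Cfsg.Agent.Lib.Nilpotent.Fitting.le_fittingSubgroup h2 ⟨x, hx, rfl⟩
  have hFt : F ≠ ⊤ := by
    intro h
    apply hG
    rw [h] at hFnil
    exact nilpotent_of_surjective (Subgroup.topEquiv (G := G)).toMonoidHom (MulEquiv.surjective _)
  letI act : MulDistribMulAction A (G ⧸ F) := quotAction F hFinv
  have keyF : ∀ C : Subgroup (G ⧸ F), C.Normal → Inv A C → C = ⊥ ∨ C = ⊤ := by
    intro C hCn hCi
    by_cases hC : C = ⊤
    · exact Or.inr hC
    left
    haveI := hCn
    have hM : C.comap (QuotientGroup.mk' F) ≠ ⊤ := by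
      intro h
      apply hC
      rw [← Subgroup.map_comap_eq_self_of_surjective (QuotientGroup.mk'_surjective F) C, h]
      rw [← MonoidHom.range_eq_map, QuotientGroup.range_mk']
    have hMn := hnil _ hM (inv_comap F hFinv C hCi)
    have hle := Cfsg.Agent.Lib.Nilpotent.Fitting.le_fittingSubgroup hMn
    rw [eq_bot_iff]
    intro y hy
    obtain ⟨x, rfl⟩ := QuotientGroup.mk'_surjective F y
    exact (Subgroup.mem_bot).mpr ((QuotientGroup.eq_one_iff x).mpr (hle hy))
  haveI hQnt : Nontrivial (G ⧸ F) := by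
    rw [← not_subsingleton_iff_nontrivial]
    intro hsub
    apply hFt
    rw [eq_top_iff]
    intro x _
    have : QuotientGroup.mk' F x = 1 := Subsingleton.elim _ _
    exact (QuotientGroup.eq_one_iff x).mp this
  haveI hQs : Group.IsSolvable (G ⧸ F) :=
    Group.isSolvable_of_surjective (f := QuotientGroup.mk' F) (QuotientGroup.mk'_surjective F)
  have hcomm : commutator (G ⧸ F) = ⊥ := by
    rcases keyF (commutator _) inferInstance (inv_of_characteristic _) with h | h
    · exact h
    · exact absurd h (Group.IsSolvable.commutator_lt_top_of_nontrivial _).ne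
  have hab : ∀ x y : G ⧸ F, x * y = y * x := by
    intro x y
    have h1 : ⁅x, y⁆ ∈ commutator (G ⧸ F) := Subgroup.commutator_mem_commutator (Subgroup.mem_top x) (Subgroup.mem_top y)
    rw [hcomm, Subgroup.mem_bot, commutatorElement_eq_one_iff_mul_comm] at h1
    exact h1
  obtain ⟨r, hr, hrd⟩ := Nat.exists_prime_and_dvd (Finite.one_lt_card (α := G ⧸ F)).ne'
  haveI hrf : Fact r.Prime := ⟨hr⟩
  obtain ⟨Pr⟩ : Nonempty (Sylow r (G ⧸ F)) := inferInstance
  have hPrn : (Pr : Subgroup (G ⧸ F)).Normal := by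
    constructor
    intro n hn g
    rw [hab g n, mul_assoc, mul_inv_cancel, mul_one]
    exact hn
  haveI hPrc : (Pr : Subgroup (G ⧸ F)).Characteristic := Sylow.characteristic_of_normal Pr hPrn
  have hPrne : (Pr : Subgroup (G ⧸ F)) ≠ ⊥ := by
    intro hb
    have h1 := Sylow.card_eq_multiplicity Pr
    rw [hb, Subgroup.card_bot] at h1
    have h2 : (Nat.card (G ⧸ F)).factorization r ≠ 0 :=
      (hr.factorization_pos_of_dvd Nat.card_pos.ne' hrd).ne'
    have h3 : r ∣ 1 := by
      rw [h1]; exact dvd_pow_self r h2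
    exact hr.one_lt.ne' (Nat.dvd_one.mp h3)
  have hPrt : (Pr : Subgroup (G ⧸ F)) = ⊤ := by
    rcases keyF _ hPrn (inv_of_characteristic _) with h | h
    · exact absurd h hPrne
    · exact h
  have hQr : ∀ x : G ⧸ F, ∃ k : ℕ, x ^ r ^ k = 1 := by
    intro x
    have hx : x ∈ (Pr : Subgroup (G ⧸ F)) := by rw [hPrt]; trivial
    obtain ⟨k, hk⟩ := Pr.isPGroup' ⟨x, hx⟩
    exact ⟨k, congrArg Subtype.val hk⟩
  have hsylF : ∀ q : ℕ, q.Prime → q ≠ r → ∀ S : Sylow q G, (S : Subgroup G) ≤ F := by
    intro q hq hqr S x hx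
    obtain ⟨m, hm⟩ := S.isPGroup' ⟨x, hx⟩
    have hm' : x ^ q ^ m = 1 := congrArg Subtype.val hm
    obtain ⟨k, hk⟩ := hQr (x : G ⧸ F)
    have h1 : orderOf (x : G ⧸ F) ∣ r ^ k := orderOf_dvd_of_pow_eq_one hk
    have h2 : orderOf (x : G ⧸ F) ∣ q ^ m := by
      apply orderOf_dvd_of_pow_eq_one
      rw [← QuotientGroup.mk_pow, hm']
      rfl
    have h3 : (r ^ k).Coprime (q ^ m) :=
      Nat.Coprime.pow _ _ ((Nat.coprime_primes hr hq).mpr (Ne.symm hqr))
    have h4 := Nat.eq_one_of_dvd_coprimes h3 h1 h2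
    have h5 : (x : G ⧸ F) = 1 := orderOf_eq_one_iff.mp h4
    exact (QuotientGroup.eq_one_iff x).mp h5
  have hiffF : Group.IsNilpotent F ↔ ∀ (p : ℕ) (_ : Fact p.Prime) (P : Sylow p F), (P : Subgroup F).Normal :=
    (Group.isNilpotent_of_finite_tfae (G := F)).out 0 3
  have huniq : ∀ q : ℕ, q.Prime → q ≠ r → Subsingleton (Sylow q G) := by
    intro q hq hqr
    haveI : Fact q.Prime := ⟨hq⟩
    obtain ⟨T⟩ : Nonempty (Sylow q F) := inferInstance
    have hTn := hiffF.mp hFnil q inferInstance T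
    haveI hTs : Subsingleton (Sylow q F) := @Unique.instSubsingleton _ (Sylow.unique_of_normal T hTn)
    have hV : IsPGroup q ((T : Subgroup F).map F.subtype) := T.isPGroup'.map _
    have key : ∀ S : Sylow q G, (S : Subgroup G) = (T : Subgroup F).map F.subtype := by
      intro S
      have h1 : IsPGroup q ((S : Subgroup G).subgroupOf F) := by
        intro x
        obtain ⟨k, hk⟩ := S.isPGroup' ⟨x.1.1, x.2⟩
        have hk' : x.1.1 ^ q ^ k = 1 := congrArg Subtype.val hk
        exact ⟨k, Subtype.ext (Subtype.ext (by simpa using hk'))⟩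
      obtain ⟨T', hT'⟩ := h1.exists_le_sylow
      have hTT : T' = T := Subsingleton.elim _ _
      subst hTT
      have hle : (S : Subgroup G) ≤ (T' : Subgroup F).map F.subtype := by
        intro x hx
        have hxF := hsylF q hq hqr S hx
        exact ⟨⟨x, hxF⟩, hT' hx, rfl⟩
      exact (S.is_maximal' hV hle).symm
    exact ⟨fun S S' => Sylow.ext ((key S).trans (key S').symm)⟩
  have hqex : ∃ q : ℕ, q.Prime ∧ q ≠ r ∧ q ∣ Nat.card G := by
    by_contra hno
    push Not at hno
    have hall : ∀ {d : ℕ}, d.Prime → d ∣ Nat.card G → d = r := by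
      intro d hd hdv
      by_contra h
      exact hno d hd h hdv
    have h1 := Nat.eq_prime_pow_of_unique_prime_dvd Nat.card_pos.ne' hall
    have hp : IsPGroup r G := IsPGroup.of_card h1
    exact hG hp.isNilpotent
  obtain ⟨q₀, hq₀, hq₀r, hq₀d⟩ := hqex
  haveI : Fact q₀.Prime := ⟨hq₀⟩
  obtain ⟨S₀⟩ : Nonempty (Sylow q₀ G) := inferInstance
  haveI := huniq q₀ hq₀ hq₀r
  have p3 : ∃ (p : ℕ) (P : Sylow p G), p.Prime ∧ p ∣ Nat.card G ∧ (P : Subgroup G).Normal ∧
        (∀ a : A, ∀ x ∈ (P : Subgroup G), a • x ∈ (P : Subgroup G)) :=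
    ⟨q₀, S₀, hq₀, hq₀d, S₀.normal_of_subsingleton, inv_of_characteristic _⟩
  refine ⟨?_, p3⟩
  obtain ⟨R, hRinv⟩ := exists_inv_sylow hcop hS r
  by_cases h : ∃ q : ℕ, q.Prime ∧ q ≠ r ∧ ∃ S : Sylow q G, (R : Subgroup G) ⊔ (S : Subgroup G) = ⊤
  · obtain ⟨q, hq, hqr, S, hRS⟩ := h
    haveI : Fact q.Prime := ⟨hq⟩
    haveI := huniq q hq hqr
    obtain ⟨a, ha⟩ := IsPGroup.iff_card.mp R.isPGroup'
    obtain ⟨b, hb⟩ := IsPGroup.iff_card.mp S.isPGroup'
    refine ⟨r, q, a, b, hr, hq, Ne.symm hqr, ?_⟩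
    haveI : (S : Subgroup G).Normal := S.normal_of_subsingleton
    rw [card_eq_of_sup_top (R : Subgroup G) (S : Subgroup G) hRS (by
      rw [ha, hb]
      exact Nat.Coprime.pow _ _ ((Nat.coprime_primes hr hq).mpr (Ne.symm hqr))), ha, hb]
  · exfalso
    push Not at h
    have hnorm : ∀ q : ℕ, q.Prime → q ≠ r → ∀ S : Sylow q G,
        (S : Subgroup G) ≤ Subgroup.normalizer ((R : Subgroup G) : Set G) := by
      intro q hq hqr S y hy
      haveI : Fact q.Prime := ⟨hq⟩
      haveI := huniq q hq hqr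
      have hSinv : Inv A (S : Subgroup G) := inv_of_characteristic _
      haveI hn := hnil _ (h q hq hqr S) (inv_sup hRinv hSinv)
      have hc : ∀ u ∈ (R : Subgroup G), ∀ v ∈ (S : Subgroup G), u * v = v * u := by
        intro u hu v hv
        obtain ⟨k, hk⟩ := R.isPGroup' ⟨u, hu⟩
        obtain ⟨m, hm⟩ := S.isPGroup' ⟨v, hv⟩
        have hk' : u ^ r ^ k = 1 := congrArg Subtype.val hk
        have hm' : v ^ q ^ m = 1 := congrArg Subtype.val hm
        let u' : ↥((R : Subgroup G) ⊔ (S : Subgroup G)) := ⟨u, (le_sup_left : (R : Subgroup G) ≤ _) hu⟩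
        let v' : ↥((R : Subgroup G) ⊔ (S : Subgroup G)) := ⟨v, (le_sup_right : (S : Subgroup G) ≤ _) hv⟩
        have h1 : orderOf u' ∣ r ^ k := orderOf_dvd_of_pow_eq_one (Subtype.ext hk')
        have h2 : orderOf v' ∣ q ^ m := orderOf_dvd_of_pow_eq_one (Subtype.ext hm')
        have h3 : (orderOf u').Coprime (orderOf v') :=
          Nat.Coprime.coprime_dvd_left h1 (Nat.Coprime.coprime_dvd_right h2
            (Nat.Coprime.pow _ _ ((Nat.coprime_primes hr hq).mpr (Ne.symm hqr))))
        have h4 := (Cfsg.Agent.Lib.Nilpotent.Elements.commute_of_coprime_orderOf h3).eq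
        exact congrArg Subtype.val h4
      rw [Subgroup.mem_normalizer_iff]
      intro x
      constructor
      · intro hx
        show y * x * y⁻¹ ∈ (R : Subgroup G)
        rw [← hc x hx y hy, mul_inv_cancel_right]
        exact hx
      · intro hx
        have hx' : y * x * y⁻¹ ∈ (R : Subgroup G) := hx
        have h5 := hc _ hx' y⁻¹ ((S : Subgroup G).inv_mem hy)
        have h6 : x = y⁻¹ * (y * x * y⁻¹) * y := by group
        rw [h6, ← h5, inv_mul_cancel_right]
        exact hx'
    have hNt : Subgroup.normalizer ((R : Subgroup G) : Set G) = ⊤ := by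
      rw [← Subgroup.index_eq_one]
      by_contra h1
      obtain ⟨d, hd, hdv⟩ := Nat.exists_prime_and_dvd h1
      haveI : Fact d.Prime := ⟨hd⟩
      by_cases hdr : d = r
      · subst hdr
        exact R.not_dvd_index (hdv.trans (Subgroup.index_dvd_of_le Subgroup.le_normalizer))
      · obtain ⟨S⟩ : Nonempty (Sylow d G) := inferInstance
        exact S.not_dvd_index (hdv.trans (Subgroup.index_dvd_of_le (hnorm d hd hdr S)))
    have hRn : (R : Subgroup G).Normal := Subgroup.normalizer_eq_top_iff.mp hNt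
    have hiff : Group.IsNilpotent G ↔ ∀ (p : ℕ) (_ : Fact p.Prime) (P : Sylow p G), (P : Subgroup G).Normal :=
      (Group.isNilpotent_of_finite_tfae (G := G)).out 0 3
    apply hG
    rw [hiff]
    intro p hp P
    by_cases hpr : p = r
    · subst hpr
      haveI : Subsingleton (Sylow p G) := @Unique.instSubsingleton _ (Sylow.unique_of_normal R hRn)
      exact P.normal_of_subsingleton
    · haveI := huniq p hp.out hpr
      exact P.normal_of_subsingleton

/-- **Coprime action, every maximal invariant subgroup nilpotent, `G` not nilpotent.** -/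
theorem coprime_min_nonnil (hcop : (Nat.card A).Coprime (Nat.card G))
    (hS : Group.IsSolvable A ∨ Group.IsSolvable G)
    (hmax : ∀ H : Subgroup G, H ≠ ⊤ → (∀ a : A, ∀ x ∈ H, a • x ∈ H) →
      (∀ K : Subgroup G, H < K → (∀ a : A, ∀ x ∈ K, a • x ∈ K) → K = ⊤) → Group.IsNilpotent H)
    (hG : ¬ Group.IsNilpotent G) :
    Group.IsSolvable G ∧
      (∃ p q a b : ℕ, p.Prime ∧ q.Prime ∧ p ≠ q ∧ Nat.card G = p ^ a * q ^ b) ∧
      ∃ (p : ℕ) (P : Sylow p G), p.Prime ∧ p ∣ Nat.card G ∧ (P : Subgroup G).Normal ∧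
        (∀ a : A, ∀ x ∈ (P : Subgroup G), a • x ∈ (P : Subgroup G)) := by
  have hnil := hnil_of_hmax hmax
  have hsol := solvable_part hcop hS hnil
  exact ⟨hsol, structure_part hcop hS hnil hsol hG⟩

/-- One of two groups of coprime orders is solvable (given Odd Order for both). -/
theorem solvable_or_of_coprime (hA : Odd (Nat.card A) → Group.IsSolvable A)
    (hG : Odd (Nat.card G) → Group.IsSolvable G) (hcop : (Nat.card A).Coprime (Nat.card G)) :
    Group.IsSolvable A ∨ Group.IsSolvable G := by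
  by_cases h : Odd (Nat.card A)
  · exact Or.inl (hA h)
  · right
    apply hG
    rw [Nat.not_odd_iff_even] at h
    by_contra h2
    rw [Nat.not_odd_iff_even] at h2
    have := Nat.dvd_gcd h.two_dvd h2.two_dvd
    rw [hcop] at this
    omega

end main

end Cfsg.Agent.Lib.Components.CoprimeMinNil
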