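import Mathlib
import Cfsg.Prelude.Def_Local
import Cfsg.Agent.Lib.Components.FStar2
import Cfsg.Agent.Lib.Components.LayerProduct
import Cfsg.Agent.Lib.Coprime.Coset
import Cfsg.Agent.Lib.Coprime.Three
import Cfsg.Agent.Lib.Components.FStar

set_option autoImplicit false
open Cfsg

namespace Cfsg.Agent.Lib.Components.CoprimeStar

open Subgroup
open scoped commutatorElement
open Cfsg.Agent.Lib.Components.Layer
open Cfsg.Agent.Lib.Coprime.Coset
open Cfsg.Agent.Lib.Coprime.Three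

variable {G : Type*} [Group G]

theorem centralizer_sup_eq (A B : Subgroup G) :
    centralizer ((A ⊔ B : Subgroup G) : Set G) = centralizer (A : Set G) ⊓ centralizer (B : Set G) := by
  apply le_antisymm
  · exact le_inf (centralizer_le (le_sup_left : A ≤ A ⊔ B)) (centralizer_le (le_sup_right : B ≤ A ⊔ B))
  · intro x hx
    have h : A ⊔ B ≤ centralizer ((zpowers x : Subgroup G) : Set G) := by
      refine sup_le ?_ ?_
      · rw [Subgroup.le_centralizer_iff, zpowers_le]; exact hx.1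
      · rw [Subgroup.le_centralizer_iff, zpowers_le]; exact hx.2
    rw [Subgroup.le_centralizer_iff, zpowers_le] at h
    exact h

/-- The structure of `[E, Y]` for a product `E` of perfect commuting subgroups permuted by `Y`. -/
theorem layer_commutator_aux [Finite G] {𝓚 : Set (Subgroup G)} {Y : Subgroup G}
    (hperf : ∀ K ∈ 𝓚, ⁅K, K⁆ = K)
    (hcomm : ∀ K ∈ 𝓚, ∀ K' ∈ 𝓚, K ≠ K' → ⁅K, K'⁆ = ⊥)
    (hperm : ∀ K ∈ 𝓚, ∀ y ∈ Y, K.map (MulAut.conj y).toMonoidHom ∈ 𝓚)
    (hdich : ∀ K ∈ 𝓚, ∀ A : Subgroup G, A ≤ sSup 𝓚 →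
      sSup 𝓚 ≤ normalizer (A : Set G) → K ≤ A ∨ ⁅K, A⁆ = ⊥) :
    Y ≤ normalizer ((sSup 𝓚 : Subgroup G) : Set G) ∧
    ⁅⁅sSup 𝓚, Y⁆, Y⁆ = ⁅sSup 𝓚, Y⁆ ∧ ⁅⁅sSup 𝓚, Y⁆, ⁅sSup 𝓚, Y⁆⁆ = ⁅sSup 𝓚, Y⁆ ∧
    ∃ E₀ : Subgroup G, E₀ ≤ sSup 𝓚 ∧ E₀ ≤ centralizer (Y : Set G) ∧ ⁅⁅sSup 𝓚, Y⁆, E₀⁆ = ⊥ ∧
      ⁅sSup 𝓚, Y⁆ ⊔ E₀ = sSup 𝓚 := by
  classical
  set E := sSup 𝓚 with hE
  have hYE : Y ≤ normalizer (E : Set G) := by
    intro y hy
    apply mem_normalizer_of_conj_mem
    have : E ≤ E.comap (MulAut.conj y).toMonoidHom := by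
      apply sSup_le
      intro K hK x hx
      have h1 := hperm K hK y hy
      have h2 : K.map (MulAut.conj y).toMonoidHom ≤ E := le_sSup h1
      exact h2 ⟨x, hx, rfl⟩
    exact fun v hv => this hv
  let 𝓚₁ : Set (Subgroup G) := {K | K ∈ 𝓚 ∧ ⁅K, Y⁆ ≠ ⊥}
  let 𝓚₀ : Set (Subgroup G) := {K | K ∈ 𝓚 ∧ ⁅K, Y⁆ = ⊥}
  set E₁ := sSup 𝓚₁ with hE₁
  set E₀ := sSup 𝓚₀ with hE₀
  have hE10 : E₁ ⊔ E₀ = E := by
    rw [hE₁, hE₀, ← sSup_union, hE]
    congr 1
    ext K
    constructor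
    · rintro (h | h) <;> exact h.1
    · intro h
      by_cases h2 : ⁅K, Y⁆ = ⊥
      · exact Or.inr ⟨h, h2⟩
      · exact Or.inl ⟨h, h2⟩
  have hE0C : E₀ ≤ centralizer (Y : Set G) := by
    apply sSup_le
    intro K hK
    rw [← Subgroup.commutator_eq_bot_iff_le_centralizer]
    exact hK.2
  have hcentr : E₀ ≤ centralizer (E₁ : Set G) := by
    apply sSup_le
    intro K₀ hK₀
    rw [Subgroup.le_centralizer_iff]
    apply sSup_le
    intro K₁ hK₁
    rw [← Subgroup.commutator_eq_bot_iff_le_centralizer]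
    refine hcomm K₁ hK₁.1 K₀ hK₀.1 ?_
    rintro rfl
    exact hK₁.2 hK₀.2
  have hcomm10 : ∀ a ∈ E₁, ∀ b ∈ E₀, a * b = b * a := by
    intro a ha b hb
    exact ((Subgroup.mem_centralizer_iff.1 (hcentr hb)) a ha).symm ▸ rfl
  have hperm1 : ∀ K ∈ 𝓚₁, ∀ y ∈ Y, K.map (MulAut.conj y).toMonoidHom ∈ 𝓚₁ := by
    intro K hK y hy
    refine ⟨hperm K hK.1 y hy, ?_⟩
    intro h0
    apply hK.2
    have hYy : Y.map (MulAut.conj y).toMonoidHom = Y :=
      mem_normalizer_iff_map_conj.1 (le_normalizer hy)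
    rw [← hYy, ← Subgroup.map_commutator] at h0
    exact (Subgroup.map_eq_bot_iff_of_injective _ (MulAut.conj y).injective).1 h0
  have hYE1 : Y ≤ normalizer (E₁ : Set G) := by
    intro y hy
    apply mem_normalizer_of_conj_mem
    have : E₁ ≤ E₁.comap (MulAut.conj y).toMonoidHom := by
      apply sSup_le
      intro K hK x hx
      have h1 := hperm1 K hK y hy
      have h2 : K.map (MulAut.conj y).toMonoidHom ≤ E₁ := le_sSup h1
      exact h2 ⟨x, hx, rfl⟩
    exact fun v hv => this hv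
  have h1 : ⁅E₁, Y⁆ ≤ E₁ := commutator_le_left_of_le_normalizer hYE1
  have hA : ⁅E, Y⁆ ≤ ⁅E₁, Y⁆ := by
    rw [Subgroup.commutator_le]
    intro e he y hy
    rw [← hE10] at he
    obtain ⟨a, ha, b, hb, rfl⟩ :=
      Cfsg.Agent.Lib.Components.LayerProduct.mem_sup_of_commute hcomm10 he
    have hby : b * y = y * b := by
      exact (Subgroup.mem_centralizer_iff.1 (hE0C hb) y hy).symm
    have : ⁅a * b, y⁆ = ⁅a, y⁆ := by
      simp only [commutatorElement_def, mul_inv_rev]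
      calc a * b * y * (b⁻¹ * a⁻¹) * y⁻¹ = a * (b * y) * b⁻¹ * a⁻¹ * y⁻¹ := by group
        _ = a * (y * b) * b⁻¹ * a⁻¹ * y⁻¹ := by rw [hby]
        _ = a * y * a⁻¹ * y⁻¹ := by group
    rw [this]
    exact Subgroup.commutator_mem_commutator ha hy
  have hAE : ⁅E, Y⁆ ≤ E := commutator_le_left_of_le_normalizer hYE
  have hEA : E ≤ normalizer ((⁅E, Y⁆ : Subgroup G) : Set G) := commutator_le_normalizer_left hYE
  have hE1A : E₁ ≤ ⁅E, Y⁆ := by
    apply sSup_le
    intro K hK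
    have hKE : K ≤ E := le_sSup hK.1
    rcases hdich K hK.1 _ hAE hEA with h | h
    · exact h
    · exfalso
      apply hK.2
      apply commutator_eq_bot_of_perfect (hperf K hK.1)
      have hle : ⁅K, Y⁆ ≤ ⁅E, Y⁆ := Subgroup.commutator_mono hKE le_rfl
      have hle2 : ⁅⁅K, Y⁆, K⁆ ≤ ⁅⁅E, Y⁆, K⁆ := Subgroup.commutator_mono hle le_rfl
      have h2 : ⁅⁅E, Y⁆, K⁆ = ⊥ := by
        rw [Subgroup.commutator_comm]
        exact h
      rw [h2] at hle2
      exact le_bot_iff.1 hle2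
  have hAeq : ⁅E, Y⁆ = E₁ := le_antisymm (hA.trans h1) hE1A
  have hcc : ⁅E₁, Y⁆ = E₁ := le_antisymm h1 (hE1A.trans hA)
  refine ⟨hYE, ?_, ?_, E₀, ?_, hE0C, ?_, ?_⟩
  · rw [hAeq, hcc]
  · rw [hAeq]
    apply le_antisymm
    · exact commutator_le_left_of_le_normalizer le_normalizer
    · apply sSup_le
      intro K hK
      have hKE : K ≤ E₁ := le_sSup hK
      calc K = ⁅K, K⁆ := (hperf K hK.1).symm
        _ ≤ ⁅E₁, E₁⁆ := Subgroup.commutator_mono hKE hKE
  · rw [← hE10]; exact le_sup_right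
  · rw [hAeq, Subgroup.commutator_eq_bot_iff_le_centralizer, Subgroup.le_centralizer_iff]
    exact hcentr
  · rw [hAeq]; exact hE10

/-- `[A B, Y] = [A, Y][B, Y]` for commuting `Y`-invariant `A`, `B`. -/
theorem commutator_sup_of_commute [Finite G] {A B Y : Subgroup G} (hAB : ∀ a ∈ A, ∀ b ∈ B, a * b = b * a)
    (hB : Y ≤ normalizer (B : Set G)) : ⁅A ⊔ B, Y⁆ = ⁅A, Y⁆ ⊔ ⁅B, Y⁆ := by
  apply le_antisymm
  · rw [Subgroup.commutator_le]
    intro x hx y hy
    obtain ⟨a, ha, b, hb, rfl⟩ :=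
      Cfsg.Agent.Lib.Components.LayerProduct.mem_sup_of_commute hAB hx
    have hbc : ⁅b, y⁆ ∈ B := commutator_le_left_of_le_normalizer hB
      (Subgroup.commutator_mem_commutator hb hy)
    rw [commutator_mul_left_of_comm a b y (hAB a ha _ hbc)]
    exact mul_mem (Subgroup.mem_sup_right (Subgroup.commutator_mem_commutator hb hy))
      (Subgroup.mem_sup_left (Subgroup.commutator_mem_commutator ha hy))
  · exact sup_le (Subgroup.commutator_mono le_sup_left le_rfl)
      (Subgroup.commutator_mono le_sup_right le_rfl)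

/-- The layer version of `layer_commutator_aux`. -/
theorem layer_commutator [Finite G] (Y : Subgroup G) :
    ⁅⁅layer G, Y⁆, Y⁆ = ⁅layer G, Y⁆ ∧ ⁅⁅layer G, Y⁆, ⁅layer G, Y⁆⁆ = ⁅layer G, Y⁆ ∧
    ∃ E₀ : Subgroup G, E₀ ≤ layer G ∧ E₀ ≤ centralizer (Y : Set G) ∧ ⁅⁅layer G, Y⁆, E₀⁆ = ⊥ ∧
      ⁅layer G, Y⁆ ⊔ E₀ = layer G := by
  have h := layer_commutator_aux (𝓚 := {K : Subgroup G | IsComponent K}) (Y := Y)
    (fun K hK => Subgroup.isPerfect_iff.mp hK.2.1)
    (fun K hK K' hK' hne => (eq_or_commutator_eq_bot hK hK').resolve_left hne)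
    (fun K hK y _ => isComponent_conj y hK)
    (by
      intro K hK A hAE hEA
      refine le_or_commutator_eq_bot hK ?_
      refine Subgroup.IsSubnormal.step A (layer G) hAE ?_ (normal_subgroupOf_of_le_normalizer hEA)
      exact (layer_normal (G := G)).isSubnormal)
  exact h.2

/-- Elements of `L` fixed by `Q`, with `[L, Q] = L`, are in `L'` when they have a power prime to
`|Q|` in `L'`. -/
theorem mem_commutator_of_fixed [Finite G] {L Q : Subgroup G} (hQL : Q ≤ normalizer (L : Set G))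
    (hL : ⁅L, Q⁆ = L) {x : G} (hxL : x ∈ L) (hxQ : x ∈ centralizer (Q : Set G)) {m : ℕ}
    (hm : m.Coprime (Nat.card Q)) (hx : x ^ m ∈ ⁅L, L⁆) : x ∈ ⁅L, L⁆ := by
  classical
  letI : Fintype Q := Fintype.ofFinite _
  let c : Q → (L →* L) := fun a =>
    { toFun := fun l => ⟨(a : G) * l * (a : G)⁻¹, conj_mem_of_mem_normalizer (hQL a.2) l.2⟩
      map_one' := by ext; simp
      map_mul' := by intro l l'; ext; simp [mul_assoc] }
  have hc : ∀ (a b : Q) (l : L), c a (c b l) = c (a * b) l := by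
    intro a b l
    ext
    simp [c, mul_assoc]
  let τ : Abelianization L →* Abelianization L := ∏ a : Q, Abelianization.map (c a)
  have hτ : ∀ l : L, τ (Abelianization.of l) = ∏ a : Q, Abelianization.of (c a l) := by
    intro l
    simp [τ]
  have hτinv : ∀ (b : Q) (l : L), τ (Abelianization.of (c b l)) = τ (Abelianization.of l) := by
    intro b l
    rw [hτ, hτ]
    refine Fintype.prod_equiv (Equiv.mulRight b) _ _ (fun a => ?_)
    simp [hc]
  let T : Subgroup L := (τ.comp Abelianization.of).ker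
  have hT : ⁅L, Q⁆ ≤ T.map L.subtype := by
    rw [Subgroup.commutator_le]
    intro l hl b hb
    refine ⟨⟨l, hl⟩ * c ⟨b, hb⟩ (⟨l, hl⟩⁻¹), ?_, ?_⟩
    · show (τ.comp Abelianization.of) _ = 1
      rw [MonoidHom.comp_apply, map_mul, map_mul, hτinv, ← map_mul, ← map_mul]
      simp
    · simp [c, commutatorElement_def, mul_assoc]
  have hxT : (⟨x, hxL⟩ : L) ∈ T := by
    have h1 : x ∈ T.map L.subtype := by
      rw [hL] at hT
      exact hT hxL
    obtain ⟨y, hy, hyx⟩ := h1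
    have : y = ⟨x, hxL⟩ := Subtype.ext hyx
    rwa [this] at hy
  have hpow1 : (Abelianization.of (⟨x, hxL⟩ : L)) ^ (Nat.card Q) = 1 := by
    have h1 : τ (Abelianization.of (⟨x, hxL⟩ : L)) = 1 := hxT
    rw [hτ] at h1
    have h2 : ∀ a : Q, c a ⟨x, hxL⟩ = ⟨x, hxL⟩ := by
      intro a
      ext
      have := (Subgroup.mem_centralizer_iff.1 hxQ a a.2)
      show (a : G) * x * (a : G)⁻¹ = x
      rw [this]
      group
    simp only [h2, Finset.prod_const, Finset.card_univ] at h1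
    rwa [Fintype.card_eq_nat_card] at h1
  have hpow2 : (Abelianization.of (⟨x, hxL⟩ : L)) ^ m = 1 := by
    rw [← map_pow]
    rw [← Subgroup.map_subtype_commutator] at hx
    obtain ⟨y, hy, hyx⟩ := hx
    have hyy : y = (⟨x, hxL⟩ : L) ^ m := Subtype.ext (by simpa using hyx)
    rw [← hyy]
    have h3 : y ∈ (Abelianization.of (G := L)).ker := by
      rw [Abelianization.ker_of]; exact hy
    exact h3
  have hone : Abelianization.of (⟨x, hxL⟩ : L) = 1 := by
    have := (pow_gcd_eq_one).2 ⟨hpow2, hpow1⟩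
    rw [hm.gcd_eq_one, pow_one] at this
    exact this
  have hmem : (⟨x, hxL⟩ : L) ∈ (Abelianization.of (G := L)).ker := hone
  rw [Abelianization.ker_of] at hmem
  rw [← Subgroup.map_subtype_commutator]
  exact ⟨⟨x, hxL⟩, hmem, rfl⟩

/-- `Z(X) ∩ X' ≤ Φ(X)`. -/
theorem mem_frattini_of_center_commutator [Finite G] {z : G} (hz : z ∈ center G)
    (hc : z ∈ commutator G) : z ∈ frattini G := by
  simp only [frattini, Order.radical, Subgroup.mem_iInf]
  intro M hM
  by_contra hzM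
  have hlt : M < M ⊔ zpowers z := by
    refine lt_of_le_of_ne le_sup_left ?_
    intro h
    apply hzM
    rw [h]
    exact Subgroup.mem_sup_right (mem_zpowers z)
  have htop := hM.2 _ hlt
  have hzc : zpowers z ≤ center G := Subgroup.zpowers_le.2 hz
  have hzN : zpowers z ≤ normalizer (M : Set G) := by
    intro a ha
    rw [Subgroup.mem_normalizer_iff]
    intro h
    have := Subgroup.mem_center_iff.1 (hzc ha) h
    rw [← this]
    simp
  have hcomm : commutator G ≤ M := by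
    rw [commutator_def, Subgroup.commutator_le]
    intro g _ h _
    have hg : g ∈ M ⊔ zpowers z := by rw [htop]; trivial
    have hh : h ∈ M ⊔ zpowers z := by rw [htop]; trivial
    obtain ⟨m₁, hm₁, a₁, ha₁, rfl⟩ := (mem_sup_iff_of_le_normalizer hzN g).1 hg
    obtain ⟨m₂, hm₂, a₂, ha₂, rfl⟩ := (mem_sup_iff_of_le_normalizer hzN h).1 hh
    have hc₁ : ∀ y : G, y * a₁ = a₁ * y := fun y => (Subgroup.mem_center_iff.1 (hzc ha₁) y)
    have hc₂ : ∀ y : G, y * a₂ = a₂ * y := fun y => (Subgroup.mem_center_iff.1 (hzc ha₂) y)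
    have k1 : ∀ (g h a : G), (∀ y : G, y * a = a * y) → ⁅g * a, h⁆ = ⁅g, h⁆ := by
      intro g h a ha
      simp only [commutatorElement_def, mul_inv_rev]
      have : g * a * h * (a⁻¹ * g⁻¹) = g * h * g⁻¹ := by
        rw [mul_assoc g a h, ← ha h]; group
      rw [this]
    have k2 : ∀ (g h a : G), (∀ y : G, y * a = a * y) → ⁅g, h * a⁆ = ⁅g, h⁆ := by
      intro g h a ha
      simp only [commutatorElement_def, mul_inv_rev]
      have : g * (h * a) * g⁻¹ = g * h * g⁻¹ * a := by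
        rw [mul_assoc g (h * a), mul_assoc h a, ← ha g⁻¹]; group
      rw [this]; group
    have : ⁅m₁ * a₁, m₂ * a₂⁆ = ⁅m₁, m₂⁆ := by
      rw [k1 _ _ _ hc₁, k2 _ _ _ hc₂]
    rw [this]
    simp only [commutatorElement_def]
    exact M.mul_mem (M.mul_mem (M.mul_mem hm₁ hm₂) (M.inv_mem hm₁)) (M.inv_mem hm₂)
  exact hzM (hcomm hc)


/-- If `O_p(H) = 1` then `F(H)` has order prime to `p`. -/
theorem coprime_card_fitting_of_pCore_eq_bot [Finite G] {p : ℕ} [hp : Fact p.Prime]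
    (hO : pCore p G = ⊥) : (Nat.card (fittingSubgroup G)).Coprime p := by
  rw [Nat.coprime_comm, Nat.Prime.coprime_iff_not_dvd hp.out]
  intro hd
  obtain ⟨x, hx⟩ := exists_prime_orderOf_dvd_card' p hd
  have hN : (fittingSubgroup G).Normal := Cfsg.Agent.Lib.Components.Fitting.fitting_normal
  have hnil : Group.IsNilpotent (fittingSubgroup G) :=
    Cfsg.Agent.Lib.Components.Fitting.fitting_isNilpotent
  have hord : orderOf (x : G) = p ^ 1 := by
    rw [pow_one, Subgroup.orderOf_coe, hx]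
  have := Cfsg.Agent.Lib.Nilpotent.Fitting.mem_pCore_of_mem_nilpotent_normal hnil x.2 hord
  rw [hO, Subgroup.mem_bot] at this
  rw [this, orderOf_one, pow_one] at hord
  exact hp.out.one_lt.ne hord

/-- **S2817**. -/
theorem commutator_fitting_star [Finite G] {p : ℕ} [hp : Fact p.Prime]
    (hO : pCore p G = ⊥) (Q : Subgroup G) (hQ : IsPGroup p ↥Q) (L : Subgroup G)
    (hL : L = ⁅generalizedFittingSubgroup G, Q⁆) (F : Subgroup G)
    (hF : F ≤ generalizedFittingSubgroup G ∧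
      generalizedFittingSubgroup G ≤ normalizer (F : Set G) ∧ Q ≤ centralizer (F : Set G) ∧
      ∀ N : Subgroup G, N ≤ generalizedFittingSubgroup G →
        generalizedFittingSubgroup G ≤ normalizer (N : Set G) → Q ≤ centralizer (N : Set G) → N ≤ F) :
    F = generalizedFittingSubgroup G ⊓ centralizer ((L ⊔ Q : Subgroup G) : Set G) ∧ ⁅L, Q⁆ = L ∧
      L ⊓ F ≤ (frattini ↥L).map L.subtype ∧
      (∀ B : Subgroup G, IsPGroup p ↥B → B ≤ normalizer (Q : Set G) → ⁅L, B⁆ ≤ F → ⁅L, B⁆ = ⊥) ∧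
      (Nat.card ↥(centralizer ((F ⊔ L : Subgroup G) : Set G))).Coprime p := by
  classical
  set Fs := generalizedFittingSubgroup G with hFs
  set E := layer G with hE
  set R := fittingSubgroup G with hR
  have hFsup : Fs = E ⊔ R := rfl
  have hFsN : Fs.Normal := inferInstance
  have hEN : E.Normal := layer_normal
  have hRN : R.Normal := Cfsg.Agent.Lib.Components.Fitting.fitting_normal
  have hRp : (Nat.card R).Coprime p := coprime_card_fitting_of_pCore_eq_bot hO
  have hcop : ∀ (B W : Subgroup G), IsPGroup p B → W ≤ R → (Nat.card B).Coprime (Nat.card W) := by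
    intro B W hB hW
    obtain ⟨n, hn⟩ := IsPGroup.iff_card.1 hB
    rw [hn]
    refine Nat.Coprime.pow_left n ?_
    have hd : Nat.card W ∣ Nat.card R := Subgroup.card_dvd_of_le hW
    exact Nat.Coprime.coprime_dvd_right hd hRp.symm
  have hsol : ∀ B : Subgroup G, IsPGroup p B → Group.IsSolvable B := by
    intro B hB
    have := hB.isNilpotent
    infer_instance
  have hnorm : ∀ (B W : Subgroup G), W.Normal → B ≤ normalizer (W : Set G) := by
    intro B W hW
    rw [normalizer_eq_top_iff.2 hW]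
    exact le_top
  have hER : E ≤ centralizer (R : Set G) := Cfsg.Agent.Lib.Components.FStar2.layer_le_centralizer_fitting
  have hRE : R ≤ centralizer (E : Set G) := (Subgroup.le_centralizer_iff).1 hER
  have hQE := hnorm Q E hEN
  have hQR := hnorm Q R hRN
  have hQFs := hnorm Q Fs hFsN
  set E₁ := ⁅E, Q⁆ with hE₁
  set R₁ := ⁅R, Q⁆ with hR₁
  obtain ⟨hE1cc, hE1perf, E₀, hE₀E, hE₀C, hE₁E₀, hE₁E₀sup⟩ : ⁅E₁, Q⁆ = E₁ ∧ ⁅E₁, E₁⁆ = E₁ ∧
      ∃ E₀ : Subgroup G, E₀ ≤ E ∧ E₀ ≤ centralizer (Q : Set G) ∧ ⁅E₁, E₀⁆ = ⊥ ∧ E₁ ⊔ E₀ = E :=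
    layer_commutator Q
  have hR1cc : ⁅R₁, Q⁆ = R₁ := commutator_commutator_eq hQR (hcop Q R hQ le_rfl) (Or.inl (hsol Q hQ))
  have hR1sup : R₁ ⊔ (R ⊓ centralizer (Q : Set G)) = R :=
    commutator_sup_centralizer hQR (hcop Q R hQ le_rfl) (Or.inl (hsol Q hQ))
  have hE₁E : E₁ ≤ E := commutator_le_left_of_le_normalizer hQE
  have hR₁R : R₁ ≤ R := commutator_le_left_of_le_normalizer hQR
  have hQE₁ : Q ≤ normalizer (E₁ : Set G) := commutator_le_normalizer_right hQE
  have hQR₁ : Q ≤ normalizer (R₁ : Set G) := commutator_le_normalizer_right hQR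
  have hE₁R₁ : ∀ a ∈ E₁, ∀ b ∈ R₁, a * b = b * a := by
    intro a ha b hb
    exact (Subgroup.mem_centralizer_iff.1 (hER (hE₁E ha)) b (hR₁R hb)).symm
  have hEcomm : ∀ a ∈ E, ∀ b ∈ R, a * b = b * a := by
    intro a ha b hb
    exact (Subgroup.mem_centralizer_iff.1 (hER ha) b hb).symm
  have hLeq : L = E₁ ⊔ R₁ := by
    rw [hL, hFsup]
    exact commutator_sup_of_commute hEcomm hQR
  have hE₁L : E₁ ≤ L := by rw [hLeq]; exact le_sup_left
  have hR₁L : R₁ ≤ L := by rw [hLeq]; exact le_sup_right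
  have hLQ : ⁅L, Q⁆ = L := by
    rw [hLeq, commutator_sup_of_commute hE₁R₁ hQR₁, hE1cc, hR1cc]
  have hLFs : L ≤ Fs := by rw [hL]; exact commutator_le_left_of_le_normalizer hQFs
  have hFsL : Fs ≤ normalizer (L : Set G) := by
    rw [hL]; exact commutator_le_normalizer_left hQFs
  have hQL : Q ≤ normalizer (L : Set G) := by
    rw [hL]; exact commutator_le_normalizer_right hQFs
  have hESFs : E ≤ Fs := le_sup_left
  have hRSFs : R ≤ Fs := le_sup_right
  have hFsle : Fs ≤ L ⊔ (Fs ⊓ centralizer (Q : Set G)) := by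
    have h1 : E ≤ L ⊔ (Fs ⊓ centralizer (Q : Set G)) := by
      rw [← hE₁E₀sup]
      refine sup_le (hE₁L.trans le_sup_left) ?_
      exact le_trans (le_inf (hE₀E.trans hESFs) hE₀C) le_sup_right
    have h2 : R ≤ L ⊔ (Fs ⊓ centralizer (Q : Set G)) := by
      rw [← hR1sup]
      refine sup_le (hR₁L.trans le_sup_left) ?_
      exact le_trans (inf_le_inf_right _ hRSFs) le_sup_right
    calc Fs = E ⊔ R := hFsup
      _ ≤ _ := sup_le h1 h2
  -- (1)
  have hFCQ : F ≤ centralizer (Q : Set G) := (Subgroup.le_centralizer_iff).1 hF.2.2.1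
  have hFCL : F ≤ centralizer (L : Set G) := by
    rw [Subgroup.le_centralizer_iff, ← Subgroup.commutator_eq_bot_iff_le_centralizer, hL]
    apply Subgroup.commutator_commutator_eq_bot_of_rotate
    · rw [Subgroup.commutator_comm Q F, Subgroup.commutator_eq_bot_iff_le_centralizer.2 hFCQ]
      exact Subgroup.commutator_bot_left _
    · have h1 : ⁅F, Fs⁆ ≤ F := commutator_le_left_of_le_normalizer hF.2.1
      have h2 : ⁅⁅F, Fs⁆, Q⁆ ≤ ⁅F, Q⁆ := Subgroup.commutator_mono h1 le_rfl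
      rw [Subgroup.commutator_eq_bot_iff_le_centralizer.2 hFCQ] at h2
      exact le_bot_iff.1 h2
  have hF1 : F = Fs ⊓ centralizer ((L ⊔ Q : Subgroup G) : Set G) := by
    rw [centralizer_sup_eq]
    apply le_antisymm
    · exact le_inf hF.1 (le_inf hFCL hFCQ)
    · apply hF.2.2.2
      · exact inf_le_left
      · intro f hf
        apply mem_normalizer_of_conj_mem
        rintro d ⟨hdFs, hdL, hdQ⟩
        have hcN : Fs ⊓ centralizer (Q : Set G) ≤ normalizer (L : Set G) := inf_le_left.trans hFsL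
        obtain ⟨l, hl, c, hc, rfl⟩ := (mem_sup_iff_of_le_normalizer hcN f).1 (hFsle hf)
        have hcd : c * d * c⁻¹ ∈ Fs ⊓ (centralizer (L : Set G) ⊓ centralizer (Q : Set G)) := by
          refine ⟨Fs.mul_mem (Fs.mul_mem hc.1 hdFs) (Fs.inv_mem hc.1), ?_, ?_⟩
          · exact conj_mem_of_mem_normalizer (centralizer_mem_normalizer (hcN hc)) hdL
          · exact Subgroup.mul_mem _ (Subgroup.mul_mem _ hc.2 hdQ) (Subgroup.inv_mem _ hc.2)
        have hl' := Subgroup.mem_centralizer_iff.1 hcd.2.1 l hl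
        have : l * c * d * (l * c)⁻¹ = c * d * c⁻¹ := by
          calc l * c * d * (l * c)⁻¹ = l * (c * d * c⁻¹) * l⁻¹ := by group
            _ = (c * d * c⁻¹) * l * l⁻¹ := by rw [hl']
            _ = c * d * c⁻¹ := by group
        rw [this]
        exact hcd
      · rw [Subgroup.le_centralizer_iff]
        exact inf_le_right.trans inf_le_right
  -- exponent of L/L'
  have hE₁L' : E₁ ≤ ⁅L, L⁆ := by
    rw [← hE1perf]
    exact Subgroup.commutator_mono hE₁L hE₁L
  have hmcop : (Nat.card R₁).Coprime (Nat.card Q) := (hcop Q R₁ hQ hR₁R).symm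
  have hexp : ∀ x ∈ L, x ^ (Nat.card R₁) ∈ ⁅L, L⁆ := by
    intro x hx
    rw [hLeq] at hx
    obtain ⟨e, he, r, hr, rfl⟩ :=
      Cfsg.Agent.Lib.Components.LayerProduct.mem_sup_of_commute hE₁R₁ hx
    have hc : Commute e r := hE₁R₁ e he r hr
    rw [hc.mul_pow]
    have h1 : r ^ (Nat.card R₁) = 1 := by
      have := pow_card_eq_one' (x := (⟨r, hr⟩ : R₁))
      exact congrArg Subtype.val this
    rw [h1, mul_one]
    exact hE₁L' (E₁.pow_mem he _)
  have hfixed : ∀ x ∈ L, x ∈ centralizer (Q : Set G) → x ∈ ⁅L, L⁆ := fun x hx hxQ =>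
    mem_commutator_of_fixed hQL hLQ hx hxQ hmcop (hexp x hx)
  refine ⟨hF1, hLQ, ?_, ?_, ?_⟩
  · -- (3)
    rintro x ⟨hxL, hxF⟩
    have hxL' := hfixed x hxL (hFCQ hxF)
    rw [← Subgroup.map_subtype_commutator] at hxL'
    obtain ⟨y, hy, hyx⟩ := hxL'
    have hyz : y ∈ center ↥L := by
      rw [Subgroup.mem_center_iff]
      intro g
      apply Subtype.ext
      have := Subgroup.mem_centralizer_iff.1 (hFCL hxF) g g.2
      rw [← hyx] at this
      exact this
    exact ⟨y, mem_frattini_of_center_commutator hyz hy, hyx⟩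
  · -- (4)
    intro B hB hBQ hLB
    have hBFs := hnorm B Fs hFsN
    have hBR := hnorm B R hRN
    have hBL : B ≤ normalizer (L : Set G) := by
      intro b hb
      rw [hL]
      exact commutator_mem_normalizer (hBFs hb) (hBQ hb)
    have hBR₁ : B ≤ normalizer (R₁ : Set G) := by
      intro b hb
      exact commutator_mem_normalizer (hBR hb) (hBQ hb)
    have hLBL : ⁅L, B⁆ ≤ L := commutator_le_left_of_le_normalizer hBL
    have h3 : ⁅⁅L, B⁆, L⁆ = ⊥ := by
      rw [Subgroup.commutator_eq_bot_iff_le_centralizer]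
      exact hLB.trans hFCL
    have h4 : ⁅⁅B, L⁆, L⁆ = ⊥ := by rw [Subgroup.commutator_comm B L]; exact h3
    have h5 : ⁅⁅L, L⁆, B⁆ = ⊥ := Subgroup.commutator_commutator_eq_bot_of_rotate h3 h4
    have h6 : ⁅L, B⁆ ≤ ⁅L, L⁆ := fun y hy => hfixed y (hLBL hy) (hFCQ (hLB hy))
    have h7 : ⁅⁅L, B⁆, B⁆ = ⊥ := by
      have : ⁅⁅L, B⁆, B⁆ ≤ ⁅⁅L, L⁆, B⁆ := Subgroup.commutator_mono h6 le_rfl
      rw [h5] at this
      exact le_bot_iff.1 this
    have h8 : ⁅R₁, B⁆ = ⊥ := by
      rw [← commutator_commutator_eq hBR₁ (hcop B R₁ hB hR₁R) (Or.inl (hsol B hB))]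
      have h81 : ⁅R₁, B⁆ ≤ ⁅L, B⁆ := Subgroup.commutator_mono hR₁L le_rfl
      have h82 : ⁅⁅R₁, B⁆, B⁆ ≤ ⁅⁅L, B⁆, B⁆ := Subgroup.commutator_mono h81 le_rfl
      rw [h7] at h82
      exact le_bot_iff.1 h82
    have h9 : ⁅E₁, B⁆ = ⊥ := by
      have : ⁅E₁, B⁆ ≤ ⁅⁅L, L⁆, B⁆ := Subgroup.commutator_mono hE₁L' le_rfl
      rw [h5] at this
      exact le_bot_iff.1 this
    rw [Subgroup.commutator_eq_bot_iff_le_centralizer] at h8 h9 ⊢
    rw [hLeq]
    exact sup_le h9 h8
  · -- (5)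
    rw [Nat.coprime_comm, Nat.Prime.coprime_iff_not_dvd hp.out]
    intro hd
    obtain ⟨x, hx⟩ := exists_prime_orderOf_dvd_card' p hd
    set x₀ : G := (x : G) with hx₀
    have hxo : orderOf x₀ = p := by rw [hx₀, Subgroup.orderOf_coe, hx]
    set A : Subgroup G := zpowers x₀ with hA
    have hAp : IsPGroup p A := by
      rw [IsPGroup.iff_card, hA, Nat.card_zpowers]
      exact ⟨1, by rw [pow_one]; exact hxo⟩
    have hFL : F ⊔ L ≤ centralizer (A : Set G) := by
      rw [Subgroup.le_centralizer_iff, hA, zpowers_le]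
      exact x.2
    have hFCA : F ≤ centralizer (A : Set G) := le_sup_left.trans hFL
    have hLCA : L ≤ centralizer (A : Set G) := le_sup_right.trans hFL
    have hR₁CA := hR₁L.trans hLCA
    have hE₁CA := hE₁L.trans hLCA
    have hAR := hnorm A R hRN
    have hRR₁ : R ≤ normalizer (R₁ : Set G) := commutator_le_normalizer_left hQR
    set W := R ⊓ centralizer (R₁ : Set G) with hW
    have hWR : W ≤ R := inf_le_left
    have hRAW : ⁅R, A⁆ ≤ W := by
      refine le_inf (commutator_le_left_of_le_normalizer hAR) ?_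
      rw [← Subgroup.commutator_eq_bot_iff_le_centralizer]
      apply Subgroup.commutator_commutator_eq_bot_of_rotate
      · rw [Subgroup.commutator_comm A R₁, Subgroup.commutator_eq_bot_iff_le_centralizer.2 hR₁CA]
        exact Subgroup.commutator_bot_left _
      · have h1 : ⁅R₁, R⁆ ≤ R₁ := commutator_le_left_of_le_normalizer hRR₁
        have h2 : ⁅⁅R₁, R⁆, A⁆ ≤ ⁅R₁, A⁆ := Subgroup.commutator_mono h1 le_rfl
        rw [Subgroup.commutator_eq_bot_iff_le_centralizer.2 hR₁CA] at h2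
        exact le_bot_iff.1 h2
    have hQW : Q ≤ normalizer (W : Set G) := by
      intro q hq
      exact inf_mem_normalizer (hQR hq) (centralizer_mem_normalizer (hQR₁ hq))
    have hWsup : ⁅W, Q⁆ ⊔ (W ⊓ centralizer (Q : Set G)) = W :=
      commutator_sup_centralizer hQW (hcop Q W hQ hWR) (Or.inl (hsol Q hQ))
    have hWQ : ⁅W, Q⁆ ≤ R₁ := Subgroup.commutator_mono hWR le_rfl
    have hCE₁R₁ : centralizer (L : Set G) = centralizer (E₁ : Set G) ⊓ centralizer (R₁ : Set G) := by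
      rw [hLeq, centralizer_sup_eq]
    have hRCE₁ : R ≤ centralizer (E₁ : Set G) := hRE.trans (centralizer_le hE₁E)
    have hWCQ : W ⊓ centralizer (Q : Set G) ≤ F := by
      rw [hF1, centralizer_sup_eq, hCE₁R₁]
      refine le_inf (inf_le_left.trans (hWR.trans hRSFs)) (le_inf (le_inf ?_ ?_) inf_le_right)
      · exact inf_le_left.trans (hWR.trans hRCE₁)
      · exact inf_le_left.trans inf_le_right
    have hWCA : W ≤ centralizer (A : Set G) := by
      rw [← hWsup]
      exact sup_le (hWQ.trans hR₁CA) (hWCQ.trans hFCA)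
    have hRCA : R ≤ centralizer (A : Set G) := by
      rw [← Subgroup.commutator_eq_bot_iff_le_centralizer,
        ← commutator_commutator_eq hAR (hcop A R hAp le_rfl) (Or.inl (hsol A hAp)),
        Subgroup.commutator_eq_bot_iff_le_centralizer]
      exact hRAW.trans hWCA
    have hE₀F : E₀ ≤ F := by
      rw [hF1, centralizer_sup_eq, hCE₁R₁]
      refine le_inf (hE₀E.trans hESFs) (le_inf (le_inf ?_ ?_) hE₀C)
      · rw [Subgroup.le_centralizer_iff, ← Subgroup.commutator_eq_bot_iff_le_centralizer]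
        exact hE₁E₀
      · exact hE₀E.trans (hER.trans (centralizer_le hR₁R))
    have hECA : E ≤ centralizer (A : Set G) := by
      rw [← hE₁E₀sup]
      exact sup_le hE₁CA (hE₀F.trans hFCA)
    have hFsCA : Fs ≤ centralizer (A : Set G) := by
      rw [hFsup]; exact sup_le hECA hRCA
    have hxC : x₀ ∈ centralizer (Fs : Set G) := by
      have : A ≤ centralizer (Fs : Set G) := (Subgroup.le_centralizer_iff).1 hFsCA
      exact this (mem_zpowers x₀)
    have hxFs : x₀ ∈ Fs := Cfsg.Agent.Lib.Components.FStar.centralizer_generalizedFitting_le hxC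
    have hZ : Fs ⊓ centralizer (Fs : Set G) ≤ R := by
      apply Cfsg.Agent.Lib.Components.Fitting.le_fitting
      · infer_instance
      · have : IsMulCommutative ↥(Fs ⊓ centralizer (Fs : Set G)) := ⟨⟨by
          rintro ⟨a, ha⟩ ⟨b, hb⟩
          apply Subtype.ext
          exact (Subgroup.mem_centralizer_iff.1 hb.2 a ha.1)⟩⟩
        exact Cfsg.Agent.Lib.Components.FStar2.isNilpotent_of_isMulCommutative
    have hxR : x₀ ∈ R := hZ ⟨hxFs, hxC⟩
    have h1 : orderOf x₀ ∣ Nat.card R := Subgroup.orderOf_dvd_natCard R hxR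
    rw [hxo] at h1
    rw [Nat.coprime_comm, Nat.Prime.coprime_iff_not_dvd hp.out] at hRp
    exact hRp h1

end Cfsg.Agent.Lib.Components.CoprimeStar
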