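import Mathlib
import Cfsg.Agent.S0214
import Cfsg.Agent.S1224
import Cfsg.Agent.S1225
import Cfsg.Agent.S0219
import Cfsg.Agent.Lib.Coprime.Coset
import Cfsg.Agent.Lib.Components.Fitting
import Cfsg.Agent.Lib.Basic.PCore
import Cfsg.Agent.Lib.PGroup.CyclicMax2
import Cfsg.Agent.Lib.PGroup.Timmesfeld
import Cfsg.Agent.Lib.Nilpotent.Fitting
import Cfsg.Agent.Lib.Perm.StrongEmb
import Cfsg.Agent.Lib.Coprime.SZ
import Cfsg.Agent.Lib.Coprime.Basic
import Cfsg.Agent.Lib.Components.CyclicSylow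

/-!
# Factorisations `G = K S` with `K` of odd order and `S` an abelian `2`-group

Such a group is solvable, given the odd order theorem. A minimal counterexample is simple, the
normalizer of `S` is strongly embedded and the two subgroups then contradict each other.
-/

set_option autoImplicit false

universe u

namespace Cfsg.Agent.Lib.Components.HallTwo

open Subgroup Cfsg

/-- The factorisation data. -/
structure KSFact {G : Type*} [Group G] (K S : Subgroup G) : Prop where
  oddK : Odd (Nat.card K)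
  twoS : IsPGroup 2 S
  comm : ∀ a ∈ S, ∀ b ∈ S, a * b = b * a
  fact : ∀ g : G, ∃ k ∈ K, ∃ s ∈ S, g = k * s

section basic

variable {G : Type*} [Group G] {K S : Subgroup G}

theorem eq_one_of_pow_of_odd_mem {A : Subgroup G} (hA : Odd (Nat.card A)) [Finite G] {x : G}
    (hx : x ∈ A) {n : ℕ} (hn : x ^ 2 ^ n = 1) : x = 1 := by
  have h1 : orderOf x ∣ Nat.card A := Subgroup.orderOf_dvd_natCard _ hx
  have h2 : orderOf x ∣ 2 ^ n := orderOf_dvd_of_pow_eq_one hn
  have hodd : Odd (orderOf x) := hA.of_dvd_nat h1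
  have hc : (orderOf x).Coprime (2 ^ n) := (Nat.coprime_two_right.2 hodd).pow_right n
  have h3 : orderOf x = 1 := Nat.Coprime.eq_one_of_dvd hc h2
  exact orderOf_eq_one_iff.1 h3

theorem exists_pow_of_mem_two {A : Subgroup G} (hA : IsPGroup 2 A) {x : G} (hx : x ∈ A) :
    ∃ n : ℕ, x ^ 2 ^ n = 1 := by
  obtain ⟨n, hn⟩ := hA ⟨x, hx⟩
  exact ⟨n, by simpa using congrArg Subtype.val hn⟩

/-- A `2`-subgroup containing `S` is `S`. -/
theorem two_group_le [Finite G] (h : KSFact K S) {P : Subgroup G} (hP : IsPGroup 2 P) (hSP : S ≤ P) :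
    P ≤ S := by
  intro p hp
  obtain ⟨k, hk, s, hs, rfl⟩ := h.fact p
  have hkP : k ∈ P := by
    have := P.mul_mem hp (P.inv_mem (hSP hs))
    simpa using this
  obtain ⟨n, hn⟩ := exists_pow_of_mem_two hP hkP
  rw [eq_one_of_pow_of_odd_mem h.oddK hk hn, one_mul]
  exact hs

/-- A normal `2`-subgroup of an overgroup of `S` lies in `S`. -/
theorem le_of_normal_two [Finite G] (h : KSFact K S) {M A : Subgroup G} (hSM : S ≤ M)
    (hMA : M ≤ normalizer (A : Set G)) (hA : IsPGroup 2 A) : A ≤ S := by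
  have h1 : IsPGroup 2 ↥(S ⊔ A) := by
    haveI : Fact (Nat.Prime 2) := ⟨Nat.prime_two⟩
    exact IsPGroup.to_sup_of_normal_right' h.twoS hA (hSM.trans hMA)
  exact le_sup_right.trans (two_group_le h h1 le_sup_left)

/-- An odd subgroup normalized by an overgroup of `S` lies in the core of `K`. -/
theorem odd_le_core [Finite G] (h : KSFact K S) {M A : Subgroup G} (hSM : S ≤ M) (hAM : A ≤ M)
    (hMA : M ≤ normalizer (A : Set G)) (hA : Odd (Nat.card A)) : A ≤ K.normalCore := by
  have hAK : A ≤ K := by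
    intro a ha
    obtain ⟨k, hk, s, hs, rfl⟩ := h.fact a
    have hkM : k ∈ M := by
      have := M.mul_mem (hAM ha) (M.inv_mem (hSM hs))
      simpa using this
    set B : Subgroup G := M ⊓ K with hB
    have hBn : B ≤ normalizer (A : Set G) := inf_le_left.trans hMA
    have hcard := Cfsg.Agent.Lib.PGroup.Timmesfeld.card_sup_mul_card_inf_of_le_normalizer B A hBn
    have hBodd : Odd (Nat.card B) := by
      refine h.oddK.of_dvd_nat ?_
      exact Subgroup.card_dvd_of_le inf_le_right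
    have hXodd : Odd (Nat.card ↥(B ⊔ A)) := by
      have h1 : Odd (Nat.card B * Nat.card A) := hBodd.mul hA
      rw [← hcard] at h1
      exact (Nat.odd_mul.1 h1).1
    have hsX : s ∈ B ⊔ A := by
      have h1 : k⁻¹ ∈ B ⊔ A := (B ⊔ A).inv_mem ((le_sup_left : B ≤ B ⊔ A) ⟨hkM, hk⟩)
      have h2 : (k * s) ∈ B ⊔ A := (le_sup_right : A ≤ B ⊔ A) ha
      have := (B ⊔ A).mul_mem h1 h2
      simpa using this
    obtain ⟨n, hn⟩ := exists_pow_of_mem_two h.twoS hs
    rw [eq_one_of_pow_of_odd_mem hXodd hsX hn, mul_one]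
    exact hk
  intro a ha g
  obtain ⟨k, hk, s, hs, rfl⟩ := h.fact g
  have h1 : s * a * s⁻¹ ∈ A := (Subgroup.mem_normalizer_iff.1 (hMA (hSM hs)) a).1 ha
  have h2 : k * (s * a * s⁻¹) * k⁻¹ ∈ K := K.mul_mem (K.mul_mem hk (hAK h1)) (K.inv_mem hk)
  have h3 : k * s * a * (k * s)⁻¹ = k * (s * a * s⁻¹) * k⁻¹ := by group
  rw [h3]
  exact h2

theorem le_normalizer_map_of_normal {M : Subgroup G} (N : Subgroup M) (hN : N.Normal) :
    M ≤ normalizer ((N.map M.subtype : Subgroup G) : Set G) := by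
  have key : ∀ m ∈ M, ∀ x ∈ N.map M.subtype, m * x * m⁻¹ ∈ N.map M.subtype := by
    rintro m hm _ ⟨y, hy, rfl⟩
    refine ⟨(⟨m, hm⟩ : M) * y * (⟨m, hm⟩ : M)⁻¹, hN.conj_mem y hy _, ?_⟩
    simp
  intro m hm
  rw [Subgroup.mem_normalizer_iff]
  intro x
  refine ⟨key m hm x, fun hx => ?_⟩
  have := key m⁻¹ (M.inv_mem hm) _ hx
  simpa [mul_assoc] using this

/-- Every solvable overgroup of `S` normalizes `S`, if `K` has trivial core. -/
theorem le_normalizer_of_solvable [Finite G] (h : KSFact K S) (hcore : K.normalCore = ⊥)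
    {M : Subgroup G} (hSM : S ≤ M) (hsol : Group.IsSolvable M) : M ≤ normalizer (S : Set G) := by
  classical
  haveI : Fact (Nat.Prime 2) := ⟨Nat.prime_two⟩
  have hq : ∀ q : ℕ, q.Prime → q ≠ 2 → Cfsg.pCore q ↥M = ⊥ := by
    intro q hq hq2
    haveI := Fact.mk hq
    have hN : (Cfsg.pCore q ↥M).Normal := Cfsg.Agent.Lib.Basic.PCore.pCore_normal q ↥M
    have hP : IsPGroup q ↥(Cfsg.pCore q ↥M) := Cfsg.Agent.Lib.Basic.PCore.pCore_isPGroup q
    have hcard : Nat.card ↥((Cfsg.pCore q ↥M).map M.subtype) = Nat.card ↥(Cfsg.pCore q ↥M) :=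
      Subgroup.card_map_of_injective M.subtype_injective
    have hodd : Odd (Nat.card ↥((Cfsg.pCore q ↥M).map M.subtype)) := by
      rw [hcard]
      obtain ⟨k, hk⟩ := IsPGroup.iff_card.mp hP
      rw [hk]
      exact (hq.odd_of_ne_two hq2).pow
    have hle := odd_le_core h hSM (Subgroup.map_subtype_le _) (le_normalizer_map_of_normal _ hN) hodd
    rw [hcore, le_bot_iff] at hle
    exact (Subgroup.map_eq_bot_iff_of_injective _ M.subtype_injective).1 hle
  have hF : Cfsg.fittingSubgroup ↥M ≤ Cfsg.pCore 2 ↥M := by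
    rw [Cfsg.Agent.Lib.Basic.PCore.fittingSubgroup_eq_iSup_pCore]
    refine iSup_le fun p => ?_
    by_cases hp2 : p.1 = 2
    · rw [hp2]
    · have hpp : p.1.Prime := Nat.prime_of_mem_primeFactors p.2
      rw [hq p.1 hpp hp2]
      exact bot_le
  have hFn : (Cfsg.fittingSubgroup ↥M).Normal := Cfsg.Agent.Lib.Nilpotent.Fitting.fittingSubgroup_normal
  have hF2 : IsPGroup 2 ↥((Cfsg.fittingSubgroup ↥M).map M.subtype) := by
    have h1 : IsPGroup 2 ↥(Cfsg.fittingSubgroup ↥M) :=
      (Cfsg.Agent.Lib.Basic.PCore.pCore_isPGroup 2).to_le hF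
    exact h1.map M.subtype |>.to_le (le_refl _)
  have hAS : (Cfsg.fittingSubgroup ↥M).map M.subtype ≤ S :=
    le_of_normal_two h hSM (le_normalizer_map_of_normal _ hFn) hF2
  have hSA : S ≤ (Cfsg.fittingSubgroup ↥M).map M.subtype := by
    intro s hs
    refine ⟨⟨s, hSM hs⟩, ?_, rfl⟩
    have hle : centralizer (Cfsg.fittingSubgroup ↥M : Set ↥M) ≤ Cfsg.fittingSubgroup ↥M :=
      Cfsg.Agent.Lib.Components.Fitting.le_fitting_of_solvable_of_le_centralizer _ le_rfl
        Subgroup.le_normalizer inferInstance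
    apply hle
    rw [Subgroup.mem_centralizer_iff]
    intro f hf
    apply Subtype.ext
    exact h.comm _ (hAS ⟨f, hf, rfl⟩) _ hs
  have heq : S = (Cfsg.fittingSubgroup ↥M).map M.subtype := le_antisymm hSA hAS
  have := le_normalizer_map_of_normal _ hFn
  rwa [← heq] at this

end basic

section simple

variable {G : Type*} [Group G] [Finite G] {K S : Subgroup G}

/-- The normalizer of `S` is strongly embedded. -/
theorem stronglyEmbedded_normalizer (h : KSFact K S) (hcore : K.normalCore = ⊥) (hSbot : S ≠ ⊥)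
    (hsimple : IsSimpleGroup G) (hnc : ∃ a b : G, a * b ≠ b * a)
    (hsol : ∀ M : Subgroup G, M ≠ ⊤ → S ≤ M → Group.IsSolvable M) :
    IsStronglyEmbedded (normalizer (S : Set G)) := by
  classical
  haveI : Fact (Nat.Prime 2) := ⟨Nat.prime_two⟩
  set H := normalizer (S : Set G) with hH
  have hStop : S ≠ ⊤ := by
    rintro rfl
    obtain ⟨a, b, hab⟩ := hnc
    exact hab (h.comm a trivial b trivial)
  have hSH : S ≤ H := Subgroup.le_normalizer
  have hHtop : H ≠ ⊤ := by
    intro htop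
    have hn : S.Normal := Subgroup.normalizer_eq_top_iff.mp htop
    rcases hsimple.eq_bot_or_eq_top_of_normal S hn with h1 | h1
    · exact hSbot h1
    · exact hStop h1
  have hT2 : IsPGroup 2 ↥(S.subgroupOf H) := h.twoS.comap_of_injective H.subtype H.subtype_injective
  obtain ⟨P, hTP⟩ := hT2.exists_le_sylow
  have hPS : S ≤ (P : Subgroup H).map H.subtype := by
    intro s hs
    exact ⟨⟨s, hSH hs⟩, hTP (Subgroup.mem_subgroupOf.2 hs), rfl⟩
  have hPbot : (P : Subgroup H) ≠ ⊥ := by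
    intro hb
    rw [hb, Subgroup.map_bot, le_bot_iff] at hPS
    exact hSbot hPS
  refine (Cfsg.Agent.S0214.result H hHtop P hPbot).2 ?_
  intro X hXP hX
  have hP2 : IsPGroup 2 ↥((P : Subgroup H).map H.subtype) := P.isPGroup'.map _
  have hP'S : (P : Subgroup H).map H.subtype ≤ S := two_group_le h hP2 hPS
  have hX'S : X.map H.subtype ≤ S := (Subgroup.map_mono hXP).trans hP'S
  have hX'bot : X.map H.subtype ≠ ⊥ := by
    intro hb
    exact hX ((Subgroup.map_eq_bot_iff_of_injective _ H.subtype_injective).1 hb)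
  have hSN : S ≤ normalizer ((X.map H.subtype : Subgroup G) : Set G) := by
    intro s hs
    rw [Subgroup.mem_normalizer_iff]
    intro x
    constructor
    · intro hx
      have : s * x * s⁻¹ = x := by
        rw [h.comm s hs x (hX'S hx)]
        simp
      rwa [this]
    · intro hx
      have hx' : s * x * s⁻¹ ∈ S := hX'S hx
      have hxS : x ∈ S := by
        have := S.mul_mem (S.mul_mem (S.inv_mem hs) hx') hs
        simpa [mul_assoc] using this
      have : s * x * s⁻¹ = x := by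
        rw [h.comm s hs x hxS]
        simp
      rwa [this] at hx
  have hNtop : normalizer ((X.map H.subtype : Subgroup G) : Set G) ≠ ⊤ := by
    intro htop
    have hn : (X.map H.subtype).Normal := Subgroup.normalizer_eq_top_iff.mp htop
    rcases hsimple.eq_bot_or_eq_top_of_normal _ hn with h1 | h1
    · exact hX'bot h1
    · rw [h1, top_le_iff] at hX'S
      exact hStop hX'S
  exact le_normalizer_of_solvable h hcore hSN (hsol _ hNtop hSN)

theorem inf_eq_one (h : KSFact K S) {x : G} (hK : x ∈ K) (hS : x ∈ S) : x = 1 := by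
  obtain ⟨n, hn⟩ := exists_pow_of_mem_two h.twoS hS
  exact eq_one_of_pow_of_odd_mem h.oddK hK hn

/-- An odd subgroup of the normalizer of `S` is conjugate into `K`, by an element of `S`. -/
theorem exists_conj_into_K (h : KSFact K S) {D : Subgroup G} (hD : D ≤ normalizer (S : Set G))
    (hodd : Odd (Nat.card D)) : ∃ s₀ ∈ S, ∀ d ∈ D, s₀ * d * s₀⁻¹ ∈ K := by
  classical
  haveI : Fact (Nat.Prime 2) := ⟨Nat.prime_two⟩
  set X : Subgroup G := D ⊔ S with hX
  set A : Subgroup G := X ⊓ K with hA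
  have hSH : S ≤ normalizer (S : Set G) := Subgroup.le_normalizer
  have hXH : X ≤ normalizer (S : Set G) := sup_le hD hSH
  have hAH : A ≤ normalizer (S : Set G) := inf_le_left.trans hXH
  have hAodd : Odd (Nat.card A) := h.oddK.of_dvd_nat (Subgroup.card_dvd_of_le inf_le_right)
  have hDS : D ⊓ S = ⊥ := by
    rw [eq_bot_iff]
    rintro x ⟨hx1, hx2⟩
    obtain ⟨n, hn⟩ := exists_pow_of_mem_two h.twoS hx2
    exact eq_one_of_pow_of_odd_mem hodd hx1 hn
  have hAS : A ⊓ S = ⊥ := by
    rw [eq_bot_iff]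
    rintro x ⟨hx1, hx2⟩
    exact inf_eq_one h hx1.2 hx2
  have hAX : A ⊔ S = X := by
    apply le_antisymm
    · exact sup_le inf_le_left le_sup_right
    · intro x hx
      obtain ⟨k, hk, s, hs, rfl⟩ := h.fact x
      have hkX : k ∈ X := by
        have := X.mul_mem hx (X.inv_mem ((le_sup_right : S ≤ X) hs))
        simpa using this
      exact Subgroup.mul_mem _ ((le_sup_left : A ≤ A ⊔ S) ⟨hkX, hk⟩) ((le_sup_right : S ≤ A ⊔ S) hs)
  have e1 := Cfsg.Agent.Lib.PGroup.Timmesfeld.card_sup_mul_card_inf_of_le_normalizer D S hD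
  have e2 := Cfsg.Agent.Lib.PGroup.Timmesfeld.card_sup_mul_card_inf_of_le_normalizer A S hAH
  rw [hDS, Subgroup.card_bot, mul_one] at e1
  rw [hAS, Subgroup.card_bot, mul_one, hAX] at e2
  have hcard : Nat.card A = Nat.card D := by
    have h3 : Nat.card A * Nat.card S = Nat.card D * Nat.card S := by rw [← e2, ← e1]
    exact Nat.eq_of_mul_eq_mul_right Nat.card_pos h3
  have hcop : (Nat.card D).Coprime (Nat.card S) := by
    obtain ⟨n, hn⟩ := IsPGroup.iff_card.mp h.twoS
    rw [hn]
    exact (Nat.coprime_two_right.2 hodd).pow_right n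
  have hsolv : Group.IsSolvable S := by
    refine Group.isSolvable_of_comm ?_
    intro a b
    exact Subtype.ext (h.comm _ a.2 _ b.2)
  have hALe : A ≤ S ⊔ D := by
    rw [sup_comm]
    exact inf_le_left
  obtain ⟨n, hn, hmap⟩ := Cfsg.Agent.Lib.Coprime.Coset.exists_conj_eq_of_card_eq
    (A := D) (N := S) (A' := A) hD hcop (Or.inr hsolv) hALe hcard
  refine ⟨n, hn, fun d hd => ?_⟩
  have h1 : n * d * n⁻¹ ∈ A := by
    rw [← hmap]
    exact ⟨d, hd, rfl⟩
  exact h1.2

/-- The final contradiction. -/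
theorem false_of_stronglyEmbedded (h : KSFact K S) (hSbot : S ≠ ⊥)
    (hemb : IsStronglyEmbedded (normalizer (S : Set G)))
    (hind : ∀ Q : Subgroup G, Q.index ≠ 2) : False := by
  classical
  haveI : Fact (Nat.Prime 2) := ⟨Nat.prime_two⟩
  set H := normalizer (S : Set G) with hH
  have hSH : S ≤ H := Subgroup.le_normalizer
  obtain ⟨g, hg⟩ : ∃ g, g ∉ H := by
    by_contra hc
    push Not at hc
    exact hemb.1 (eq_top_iff.2 fun x _ => hc x)
  obtain ⟨s₀, hs₀, hconj⟩ := exists_conj_into_K h (D := H ⊓ H.map (MulAut.conj g).toMonoidHom)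
    inf_le_left (hemb.2.2 g hg)
  -- an involution in `S`
  obtain ⟨i₀, hi₀S, hi₀⟩ : ∃ i₀ ∈ S, orderOf i₀ = 2 := by
    have hnt : Nontrivial S := (Subgroup.nontrivial_iff_ne_bot _).2 hSbot
    obtain ⟨n, hn⟩ := IsPGroup.iff_card.mp h.twoS
    have hn0 : n ≠ 0 := by
      rintro rfl
      have h1 : Nat.card S = 1 := by simpa using hn
      exact (not_subsingleton_iff_nontrivial.2 hnt) (Nat.card_eq_one_iff_unique.1 h1).1
    have h2 : 2 ∣ Nat.card S := by
      rw [hn]
      exact dvd_pow_self 2 hn0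
    obtain ⟨t, ht⟩ := exists_prime_orderOf_dvd_card' (G := S) 2 h2
    exact ⟨t, t.2, by rw [Subgroup.orderOf_coe]; exact ht⟩
  -- the swapping involution
  obtain ⟨v, hv2, hvx⟩ : ∃ v : G, orderOf v = 2 ∧ v • ((1 : G) : G ⧸ H) = ((s₀ * g : G) : G ⧸ H) := by
    have hne : ((1 : G) : G ⧸ H) ≠ ((s₀ * g : G) : G ⧸ H) := by
      intro he
      rw [QuotientGroup.eq] at he
      apply hg
      have h1 : s₀ * g ∈ H := by simpa using he
      have := H.mul_mem (H.inv_mem (hSH hs₀)) h1
      simpa using this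
    have hc := Cfsg.Agent.S1224.result H hemb _ _ hne
    have hpos : 0 < Nat.card {t : G // orderOf t = 2 ∧ t ∈ H} := by
      haveI : Nonempty {t : G // orderOf t = 2 ∧ t ∈ H} := ⟨⟨i₀, hi₀, hSH hi₀S⟩⟩
      exact Nat.card_pos
    rw [← hc] at hpos
    obtain ⟨⟨v, hv⟩⟩ := (Nat.card_pos_iff.1 hpos).1
    exact ⟨v, hv.1, hv.2⟩
  have hvv : v * v = 1 := by
    have := pow_orderOf_eq_one v
    rw [hv2, pow_two] at this
    exact this
  have hvi : v⁻¹ = v := inv_eq_of_mul_eq_one_left hvv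
  have hvH : v ∉ H := by
    intro hv
    have h1 : v • ((1 : G) : G ⧸ H) = ((1 : G) : G ⧸ H) :=
      (Cfsg.Agent.Lib.Perm.StrongEmb.smul_mk_one_eq_iff v).2 hv
    rw [h1, eq_comm, QuotientGroup.eq] at hvx
    apply hg
    have h2 : s₀ * g ∈ H := by
      have := H.inv_mem hvx
      simpa using this
    have := H.mul_mem (H.inv_mem (hSH hs₀)) h2
    simpa using this
  obtain ⟨w, hw, hwdef⟩ : ∃ w ∈ H, v = s₀ * g * w := by
    rw [Cfsg.Agent.Lib.Perm.StrongEmb.smul_mk_one, QuotientGroup.eq] at hvx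
    refine ⟨(s₀ * g)⁻¹ * v, ?_, by group⟩
    have := H.inv_mem hvx
    simpa using this
  -- `D ≤ K`
  have hDK : ∀ d, d ∈ H → (∃ c ∈ H, d = v * c * v⁻¹) → d ∈ K := by
    rintro d hdH ⟨c, hc, rfl⟩
    have h1 : s₀⁻¹ * (v * c * v⁻¹) * s₀ ∈ H ⊓ H.map (MulAut.conj g).toMonoidHom := by
      refine ⟨H.mul_mem (H.mul_mem (H.inv_mem (hSH hs₀)) hdH) (hSH hs₀), ?_⟩
      refine ⟨w * c * w⁻¹, H.mul_mem (H.mul_mem hw hc) (H.inv_mem hw), ?_⟩
      simp only [MonoidHom.coe_coe, MulEquiv.coe_toMonoidHom, MulAut.conj_apply]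
      rw [hwdef]
      group
    have h2 := hconj _ h1
    have h3 : s₀ * (s₀⁻¹ * (v * c * v⁻¹) * s₀) * s₀⁻¹ = v * c * v⁻¹ := by group
    rwa [h3] at h2
  obtain ⟨k₁, hk₁, s₁, hs₁, hv⟩ := h.fact v
  -- `D` centralizes `s₁`
  have hcomm : ∀ d, d ∈ H → (∃ c ∈ H, d = v * c * v⁻¹) → s₁ * d * s₁⁻¹ = d := by
    intro d hdH hdc
    obtain ⟨c, hc, hdef⟩ := hdc
    have hdK : d ∈ K := hDK d hdH ⟨c, hc, hdef⟩
    have h1 : v * d * v⁻¹ = c := by
      rw [hdef, hvi]
      calc v * (v * c * v) * v = (v * v) * c * (v * v) := by group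
        _ = c := by rw [hvv]; group
    have h2 : v * d * v⁻¹ ∈ K := by
      apply hDK _ (by rw [h1]; exact hc)
      exact ⟨d, hdH, rfl⟩
    have h3 : s₁ = k₁⁻¹ * v := by rw [hv]; group
    have h4 : s₁ * d * s₁⁻¹ ∈ K := by
      have h5 : s₁ * d * s₁⁻¹ = k₁⁻¹ * (v * d * v⁻¹) * k₁ := by rw [h3]; group
      rw [h5]
      exact K.mul_mem (K.mul_mem (K.inv_mem hk₁) h2) hk₁
    have h5 : s₁ * (d * s₁⁻¹ * d⁻¹) ∈ S :=
      S.mul_mem hs₁ ((Subgroup.mem_normalizer_iff.1 hdH _).1 (S.inv_mem hs₁))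
    have h6 : s₁ * d * s₁⁻¹ * d⁻¹ ∈ K := K.mul_mem h4 (K.inv_mem hdK)
    have h7 : s₁ * (d * s₁⁻¹ * d⁻¹) = s₁ * d * s₁⁻¹ * d⁻¹ := by group
    rw [h7] at h5
    have h8 := inf_eq_one h h6 h5
    exact mul_inv_eq_one.1 h8
  have hs₁1 : s₁ ≠ 1 := by
    rintro rfl
    rw [mul_one] at hv
    have hvK : v ∈ K := hv ▸ hk₁
    have h1 : v ^ 2 ^ 1 = 1 := by rw [pow_one, pow_two]; exact hvv
    have h2 := eq_one_of_pow_of_odd_mem h.oddK hvK h1
    rw [h2, orderOf_one] at hv2
    exact absurd hv2 (by norm_num)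
  -- the involution in `⟨s₁⟩`
  obtain ⟨n, hn⟩ := exists_pow_of_mem_two h.twoS hs₁
  have hord2 : 2 ∣ orderOf s₁ := by
    obtain ⟨m, -, hm⟩ := (Nat.dvd_prime_pow Nat.prime_two).1 (orderOf_dvd_of_pow_eq_one hn)
    have hm0 : m ≠ 0 := by
      rintro rfl
      rw [pow_zero, orderOf_eq_one_iff] at hm
      exact hs₁1 hm
    rw [hm]
    exact dvd_pow_self 2 hm0
  have hord0 : orderOf s₁ ≠ 0 := (orderOf_pos s₁).ne'
  set t := s₁ ^ (orderOf s₁ / 2) with ht
  have htord : orderOf t = 2 := orderOf_pow_orderOf_div hord0 hord2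
  have htS : t ∈ S := S.pow_mem hs₁ _
  -- uniqueness of the involution
  have huniq : ∀ t' ∈ H, orderOf t' = 2 → t' = t := by
    intro t' ht'H ht'
    obtain ⟨⟨d, ⟨hd1, hd2⟩, hdd⟩, -⟩ := Cfsg.Agent.S1225.result H hemb v hv2 hvH t t' htord (hSH htS) ht' ht'H
    obtain ⟨c, hc, hcd⟩ := hd2
    simp only [MonoidHom.coe_coe, MulEquiv.coe_toMonoidHom, MulAut.conj_apply] at hcd
    have h1 := hcomm d hd1 ⟨c, hc, hcd.symm⟩
    have h2 : Commute s₁ d := by
      rw [Commute, SemiconjBy]
      exact mul_inv_eq_iff_eq_mul.1 h1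
    have h3 : Commute t d := h2.pow_left _
    rw [← hdd, ← h3.eq]
    group
  -- `S` is cyclic
  have hcyc : IsCyclic S := by
    apply Cfsg.Agent.Lib.PGroup.CyclicMax2.isCyclic_of_comm_uniqueP (p := 2)
    · intro a b
      exact Subtype.ext (h.comm _ a.2 _ b.2)
    · exact h.twoS
    · intro y z hy hz hy1 hz1
      have key : ∀ y : S, y ^ 2 = 1 → y ≠ 1 → (y : G) = t := by
        intro y hy hy1
        apply huniq _ (hSH y.2)
        rw [Subgroup.orderOf_coe]
        exact orderOf_eq_prime hy hy1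
      have : y = z := Subtype.ext ((key y hy hy1).trans (key z hz hz1).symm)
      rw [this]
      exact Subgroup.mem_zpowers z
  -- conclusion
  obtain ⟨P, hP⟩ := h.twoS.exists_le_sylow
  have hPS : (P : Subgroup G) = S := le_antisymm (two_group_le h P.isPGroup' hP) hP
  have heven : Even (Nat.card G) := by
    refine even_iff_two_dvd.2 ?_
    rw [← hi₀]
    exact orderOf_dvd_natCard i₀
  obtain ⟨Q, hQ⟩ := Cfsg.Agent.S0219.result heven P (by rw [hPS]; exact hcyc)
  exact hind Q hQ

end simple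

section induction

theorem KSFact.map {G G' : Type*} [Group G] [Group G'] [Finite G] {K S : Subgroup G}
    (h : KSFact K S) (f : G →* G') (hf : Function.Surjective f) : KSFact (K.map f) (S.map f) where
  oddK := h.oddK.of_dvd_nat
    (Subgroup.card_dvd_of_surjective (f.subgroupMap K) (f.subgroupMap_surjective K))
  twoS := h.twoS.map f
  comm := by
    rintro _ ⟨a, ha, rfl⟩ _ ⟨b, hb, rfl⟩
    rw [← map_mul, ← map_mul, h.comm a ha b hb]
  fact := by
    intro g'
    obtain ⟨g, rfl⟩ := hf g'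
    obtain ⟨k, hk, s, hs, rfl⟩ := h.fact g
    exact ⟨f k, ⟨k, hk, rfl⟩, f s, ⟨s, hs, rfl⟩, map_mul f k s⟩

theorem KSFact.subgroupOf {G : Type*} [Group G] [Finite G] {K S : Subgroup G} (h : KSFact K S)
    {M : Subgroup G} (hM : S ≤ M ∨ K ≤ M) : KSFact (K.subgroupOf M) (S.subgroupOf M) where
  oddK := by
    rw [Cfsg.Agent.Lib.Coprime.SZ.card_subgroupOf_eq_card_inf]
    exact h.oddK.of_dvd_nat (Subgroup.card_dvd_of_le inf_le_left)
  twoS := h.twoS.comap_of_injective M.subtype M.subtype_injective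
  comm := by
    intro a ha b hb
    exact Subtype.ext (h.comm _ (Subgroup.mem_subgroupOf.1 ha) _ (Subgroup.mem_subgroupOf.1 hb))
  fact := by
    rintro ⟨g, hg⟩
    obtain ⟨k, hk, s, hs, rfl⟩ := h.fact g
    have hkM : k ∈ M := by
      rcases hM with hM | hM
      · have := M.mul_mem hg (M.inv_mem (hM hs))
        simpa using this
      · exact hM hk
    have hsM : s ∈ M := by
      rcases hM with hM | hM
      · exact hM hs
      · have := M.mul_mem (M.inv_mem (hM hk)) hg
        simpa using this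
    exact ⟨⟨k, hkM⟩, Subgroup.mem_subgroupOf.2 hk, ⟨s, hsM⟩, Subgroup.mem_subgroupOf.2 hs, rfl⟩

theorem card_lt_of_ne_top {G : Type*} [Group G] [Finite G] {M : Subgroup G} (hM : M ≠ ⊤) :
    Nat.card M < Nat.card G := by
  have h1 := Subgroup.card_mul_index M
  have h2 : M.index ≠ 1 := fun h => hM (Subgroup.index_eq_one.1 h)
  have h3 : M.index ≠ 0 := Subgroup.index_ne_zero_of_finite
  have h4 : 0 < Nat.card M := Nat.card_pos
  have h5 : 2 ≤ M.index := by omega
  calc Nat.card M < Nat.card M * 2 := by omega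
    _ ≤ Nat.card M * M.index := Nat.mul_le_mul_left _ h5
    _ = Nat.card G := h1

theorem card_quotient_lt {G : Type*} [Group G] [Finite G] {N : Subgroup G} [N.Normal] (hN : N ≠ ⊥) :
    Nat.card (G ⧸ N) < Nat.card G := by
  have h1 := Subgroup.card_mul_index N
  have h2 : Nat.card N ≠ 1 := fun h => hN ((Subgroup.eq_bot_iff_card N).2 h)
  have h3 : 0 < Nat.card N := Nat.card_pos
  have h4 : 0 < N.index := Nat.pos_of_ne_zero Subgroup.index_ne_zero_of_finite
  have h5 : 2 ≤ Nat.card N := by omega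
  change N.index < _
  calc N.index < 2 * N.index := by omega
    _ ≤ Nat.card N * N.index := Nat.mul_le_mul_right _ h5
    _ = Nat.card G := h1

theorem solvable_aux (hFT : ∀ (X : Type u) [Group X] [Finite X], Odd (Nat.card X) → Group.IsSolvable X) :
    ∀ (n : ℕ) (G : Type u) [Group G] [Finite G] (K S : Subgroup G), KSFact K S → Nat.card G = n →
      Group.IsSolvable G := by
  intro n
  induction n using Nat.strong_induction_on with
  | _ n ih =>
  intro G _ _ K S h hcard
  by_contra hns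
  haveI : Fact (Nat.Prime 2) := ⟨Nat.prime_two⟩
  have hsub : ∀ M : Subgroup G, M ≠ ⊤ → (S ≤ M ∨ K ≤ M) → Group.IsSolvable M := by
    intro M hM hor
    exact ih _ (hcard ▸ card_lt_of_ne_top hM) M _ _ (h.subgroupOf hor) rfl
  have hnormal : ∀ N : Subgroup G, N.Normal → N ≠ ⊥ → N ≠ ⊤ → False := by
    intro N hN hNb hNt
    have hq : Group.IsSolvable (G ⧸ N) :=
      ih _ (hcard ▸ card_quotient_lt hNb) (G ⧸ N) _ _
        (h.map (QuotientGroup.mk' N) (QuotientGroup.mk'_surjective N)) rfl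
    have hNs : Group.IsSolvable N := by
      by_cases hc : N ⊔ S = ⊤
      · have hKN : K ≤ N := by
          intro k hk
          have hk' : k ∈ S ⊔ N := by
            rw [sup_comm, hc]
            trivial
          have hk2 : k ∈ ((S ⊔ N : Subgroup G) : Set G) := hk'
          rw [Subgroup.mul_normal] at hk2
          obtain ⟨s, hs, m, hm, rfl⟩ := hk2
          obtain ⟨e, he⟩ := exists_pow_of_mem_two h.twoS hs
          have hpow : (s * m) ^ 2 ^ e ∈ N := by
            have h1 : (QuotientGroup.mk' N) ((s * m) ^ 2 ^ e) = 1 := by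
              have h2 : (QuotientGroup.mk' N) m = 1 := by
                rw [QuotientGroup.mk'_apply, QuotientGroup.eq_one_iff]
                exact hm
              rw [map_pow, map_mul, h2, mul_one, ← map_pow, he, map_one]
            rwa [QuotientGroup.mk'_apply, QuotientGroup.eq_one_iff] at h1
          have hodd : Odd (orderOf (s * m)) :=
            h.oddK.of_dvd_nat (Subgroup.orderOf_dvd_natCard _ hk)
          have hpow2 : (s * m) ^ orderOf (s * m) ∈ N := by
            rw [pow_orderOf_eq_one]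
            exact N.one_mem
          have hc2 : (2 ^ e).Coprime (orderOf (s * m)) :=
            ((Nat.coprime_two_right.2 hodd).pow_right e).symm
          exact Cfsg.Agent.Lib.Components.CyclicSylow.mem_of_pow_mem_of_coprime hc2 hpow hpow2
        exact hsub N hNt (Or.inr hKN)
      · haveI h1 := hsub (N ⊔ S) hc (Or.inl le_sup_right)
        exact Cfsg.Agent.Lib.Coprime.Basic.isSolvable_of_le (A := N) (B := N ⊔ S) le_sup_left
    exact hns (Group.isSolvable_of_ker_le_range N.subtype (QuotientGroup.mk' N) (by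
      rw [QuotientGroup.ker_mk', Subgroup.range_subtype]))
  have hnt : Nontrivial G := by
    by_contra hc
    rw [not_nontrivial_iff_subsingleton] at hc
    exact hns inferInstance
  have hsimple : IsSimpleGroup G := by
    refine ⟨fun N hN => ?_⟩
    by_contra hc
    push Not at hc
    exact hnormal N hN hc.1 hc.2
  have hnc : ∃ a b : G, a * b ≠ b * a := by
    by_contra hc
    push Not at hc
    exact hns (Group.isSolvable_of_comm hc)
  have hKtop : K ≠ ⊤ := by
    rintro rfl
    apply hns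
    apply hFT
    have := h.oddK
    rwa [Subgroup.card_top] at this
  have hSbot : S ≠ ⊥ := by
    rintro rfl
    apply hKtop
    rw [eq_top_iff]
    intro g _
    obtain ⟨k, hk, s, hs, rfl⟩ := h.fact g
    rw [Subgroup.mem_bot.1 hs, mul_one]
    exact hk
  have hcore : K.normalCore = ⊥ := by
    rcases hsimple.eq_bot_or_eq_top_of_normal _ (Subgroup.normalCore_normal K) with h1 | h1
    · exact h1
    · exfalso
      apply hKtop
      rw [eq_top_iff, ← h1]
      exact Subgroup.normalCore_le K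
  have hemb := stronglyEmbedded_normalizer h hcore hSbot hsimple hnc
    (fun M hM hSM => hsub M hM (Or.inl hSM))
  refine false_of_stronglyEmbedded h hSbot hemb ?_
  intro Q hQ
  have hQn : Q.Normal := Subgroup.normal_of_index_eq_two hQ
  rcases hsimple.eq_bot_or_eq_top_of_normal _ hQn with h1 | h1
  · rw [h1, Subgroup.index_bot] at hQ
    have hcyc : IsCyclic G := isCyclic_of_prime_card hQ
    obtain ⟨a, b, hab⟩ := hnc
    obtain ⟨x, hx⟩ := IsCyclic.exists_generator (α := G)
    obtain ⟨i, rfl⟩ := Subgroup.mem_zpowers_iff.1 (hx a)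
    obtain ⟨j, rfl⟩ := Subgroup.mem_zpowers_iff.1 (hx b)
    exact hab ((Commute.refl x).zpow_zpow i j)
  · rw [h1, Subgroup.index_top] at hQ
    omega

/-- **Factorisation theorem**: a finite group which is the product of a subgroup of odd order and
an abelian `2`-subgroup is solvable. -/
theorem isSolvable_of_KSFact (hFT : ∀ (X : Type u) [Group X] [Finite X], Odd (Nat.card X) → Group.IsSolvable X)
    {G : Type u} [Group G] [Finite G] {K S : Subgroup G} (h : KSFact K S) : Group.IsSolvable G :=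
  solvable_aux hFT _ G K S h rfl

end induction

end Cfsg.Agent.Lib.Components.HallTwo
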