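import Mathlib
import Cfsg.Agent.Lib.Components.HallTwo
import Cfsg.Agent.Lib.Basic.JordanCover
import Cfsg.Agent.Lib.Components.CyclicSylow
import Cfsg.Agent.Lib.Coprime.SZ

/-!
# Maximal `2`-part of a class size, attained by a class of `2`-power size

In a group all of whose Sylow subgroups are abelian this forces solvability.
-/

set_option autoImplicit false

universe u

namespace Cfsg.Agent.Lib.Components.HallTwoB

open Subgroup Cfsg Cfsg.Agent.Lib.Components.HallTwo

section fact

variable {G : Type*} [Group G] [Finite G]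

/-- A subgroup of `2`-power index and a Sylow `2`-subgroup multiply to the whole group. -/
theorem exists_mul_of_index_two_pow {C : Subgroup G} {a : ℕ} (hC : C.index = 2 ^ a) (P : Sylow 2 G) :
    ∀ g : G, ∃ c ∈ C, ∃ s ∈ (P : Subgroup G), g = c * s := by
  classical
  haveI : Fact (Nat.Prime 2) := ⟨Nat.prime_two⟩
  set ω₀ : G ⧸ C := ((1 : G) : G ⧸ C) with hω
  have hstab : MulAction.stabilizer (P : Subgroup G) ω₀ = C.subgroupOf (P : Subgroup G) := by
    ext s
    rw [MulAction.mem_stabilizer_iff, Subgroup.mem_subgroupOf]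
    change (s : G) • ω₀ = ω₀ ↔ _
    rw [hω, MulAction.Quotient.smul_coe, QuotientGroup.eq]
    simp
  have hidx : (MulAction.stabilizer (P : Subgroup G) ω₀).index
      = Nat.card (MulAction.orbit (P : Subgroup G) ω₀) := MulAction.index_stabilizer _ _
  obtain ⟨v, hv⟩ := IsPGroup.iff_card.mp P.isPGroup'
  have hstab2 : IsPGroup 2 (MulAction.stabilizer (P : Subgroup G) ω₀) :=
    (IsPGroup.of_card hv).to_subgroup _
  obtain ⟨b, hb⟩ := IsPGroup.iff_card.mp hstab2
  have hm := Subgroup.card_mul_index (MulAction.stabilizer (P : Subgroup G) ω₀)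
  rw [hb, hv, hidx] at hm
  -- the power of `2`
  have hbC : 2 ^ b ∣ Nat.card C := by
    rw [← hb, hstab, Cfsg.Agent.Lib.Coprime.SZ.card_subgroupOf_eq_card_inf]
    exact Subgroup.card_dvd_of_le inf_le_left
  have hG : Nat.card C * 2 ^ a = Nat.card G := by
    rw [← hC]
    exact Subgroup.card_mul_index C
  have hGP : 2 ^ v * (P : Subgroup G).index = Nat.card G := by
    rw [← hv]
    exact Subgroup.card_mul_index _
  have hodd : Odd (P : Subgroup G).index := by
    have h1 := P.not_dvd_index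
    exact Nat.odd_iff.2 (by omega)
  have hab : a + b ≤ v := by
    have h1 : 2 ^ (a + b) ∣ 2 ^ v * (P : Subgroup G).index := by
      rw [hGP, ← hG, pow_add, mul_comm (2 ^ a)]
      exact Nat.mul_dvd_mul_right hbC _
    have h2 : (2 ^ (a + b)).Coprime (P : Subgroup G).index :=
      (Nat.coprime_two_left.2 hodd).pow_left _
    have h3 := h2.dvd_of_dvd_mul_right h1
    exact (Nat.pow_dvd_pow_iff_le_right (by norm_num)).1 h3
  have horb : Nat.card (MulAction.orbit (P : Subgroup G) ω₀) = 2 ^ (v - b) := by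
    have h1 : 2 ^ v = 2 ^ b * 2 ^ (v - b) := by
      rw [← pow_add]
      congr 1
      omega
    rw [h1] at hm
    exact Nat.eq_of_mul_eq_mul_left (by positivity) hm
  have huniv : MulAction.orbit (P : Subgroup G) ω₀ = Set.univ := by
    apply Set.eq_of_subset_of_ncard_le (Set.subset_univ _)
    rw [Set.ncard_univ, ← Nat.card_coe_set_eq, horb]
    change C.index ≤ _
    rw [hC]
    exact Nat.pow_le_pow_right (by norm_num) (by omega)
  intro g
  have hmem : ((g⁻¹ : G) : G ⧸ C) ∈ MulAction.orbit (P : Subgroup G) ω₀ := by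
    rw [huniv]
    trivial
  obtain ⟨s, hs⟩ := hmem
  have h1 : ((s : G) : G ⧸ C) = ((g⁻¹ : G) : G ⧸ C) := by
    have := hs
    change (s : G) • ω₀ = _ at this
    rwa [hω, MulAction.Quotient.smul_coe, smul_eq_mul, mul_one] at this
  rw [QuotientGroup.eq] at h1
  refine ⟨((s : G)⁻¹ * g⁻¹)⁻¹, C.inv_mem h1, (s : G)⁻¹, P.1.inv_mem s.2, ?_⟩
  group

/-- Sylow `2`-elements of `C` lie in its core, if all Sylow `2`-subgroups are abelian. -/
theorem mem_normalCore_of_two {C : Subgroup G} {a : ℕ} (hC : C.index = 2 ^ a)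
    (hA : ∀ P : Sylow 2 G, ∀ u ∈ (P : Subgroup G), ∀ v ∈ (P : Subgroup G), u * v = v * u)
    {t : G} (htC : t ∈ C) {n : ℕ} (ht : t ^ 2 ^ n = 1) : t ∈ C.normalCore := by
  classical
  haveI : Fact (Nat.Prime 2) := ⟨Nat.prime_two⟩
  have hz : IsPGroup 2 (Subgroup.zpowers t) := by
    rw [IsPGroup.iff_card]
    obtain ⟨m, -, hm⟩ := (Nat.dvd_prime_pow Nat.prime_two).1 (orderOf_dvd_of_pow_eq_one ht)
    exact ⟨m, by rw [Nat.card_zpowers, hm]⟩
  obtain ⟨P, hP⟩ := hz.exists_le_sylow
  have htP : t ∈ (P : Subgroup G) := hP (Subgroup.mem_zpowers t)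
  intro g
  obtain ⟨c, hc, s, hs, rfl⟩ := exists_mul_of_index_two_pow hC P g
  have h1 : s * t * s⁻¹ = t := by
    rw [hA P s hs t htP]
    group
  have h2 : c * s * t * (c * s)⁻¹ = c * (s * t * s⁻¹) * c⁻¹ := by group
  rw [h2, h1]
  exact C.mul_mem (C.mul_mem hc htC) (C.inv_mem hc)

/-- The quotient by the core of a subgroup of `2`-power index is solvable. -/
theorem isSolvable_quotient_core {G : Type u} [Group G] [Finite G]
    (hFT : ∀ (X : Type u) [Group X] [Finite X], Odd (Nat.card X) → Group.IsSolvable X)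
    {C : Subgroup G} {a : ℕ} (hC : C.index = 2 ^ a)
    (hA : ∀ P : Sylow 2 G, ∀ u ∈ (P : Subgroup G), ∀ v ∈ (P : Subgroup G), u * v = v * u) :
    Group.IsSolvable (G ⧸ C.normalCore) := by
  classical
  haveI : Fact (Nat.Prime 2) := ⟨Nat.prime_two⟩
  set Y := C.normalCore with hY
  set f := QuotientGroup.mk' Y with hf
  obtain ⟨P⟩ : Nonempty (Sylow 2 G) := inferInstance
  refine isSolvable_of_KSFact hFT (K := C.map f) (S := (P : Subgroup G).map f) ⟨?_, ?_, ?_, ?_⟩
  · rw [← Nat.not_even_iff_odd, even_iff_two_dvd]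
    intro h2
    obtain ⟨u, hu⟩ := exists_prime_orderOf_dvd_card' (G := C.map f) 2 h2
    obtain ⟨c, hc, hcu⟩ := u.2
    have hu2 : orderOf (f c) = 2 := by
      rw [hcu, Subgroup.orderOf_coe]
      exact hu
    obtain ⟨r, m, hm, hrm⟩ := Nat.exists_eq_two_pow_mul_odd (orderOf_pos c).ne'
    have h3 : (c ^ m) ^ 2 ^ r = 1 := by
      rw [← pow_mul, mul_comm, ← hrm, pow_orderOf_eq_one]
    have h4 := mem_normalCore_of_two hC hA (C.pow_mem hc m) h3
    have h5 : f (c ^ m) = 1 := by
      rw [hf, QuotientGroup.mk'_apply, QuotientGroup.eq_one_iff]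
      exact h4
    rw [map_pow] at h5
    have h6 : f c ^ 2 = 1 := by rw [← hu2]; exact pow_orderOf_eq_one _
    obtain ⟨e, he⟩ := hm
    have h7 : f c = 1 := by
      rw [he, pow_succ, pow_mul, h6, one_pow, one_mul] at h5
      exact h5
    rw [h7, orderOf_one] at hu2
    exact absurd hu2 (by norm_num)
  · exact P.isPGroup'.map f
  · rintro _ ⟨x, hx, rfl⟩ _ ⟨y, hy, rfl⟩
    rw [← map_mul, ← map_mul, hA P x hx y hy]
  · intro g'
    obtain ⟨g, rfl⟩ := QuotientGroup.mk'_surjective Y g'
    obtain ⟨c, hc, s, hs, rfl⟩ := exists_mul_of_index_two_pow hC P g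
    exact ⟨f c, ⟨c, hc, rfl⟩, f s, ⟨s, hs, rfl⟩, map_mul f c s⟩

end fact

section perfect

variable {G : Type*} [Group G] [Finite G]

/-- The derived series stabilizes. -/
theorem exists_stable_derived (n : ℕ) :
    ∃ N, n ≤ N ∧ derivedSeries G (N + 1) = derivedSeries G N := by
  classical
  obtain ⟨m, hm⟩ := WellFoundedGT.monotone_chain_condition (α := (Subgroup G)ᵒᵈ)
    ⟨fun k => OrderDual.toDual (derivedSeries G k), fun i j hij =>
      OrderDual.toDual_le_toDual.2 (derivedSeries_antitone G hij)⟩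
  refine ⟨max m n, le_max_right _ _, ?_⟩
  have h1 := hm (max m n) (le_max_left _ _)
  have h2 := hm (max m n + 1) ((le_max_left _ _).trans (Nat.le_succ _))
  exact OrderDual.toDual.injective (h2.symm.trans h1)

/-- A perfect group with abelian Sylow subgroups has trivial centre. -/
theorem center_eq_bot_of_perfect {X : Type*} [Group X] [Finite X] (hperf : commutator X = ⊤)
    (hA : ∀ (p : ℕ) [Fact p.Prime] (P : Sylow p X), IsMulCommutative (P : Subgroup X)) :
    Subgroup.center X = ⊥ := by
  classical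
  rw [eq_bot_iff]
  intro z hz
  rw [Subgroup.mem_bot]
  by_contra hz1
  have hord : orderOf z ≠ 1 := fun h => hz1 (orderOf_eq_one_iff.1 h)
  obtain ⟨p, hp, hpd⟩ := Nat.exists_prime_and_dvd hord
  haveI := Fact.mk hp
  have hord0 : orderOf z ≠ 0 := (orderOf_pos z).ne'
  set w := z ^ (orderOf z / p) with hw
  have hwo : orderOf w = p := orderOf_pow_orderOf_div hord0 hpd
  have hzp : IsPGroup p (Subgroup.zpowers w) := by
    rw [IsPGroup.iff_card]
    exact ⟨1, by rw [Nat.card_zpowers, hwo, pow_one]⟩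
  obtain ⟨P, hP⟩ := hzp.exists_le_sylow
  haveI := hA p P
  have h1 : w = 1 := Cfsg.Agent.Lib.Components.CyclicSylow.eq_one_of_mem_sylow_center hperf P
    (hP (Subgroup.mem_zpowers w)) (Subgroup.pow_mem _ hz _)
  rw [h1, orderOf_one] at hwo
  exact hp.one_lt.ne hwo

/-- Odd index of a centralizer gives a conjugate centralizing a given `2`-subgroup. -/
theorem exists_conj_mem_centralizer_of_odd {X : Type*} [Group X] [Finite X] (T : Subgroup X)
    (hT : IsPGroup 2 T) (y : X) (hodd : Odd (centralizer ({y} : Set X)).index) :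
    ∃ g : X, g * y * g⁻¹ ∈ centralizer (T : Set X) := by
  classical
  haveI : Fact (Nat.Prime 2) := ⟨Nat.prime_two⟩
  set D := centralizer ({y} : Set X) with hD
  have h := hT.card_modEq_card_fixedPoints (X ⧸ D)
  have hne : Nonempty (MulAction.fixedPoints T (X ⧸ D)) := by
    by_contra hc
    rw [not_nonempty_iff] at hc
    have h0 : Nat.card (MulAction.fixedPoints T (X ⧸ D)) = 0 := Nat.card_of_isEmpty
    rw [h0] at h
    have h2 : Nat.card (X ⧸ D) % 2 = 0 := h
    have h3 : D.index % 2 = 1 := Nat.odd_iff.mp hodd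
    rw [Subgroup.index] at h3
    omega
  obtain ⟨⟨ω, hω⟩⟩ := hne
  obtain ⟨g, rfl⟩ := QuotientGroup.mk_surjective ω
  refine ⟨g, ?_⟩
  rw [Subgroup.mem_centralizer_iff]
  intro t ht
  have h1 := hω ⟨t⁻¹, T.inv_mem ht⟩
  change (t⁻¹ : X) • ((g : X) : X ⧸ D) = _ at h1
  rw [MulAction.Quotient.smul_coe, smul_eq_mul, QuotientGroup.eq] at h1
  have h2 : (t⁻¹ * g)⁻¹ * g * y = y * ((t⁻¹ * g)⁻¹ * g) := by
    have := Subgroup.mem_centralizer_singleton_iff.1 h1
    exact this
  have h3 : (t⁻¹ * g)⁻¹ * g = g⁻¹ * t * g := by group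
  rw [h3] at h2
  have h4 : g⁻¹ * t * g * y * g⁻¹ = y * (g⁻¹ * t * g) * g⁻¹ := by rw [h2]
  have h5 : t * (g * y * g⁻¹) = g * (g⁻¹ * t * g * y * g⁻¹) := by group
  have h6 : g * y * g⁻¹ * t = g * (y * (g⁻¹ * t * g) * g⁻¹) := by group
  rw [h5, h6, h4]

/-- **The class theorem.** -/
theorem isSolvable_of_class {G : Type u} [Group G] [Finite G]
    (hFT : ∀ (X : Type u) [Group X] [Finite X], Odd (Nat.card X) → Group.IsSolvable X)
    (hA : ∀ (p : ℕ) [Fact p.Prime] (P : Sylow p G), IsMulCommutative (P : Subgroup G))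
    (a : ℕ) (hmax : ∀ y : G, ¬ 2 ^ (a + 1) ∣ (centralizer ({y} : Set G)).index)
    (x : G) (hx : (centralizer ({x} : Set G)).index = 2 ^ a) : Group.IsSolvable G := by
  classical
  haveI : Fact (Nat.Prime 2) := ⟨Nat.prime_two⟩
  set C := centralizer ({x} : Set G) with hC
  have hA2 : ∀ P : Sylow 2 G, ∀ u ∈ (P : Subgroup G), ∀ v ∈ (P : Subgroup G), u * v = v * u := by
    intro P u hu v hv
    have h1 := (hA 2 P).is_comm.comm (⟨u, hu⟩ : (P : Subgroup G)) ⟨v, hv⟩
    exact congrArg Subtype.val h1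
  have hq := isSolvable_quotient_core hFT hx hA2
  obtain ⟨n, hn⟩ := (isSolvable_def _).1 hq
  have hder : derivedSeries G n ≤ C.normalCore := by
    have h1 := map_derivedSeries_eq (QuotientGroup.mk'_surjective C.normalCore) n
    rw [hn] at h1
    intro g hg
    have h2 : QuotientGroup.mk' C.normalCore g ∈ (derivedSeries G n).map (QuotientGroup.mk' C.normalCore) :=
      ⟨g, hg, rfl⟩
    rw [h1, Subgroup.mem_bot, QuotientGroup.mk'_apply, QuotientGroup.eq_one_iff] at h2
    exact h2
  obtain ⟨N, hnN, hstable⟩ := exists_stable_derived (G := G) n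
  set L := derivedSeries G N with hL
  have hLnormal : L.Normal := derivedSeries_normal G N
  have hLC : L ≤ C := (derivedSeries_antitone G hnN).trans (hder.trans (Subgroup.normalCore_le C))
  have hperf : commutator ↥L = ⊤ := by
    have h1 : ⁅L, L⁆ = L := by
      rw [← derivedSeries_succ, hL] 
      exact hstable
    haveI : Group.IsPerfect L := Subgroup.isPerfect_iff.2 h1
    exact Group.IsPerfect.commutator_eq_top
  have hAL : ∀ (p : ℕ) [Fact p.Prime] (P : Sylow p ↥L), IsMulCommutative (P : Subgroup ↥L) := by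
    intro p _ P
    have h1 : IsPGroup p ((P : Subgroup ↥L).map L.subtype) := P.isPGroup'.map _
    obtain ⟨Q, hQ⟩ := h1.exists_le_sylow
    haveI := hA p Q
    refine ⟨⟨fun a b => ?_⟩⟩
    apply Subtype.ext
    apply Subtype.ext
    have ha : ((a : ↥L) : G) ∈ (Q : Subgroup G) := hQ ⟨a, a.2, rfl⟩
    have hb : ((b : ↥L) : G) ∈ (Q : Subgroup G) := hQ ⟨b, b.2, rfl⟩
    have h2 := (hA p Q).is_comm.comm (⟨_, ha⟩ : (Q : Subgroup G)) ⟨_, hb⟩
    change ((a : ↥L) : G) * ((b : ↥L) : G) = ((b : ↥L) : G) * ((a : ↥L) : G)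
    exact congrArg Subtype.val h2
  have hcen := center_eq_bot_of_perfect hperf hAL
  have hinter : ∀ e, e ∈ L → e ∈ Subgroup.normalClosure ({x} : Set G) → e = 1 := by
    intro e heL hecl
    haveI : (centralizer (L : Set G)).Normal := Subgroup.normal_centralizer
    have hle : Subgroup.normalClosure ({x} : Set G) ≤ centralizer (L : Set G) := by
      apply Subgroup.normalClosure_le_normal
      rintro _ rfl
      rw [SetLike.mem_coe, Subgroup.mem_centralizer_iff]
      intro l hl
      exact (Subgroup.mem_centralizer_singleton_iff.1 (hLC hl))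
    have h1 : (⟨e, heL⟩ : ↥L) ∈ Subgroup.center ↥L := by
      rw [Subgroup.mem_center_iff]
      intro l
      apply Subtype.ext
      exact (Subgroup.mem_centralizer_iff.1 (hle hecl)) l l.2
    rw [hcen, Subgroup.mem_bot] at h1
    exact congrArg Subtype.val h1
  have hcent : ∀ y ∈ L, centralizer ({x * y} : Set G) = C ⊓ centralizer ({y} : Set G) := by
    intro y hy
    apply le_antisymm
    · intro g hg
      have h0 : g * (x * y) * g⁻¹ = x * y := by
        have := Subgroup.mem_centralizer_singleton_iff.1 hg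
        rw [this]
        group
      have h1 : x⁻¹ * (g * x * g⁻¹) ∈ L := by
        have h2 : x⁻¹ * (g * x * g⁻¹) = y * (g * y * g⁻¹)⁻¹ := by
          have h3 : g * x * g⁻¹ = x * y * (g * y * g⁻¹)⁻¹ := by
            rw [← h0]
            group
          rw [h3]
          group
        rw [h2]
        exact L.mul_mem hy (L.inv_mem (hLnormal.conj_mem y hy g))
      have h2 : x⁻¹ * (g * x * g⁻¹) ∈ Subgroup.normalClosure ({x} : Set G) := by
        have hxm : x ∈ Subgroup.normalClosure ({x} : Set G) :=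
          Subgroup.subset_normalClosure (Set.mem_singleton x)
        exact Subgroup.mul_mem _ (Subgroup.inv_mem _ hxm) (Subgroup.normalClosure_normal.conj_mem x hxm g)
      have h3 := hinter _ h1 h2
      have h4 : g * x * g⁻¹ = x := by
        have := inv_mul_eq_one.1 h3
        exact this.symm
      have h5 : g * y * g⁻¹ = y := by
        have h6 : g * (x * y) * g⁻¹ = (g * x * g⁻¹) * (g * y * g⁻¹) := by group
        rw [h6, h4] at h0
        exact mul_left_cancel h0
      refine ⟨Subgroup.mem_centralizer_singleton_iff.2 (mul_inv_eq_iff_eq_mul.1 h4),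
        Subgroup.mem_centralizer_singleton_iff.2 (mul_inv_eq_iff_eq_mul.1 h5)⟩
    · rintro g ⟨h1, h2⟩
      have h1' := Subgroup.mem_centralizer_singleton_iff.1 h1
      have h2' := Subgroup.mem_centralizer_singleton_iff.1 h2
      apply Subgroup.mem_centralizer_singleton_iff.2
      rw [← mul_assoc, h1', mul_assoc, h2', mul_assoc]
  have hodd : ∀ y : ↥L, Odd (centralizer ({y} : Set ↥L)).index := by
    intro y
    set A := C ⊓ centralizer ({(y : G)} : Set G) with hA'
    have hcy : Nat.card (centralizer ({y} : Set ↥L)) = Nat.card ↥(A ⊓ L) := by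
      have h1 : (centralizer ({y} : Set ↥L)).map L.subtype = A ⊓ L := by
        ext g
        constructor
        · rintro ⟨c, hc, rfl⟩
          refine ⟨⟨hLC c.2, ?_⟩, c.2⟩
          have := Subgroup.mem_centralizer_singleton_iff.1 hc
          exact Subgroup.mem_centralizer_singleton_iff.2 (congrArg Subtype.val this)
        · rintro ⟨⟨h1, h2⟩, h3⟩
          refine ⟨⟨g, h3⟩, ?_, rfl⟩
          apply Subgroup.mem_centralizer_singleton_iff.2
          apply Subtype.ext
          exact Subgroup.mem_centralizer_singleton_iff.1 h2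
      rw [← h1]
      exact (Subgroup.card_map_of_injective L.subtype_injective).symm
    have hnL : A ≤ normalizer (L : Set G) := by
      rw [Subgroup.normalizer_eq_top L]
      exact le_top
    have e1 := Cfsg.Agent.Lib.PGroup.Timmesfeld.card_sup_mul_card_inf_of_le_normalizer A L hnL
    set u := (centralizer ({y} : Set ↥L)).index with hu
    have e2 : Nat.card (centralizer ({y} : Set ↥L)) * u = Nat.card ↥L := Subgroup.card_mul_index _
    have hpos : 0 < Nat.card ↥(A ⊓ L) := Nat.card_pos
    have e3 : Nat.card ↥(A ⊔ L) = Nat.card A * u := by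
      have h : Nat.card ↥(A ⊔ L) * Nat.card ↥(A ⊓ L) = (Nat.card A * u) * Nat.card ↥(A ⊓ L) := by
        rw [e1, ← e2, hcy]
        ring
      exact Nat.eq_of_mul_eq_mul_right hpos h
    have hle : A ⊔ L ≤ C := sup_le inf_le_left hLC
    obtain ⟨w, hw⟩ := Subgroup.card_dvd_of_le hle
    have e4 : Nat.card C * 2 ^ a = Nat.card G := by
      rw [← hx]
      exact Subgroup.card_mul_index C
    have e5 : Nat.card A * A.index = Nat.card G := Subgroup.card_mul_index A
    have e6 : A.index = u * w * 2 ^ a := by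
      have h : Nat.card A * A.index = Nat.card A * (u * w * 2 ^ a) := by
        rw [e5, ← e4, hw, e3]
        ring
      exact Nat.eq_of_mul_eq_mul_left Nat.card_pos h
    rw [← Nat.not_even_iff_odd, even_iff_two_dvd]
    intro h2
    apply hmax (x * y)
    rw [hcent y y.2, e6]
    obtain ⟨u', hu'⟩ := h2
    rw [hu', pow_succ]
    exact ⟨u' * w, by ring⟩
  obtain ⟨T⟩ : Nonempty (Sylow 2 ↥L) := inferInstance
  have hTc : centralizer ((T : Subgroup ↥L) : Set ↥L) = ⊤ := by
    apply Cfsg.Agent.Lib.Basic.JordanCover.eq_top_of_forall_conj_mem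
    intro g
    exact exists_conj_mem_centralizer_of_odd _ T.isPGroup' g (hodd g)
  have hTbot : (T : Subgroup ↥L) = ⊥ := by
    rw [eq_bot_iff, ← hcen]
    intro t ht
    rw [Subgroup.mem_center_iff]
    intro z
    have hz : z ∈ centralizer ((T : Subgroup ↥L) : Set ↥L) := by
      rw [hTc]
      trivial
    exact (Subgroup.mem_centralizer_iff.1 hz t ht).symm
  have hLodd : Odd (Nat.card ↥L) := by
    have h1 := Subgroup.card_mul_index (T : Subgroup ↥L)
    have h2 := T.not_dvd_index
    rw [hTbot, Subgroup.card_bot, one_mul] at h1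
    rw [hTbot] at h2
    rw [← h1]
    exact Nat.odd_iff.2 (by omega)
  have hsol := hFT ↥L hLodd
  have hLbot : L = ⊥ := by
    by_contra hne
    haveI : Nontrivial ↥L := (Subgroup.nontrivial_iff_ne_bot _).2 hne
    haveI : Group.IsPerfect ↥L := ⟨hperf⟩
    exact Group.IsPerfect.not_isSolvable ↥L hsol
  exact (isSolvable_def G).2 ⟨N, hLbot⟩

end perfect

end Cfsg.Agent.Lib.Components.HallTwoB
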