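import Mathlib
import Cfsg.Prelude.Def_Local
import Cfsg.Agent.Lib.Components.Layer
import Cfsg.Agent.Lib.Components.LayerProduct
import Cfsg.Agent.Lib.Components.PComponent
import Cfsg.Agent.Lib.Components.Balance
import Cfsg.Agent.Lib.Components.Transport
import Cfsg.Agent.Lib.Components.LBalanceTwo
import Cfsg.Agent.S1314

/-!
# Components of involution centralizers

A component `L` of `C_G(t)` of even order, with `L_{2'}(G) = E(G)`: either a component of `G`, or
lies in a component `D = [D, t]`, or is the diagonal of `D × D^t`.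
-/

set_option autoImplicit false
set_option linter.style.haveILetI false
set_option linter.unusedSectionVars false

namespace Cfsg.Agent.Lib.Components.InvComp

open Cfsg Subgroup
open Cfsg.Agent.Lib.Components.Quasisimple Cfsg.Agent.Lib.Components.Layer
open Cfsg.Agent.Lib.Components.LayerProduct Cfsg.Agent.Lib.Components.PComponent
open scoped commutatorElement

section pl

variable {X : Type*} [Group X] [Finite X]

/-- A component of even order lies in the `2`-layer. -/
theorem le_pLayer_of_even {L : Subgroup X} (hL : IsComponent L) (hev : Even (Nat.card L)) :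
    L ≤ pLayer 2 X := by
  haveI : Fact (Nat.Prime 2) := ⟨Nat.prime_two⟩
  have hO : oPPrime 2 L = L := by
    have hnorm : ((oPPrime 2 L).subgroupOf L).Normal :=
      Subgroup.normal_subgroupOf_of_le_normalizer
        (Subgroup.le_normalizer.trans le_normalizer_oPPrime)
    rcases Quasisimple.eq_top_or_le_center_of_normal hL.2 hnorm with h | h
    · exact le_antisymm (oPPrime_le 2 L) (Subgroup.subgroupOf_eq_top.mp h)
    · exfalso
      have := hL.2.1
      have hc := coprime_of_perfect_of_central_sylow (T := L) 2 (by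
        intro x hx
        obtain ⟨k, hk⟩ := hx
        apply h
        rw [Subgroup.mem_subgroupOf]
        exact mem_oPPrime_of_pElement x.2 (k := k) (by exact_mod_cast congrArg Subtype.val hk))
      rw [Nat.coprime_comm, Nat.coprime_two_left] at hc
      exact (Nat.not_even_iff_odd.mpr hc) hev
  have hsup : L ≤ pLayer 2 X ⊔ pPrimeCore 2 X := by
    apply le_sup_core_of_map_le
    rw [map_pLayer]
    exact map_le_layer_of_isComponent hL
  rw [← hO, oPPrime, Subgroup.closure_le]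
  rintro y ⟨hy, k, hk⟩
  exact pElement_mem_of_normal_sup inferInstance (hsup hy) hk

end pl

variable {G : Type*} [Group G]

theorem centralizer_zpowers_eq (t : G) :
    centralizer ((zpowers t : Subgroup G) : Set G) = centralizer ({t} : Set G) := by
  ext x
  rw [mem_centralizer_iff, mem_centralizer_singleton_iff]
  constructor
  · intro h
    exact (h t (mem_zpowers t)).symm
  · intro h k hk
    obtain ⟨n, rfl⟩ := mem_zpowers_iff.mp hk
    exact ((Commute.zpow_left (show Commute t x from h.symm) n)).eq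

/-- `L ≤ E(G)` for a component `L` of `C_G(t)` of even order, when `L_{2'}(G) = E(G)`. -/
theorem le_layer_of_component [Finite G] (hL2 : pLayer 2 G = layer G) (t : G) (ht : orderOf t = 2)
    (L : Subgroup G) (hLt : L ≤ centralizer ({t} : Set G))
    (hL : IsComponent (L.subgroupOf (centralizer ({t} : Set G)))) (hev : Even (Nat.card L)) :
    L ≤ layer G := by
  have hT : IsPGroup 2 ↥(zpowers t) := by
    apply IsPGroup.of_card (n := 1)
    rw [Nat.card_zpowers, ht, pow_one]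
  have hl := LBalanceTwo.l_balance (zpowers t) hT
  rw [centralizer_zpowers_eq] at hl
  rw [← hL2]
  have hev' : Even (Nat.card ↥(L.subgroupOf (centralizer ({t} : Set G)))) := by
    rw [Nat.card_congr (Subgroup.subgroupOfEquivOfLe hLt).toEquiv]
    exact hev
  have h1 := le_pLayer_of_even hL hev'
  have h2 : L = (L.subgroupOf (centralizer ({t} : Set G))).map (centralizer ({t} : Set G)).subtype := by
    rw [Subgroup.map_subgroupOf_eq_of_le hLt]
  rw [h2]
  exact (Subgroup.map_mono h1).trans hl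

/-- Conjugation inside `[A, B]` by an element of `A`. -/
theorem conj_mem_commutator {A B : Subgroup G} {e x : G} (he : e ∈ A) (hx : x ∈ ⁅A, B⁆) :
    e * x * e⁻¹ ∈ ⁅A, B⁆ := by
  have hmain : ⁅A, B⁆ ≤ (⁅A, B⁆).comap (MulAut.conj e).toMonoidHom := by
    rw [Subgroup.commutator_le]
    intro a ha u hu
    rw [Subgroup.mem_comap]
    change e * ⁅a, u⁆ * e⁻¹ ∈ ⁅A, B⁆
    have h1 : ⁅e * a, u⁆ ∈ ⁅A, B⁆ := Subgroup.commutator_mem_commutator (mul_mem he ha) hu
    have h2 : ⁅e, u⁆ ∈ ⁅A, B⁆ := Subgroup.commutator_mem_commutator he hu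
    have : e * ⁅a, u⁆ * e⁻¹ = ⁅e * a, u⁆ * ⁅e, u⁆⁻¹ := by
      simp only [commutatorElement_def]
      group
    rw [this]
    exact mul_mem h1 (inv_mem h2)
  exact hmain hx

section key

variable {t : G} {Dh L : Subgroup G}

/-- The key computation: a perfect `L ≤ C(t)` acting by inner automorphisms on the `t`-invariant
subgroup `Dh`, and commuting with `C_{Dh}(t)`, commutes with `Dh`. -/
theorem commute_of_commute_fixed (htt : t * t = 1) (hperf : ⁅L, L⁆ = L)
    (hLt : ∀ l ∈ L, l * t = t * l)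
    (hdec : ∀ x ∈ L, ∃ d ∈ Dh, ∃ c, (∀ v ∈ Dh, c * v = v * c) ∧ x = d * c)
    (htD : ∀ v ∈ Dh, t * v * t⁻¹ ∈ Dh)
    (hcomm : ∀ l ∈ L, ∀ w ∈ Dh, t * w * t⁻¹ = w → l * w = w * l) :
    ∀ l ∈ L, ∀ v ∈ Dh, l * v = v * l := by
  have htinv : t⁻¹ = t := inv_eq_of_mul_eq_one_left htt
  -- `t` normalizes the centralizer
  have hcent_t : ∀ c : G, (∀ v ∈ Dh, c * v = v * c) → ∀ v ∈ Dh, (t * c * t⁻¹) * v = v * (t * c * t⁻¹) := by
    intro c hc v hv
    have hv' : t * v * t⁻¹ ∈ Dh := htD v hv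
    have h1 := hc _ hv'
    rw [htinv] at h1 ⊢
    calc t * c * t * v = t * (c * (t * v * t)) * t⁻¹ := by rw [htinv]; simp only [mul_assoc]; rw [htt]; simp
      _ = t * ((t * v * t) * c) * t⁻¹ := by rw [h1]
      _ = v * (t * c * t) := by
        rw [htinv]
        calc t * (t * v * t * c) * t = (t * t) * v * (t * c * t) := by group
          _ = v * (t * c * t) := by rw [htt, one_mul]
  -- `L` normalizes `Dh`
  have hnorm : ∀ x ∈ L, ∀ v ∈ Dh, x * v * x⁻¹ ∈ Dh := by
    intro x hx v hv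
    obtain ⟨d, hd, c, hc, rfl⟩ := hdec x hx
    have : d * c * v * (d * c)⁻¹ = d * v * d⁻¹ := by
      calc d * c * v * (d * c)⁻¹ = d * (c * v) * c⁻¹ * d⁻¹ := by group
        _ = d * (v * c) * c⁻¹ * d⁻¹ := by rw [hc v hv]
        _ = _ := by group
    rw [this]
    exact mul_mem (mul_mem hd hv) (inv_mem hd)
  -- the action of a commutator
  have hA : ∀ x ∈ L, ∀ y ∈ L, ∃ e ∈ Dh, t * e * t⁻¹ = e ∧
      ∀ v ∈ Dh, ⁅x, y⁆ * v * ⁅x, y⁆⁻¹ = e * v * e⁻¹ := by
    intro x hx y hy
    obtain ⟨d₁, hd₁, c₁, hc₁, rfl⟩ := hdec x hx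
    obtain ⟨d₂, hd₂, c₂, hc₂, rfl⟩ := hdec y hy
    -- central parts
    have hz : ∀ d c : G, d ∈ Dh → (∀ v ∈ Dh, c * v = v * c) → d * c ∈ L →
        ∃ z, t * d * t⁻¹ = d * z ∧ ∀ v ∈ Dh, z * v = v * z := by
      intro d c hd hc hx
      have h0 : t * (d * c) * t⁻¹ = d * c := by
        have := hLt _ hx
        rw [htinv, ← this, mul_assoc, htt, mul_one]
      refine ⟨c * (t * c * t⁻¹)⁻¹, ?_, ?_⟩
      · have h1 : (t * d * t⁻¹) * (t * c * t⁻¹) = d * c := by rw [← h0]; group
        rw [← mul_assoc, ← h1]; group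
      · intro v hv
        have h2 := hcent_t c hc v hv
        have h3 := hc v hv
        have h4 : (t * c * t⁻¹)⁻¹ * v = v * (t * c * t⁻¹)⁻¹ := by
          rw [inv_mul_eq_iff_eq_mul, ← mul_assoc, h2, mul_assoc, mul_inv_cancel, mul_one]
        calc c * (t * c * t⁻¹)⁻¹ * v = c * ((t * c * t⁻¹)⁻¹ * v) := by group
          _ = c * (v * (t * c * t⁻¹)⁻¹) := by rw [h4]
          _ = (c * v) * (t * c * t⁻¹)⁻¹ := by group
          _ = (v * c) * (t * c * t⁻¹)⁻¹ := by rw [h3]
          _ = _ := by group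
    obtain ⟨z₁, hz₁, hz₁c⟩ := hz d₁ c₁ hd₁ hc₁ hx
    obtain ⟨z₂, hz₂, hz₂c⟩ := hz d₂ c₂ hd₂ hc₂ hy
    refine ⟨⁅d₁, d₂⁆, ?_, ?_, ?_⟩
    · rw [commutatorElement_def]
      exact mul_mem (mul_mem (mul_mem hd₁ hd₂) (inv_mem hd₁)) (inv_mem hd₂)
    · have h1 : t * ⁅d₁, d₂⁆ * t⁻¹ = ⁅t * d₁ * t⁻¹, t * d₂ * t⁻¹⁆ := by
        simp only [commutatorElement_def]; group
      rw [h1, hz₁, hz₂]
      simp only [commutatorElement_def]
      have c1 : ∀ v ∈ Dh, z₁⁻¹ * v = v * z₁⁻¹ := by
        intro v hv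
        rw [inv_mul_eq_iff_eq_mul, ← mul_assoc, hz₁c v hv, mul_assoc, mul_inv_cancel, mul_one]
      have c2 : ∀ v ∈ Dh, z₂⁻¹ * v = v * z₂⁻¹ := by
        intro v hv
        rw [inv_mul_eq_iff_eq_mul, ← mul_assoc, hz₂c v hv, mul_assoc, mul_inv_cancel, mul_one]
      have h2 : z₁ * d₂ = d₂ * z₁ := hz₁c d₂ hd₂
      have h3 : z₂ * d₁ = d₁ * z₂ := hz₂c d₁ hd₁
      have h4 : z₁⁻¹ * d₂⁻¹ = d₂⁻¹ * z₁⁻¹ := c1 _ (inv_mem hd₂)
      have h5 : z₂⁻¹ * d₁⁻¹ = d₁⁻¹ * z₂⁻¹ := c2 _ (inv_mem hd₁)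
      -- `z₁, z₂` commute with each other when they lie in the centralizer of `Dh`:
      -- we eliminate them one at a time
      have e1 : d₁ * z₁ * (d₂ * z₂) * (d₁ * z₁)⁻¹ * (d₂ * z₂)⁻¹
          = d₁ * (z₁ * d₂) * z₂ * z₁⁻¹ * d₁⁻¹ * z₂⁻¹ * d₂⁻¹ := by group
      rw [e1, h2]
      have e2 : d₁ * (d₂ * z₁) * z₂ * z₁⁻¹ * d₁⁻¹ * z₂⁻¹ * d₂⁻¹
          = d₁ * d₂ * (z₁ * z₂ * z₁⁻¹ * d₁⁻¹) * z₂⁻¹ * d₂⁻¹ := by group
      rw [e2]
      have h6 : ∀ v ∈ Dh, (z₁ * z₂ * z₁⁻¹) * v = v * (z₁ * z₂ * z₁⁻¹) := by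
        intro v hv
        calc (z₁ * z₂ * z₁⁻¹) * v = z₁ * (z₂ * (z₁⁻¹ * v)) := by group
          _ = z₁ * (z₂ * (v * z₁⁻¹)) := by rw [c1 v hv]
          _ = z₁ * ((z₂ * v) * z₁⁻¹) := by group
          _ = z₁ * ((v * z₂) * z₁⁻¹) := by rw [hz₂c v hv]
          _ = (z₁ * v) * (z₂ * z₁⁻¹) := by group
          _ = (v * z₁) * (z₂ * z₁⁻¹) := by rw [hz₁c v hv]
          _ = _ := by group
      have h7 : z₁ * z₂ * z₁⁻¹ * d₁⁻¹ = d₁⁻¹ * (z₁ * z₂ * z₁⁻¹) := h6 _ (inv_mem hd₁)
      rw [h7]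
      have e3 : d₁ * d₂ * (d₁⁻¹ * (z₁ * z₂ * z₁⁻¹)) * z₂⁻¹ * d₂⁻¹
          = d₁ * d₂ * d₁⁻¹ * ((z₁ * z₂ * z₁⁻¹ * z₂⁻¹) * d₂⁻¹) := by group
      rw [e3]
      have h8 : ∀ v ∈ Dh, (z₁ * z₂ * z₁⁻¹ * z₂⁻¹) * v = v * (z₁ * z₂ * z₁⁻¹ * z₂⁻¹) := by
        intro v hv
        calc (z₁ * z₂ * z₁⁻¹ * z₂⁻¹) * v = (z₁ * z₂ * z₁⁻¹) * (z₂⁻¹ * v) := by group
          _ = (z₁ * z₂ * z₁⁻¹) * (v * z₂⁻¹) := by rw [c2 v hv]
          _ = ((z₁ * z₂ * z₁⁻¹) * v) * z₂⁻¹ := by group
          _ = (v * (z₁ * z₂ * z₁⁻¹)) * z₂⁻¹ := by rw [h6 v hv]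
          _ = _ := by group
      -- `[z₁, z₂] = 1`, as `z₁ z₂` act trivially and `z₂ = d⁻¹ (t d t⁻¹)`
      have hz₂mem : z₂ ∈ Dh := by
        have : z₂ = d₂⁻¹ * (t * d₂ * t⁻¹) := by rw [hz₂]; group
        rw [this]
        exact mul_mem (inv_mem hd₂) (htD _ hd₂)
      have h9 : z₁ * z₂ = z₂ * z₁ := hz₁c z₂ hz₂mem
      have h10 : z₁ * z₂ * z₁⁻¹ * z₂⁻¹ = 1 := by
        rw [h9]; group
      rw [h10, one_mul]
    · -- the action of the commutator
      intro v hv
      have hc₁' : ∀ v ∈ Dh, c₁⁻¹ * v = v * c₁⁻¹ := by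
        intro v hv
        rw [inv_mul_eq_iff_eq_mul, ← mul_assoc, hc₁ v hv, mul_assoc, mul_inv_cancel, mul_one]
      have hc₂' : ∀ v ∈ Dh, c₂⁻¹ * v = v * c₂⁻¹ := by
        intro v hv
        rw [inv_mul_eq_iff_eq_mul, ← mul_assoc, hc₂ v hv, mul_assoc, mul_inv_cancel, mul_one]
      -- write the action of `d * c` on `Dh` as the action of `d`
      have hact : ∀ (d c : G), (∀ v ∈ Dh, c * v = v * c) → ∀ v ∈ Dh,
          (d * c) * v * (d * c)⁻¹ = d * v * d⁻¹ := by
        intro d c hc v hv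
        calc (d * c) * v * (d * c)⁻¹ = d * (c * v) * c⁻¹ * d⁻¹ := by group
          _ = d * (v * c) * c⁻¹ * d⁻¹ := by rw [hc v hv]
          _ = _ := by group
      have hactinv : ∀ (d c : G), d ∈ Dh → (∀ v ∈ Dh, c * v = v * c) → ∀ v ∈ Dh,
          (d * c)⁻¹ * v * (d * c) = d⁻¹ * v * d := by
        intro d c hd hc v hv
        have hw : d⁻¹ * v * d ∈ Dh := by
          simpa using mul_mem (mul_mem (inv_mem hd) hv) hd
        calc (d * c)⁻¹ * v * (d * c) = c⁻¹ * ((d⁻¹ * v * d) * c) := by group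
          _ = c⁻¹ * (c * (d⁻¹ * v * d)) := by rw [hc _ hw]
          _ = _ := by group
      simp only [commutatorElement_def]
      have hA1 : (d₂ * c₂)⁻¹ * v * (d₂ * c₂) = d₂⁻¹ * v * d₂ := hactinv d₂ c₂ hd₂ hc₂ v hv
      have hv1 : d₂⁻¹ * v * d₂ ∈ Dh := by
        simpa using mul_mem (mul_mem (inv_mem hd₂) hv) hd₂
      have hA2 : (d₁ * c₁)⁻¹ * (d₂⁻¹ * v * d₂) * (d₁ * c₁) = d₁⁻¹ * (d₂⁻¹ * v * d₂) * d₁ :=
        hactinv d₁ c₁ hd₁ hc₁ _ hv1
      have hv2 : d₁⁻¹ * (d₂⁻¹ * v * d₂) * d₁ ∈ Dh := by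
        simpa using mul_mem (mul_mem (inv_mem hd₁) hv1) hd₁
      have hA3 := hact d₂ c₂ hc₂ _ hv2
      have hv3 : d₂ * (d₁⁻¹ * (d₂⁻¹ * v * d₂) * d₁) * d₂⁻¹ ∈ Dh :=
        mul_mem (mul_mem hd₂ hv2) (inv_mem hd₂)
      have hA4 := hact d₁ c₁ hc₁ _ hv3
      calc d₁ * c₁ * (d₂ * c₂) * (d₁ * c₁)⁻¹ * (d₂ * c₂)⁻¹ * v *
            (d₁ * c₁ * (d₂ * c₂) * (d₁ * c₁)⁻¹ * (d₂ * c₂)⁻¹)⁻¹
          = (d₁ * c₁) * ((d₂ * c₂) * ((d₁ * c₁)⁻¹ * ((d₂ * c₂)⁻¹ * v * (d₂ * c₂)) * (d₁ * c₁)) *
              (d₂ * c₂)⁻¹) * (d₁ * c₁)⁻¹ := by group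
        _ = (d₁ * c₁) * ((d₂ * c₂) * ((d₁ * c₁)⁻¹ * (d₂⁻¹ * v * d₂) * (d₁ * c₁)) *
              (d₂ * c₂)⁻¹) * (d₁ * c₁)⁻¹ := by rw [hA1]
        _ = (d₁ * c₁) * ((d₂ * c₂) * (d₁⁻¹ * (d₂⁻¹ * v * d₂) * d₁) *
              (d₂ * c₂)⁻¹) * (d₁ * c₁)⁻¹ := by rw [hA2]
        _ = (d₁ * c₁) * (d₂ * (d₁⁻¹ * (d₂⁻¹ * v * d₂) * d₁) * d₂⁻¹) * (d₁ * c₁)⁻¹ := by rw [hA3]
        _ = d₁ * (d₂ * (d₁⁻¹ * (d₂⁻¹ * v * d₂) * d₁) * d₂⁻¹) * d₁⁻¹ := hA4
        _ = _ := by group
  -- the action on `Dh`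
  let φ : ↥L →* MulAut ↥Dh := {
    toFun := fun x => PComponent.conjRestrict Dh x (by
      rw [mem_normalizer_iff]
      intro v
      constructor
      · exact hnorm x x.2 v
      · intro hv
        have := hnorm x⁻¹ (inv_mem x.2) _ hv
        simpa [mul_assoc] using this)
    map_one' := by
      ext y
      simp [PComponent.conjRestrict]
    map_mul' := fun a b => by
      ext y
      simp [PComponent.conjRestrict, mul_assoc] }
  have hφ : ∀ (x : ↥L) (v : ↥Dh), ((φ x v : ↥Dh) : G) = (x : G) * v * (x : G)⁻¹ := fun _ _ => rfl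
  -- `φ z` commutes with `φ w` for all `w`
  have hcommφ : ∀ z w : ↥L, φ z * φ w = φ w * φ z := by
    have htop : ⁅(⊤ : Subgroup ↥L), (⊤ : Subgroup ↥L)⁆ = ⊤ := by
      have h := (Subgroup.isPerfect_iff (H := L)).mpr hperf
      exact h.commutator_eq_top
    intro z w
    have hw : w ∈ ⁅(⊤ : Subgroup ↥L), (⊤ : Subgroup ↥L)⁆ := by rw [htop]; trivial
    rw [Subgroup.commutator_def] at hw
    refine Subgroup.closure_induction (p := fun w _ => φ z * φ w = φ w * φ z) ?_ ?_ ?_ ?_ hw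
    · rintro _ ⟨x, _, y, _, rfl⟩
      -- the main computation
      obtain ⟨e, he, hte, hact⟩ := hA x x.2 y y.2
      have hze : (z : G) * e = e * z := hcomm z z.2 e he hte
      ext v
      simp only [MulAut.mul_apply]
      rw [hφ, hφ, hφ, hφ]
      have h1 : ((⁅x, y⁆ : ↥L) : G) = ⁅(x : G), (y : G)⁆ := by
        simp [commutatorElement_def]
      rw [h1]
      have h2 := hact v v.2
      have h3 := hact _ (hnorm z z.2 v v.2)
      rw [h2, h3]
      have hzi2 : e⁻¹ * (z : G)⁻¹ = (z : G)⁻¹ * e⁻¹ :=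
        (Commute.inv_inv (show Commute (z : G) e from hze)).eq.symm
      calc (z : G) * (e * v * e⁻¹) * (z : G)⁻¹ = ((z : G) * e) * v * (e⁻¹ * (z : G)⁻¹) := by group
        _ = (e * z) * v * ((z : G)⁻¹ * e⁻¹) := by rw [hze, hzi2]
        _ = e * (z * v * (z : G)⁻¹) * e⁻¹ := by group
    · simp
    · intro a b _ _ ha hb
      rw [map_mul, ← mul_assoc, ha, mul_assoc, hb, ← mul_assoc]
    · intro a _ ha
      rw [map_inv]
      exact (Commute.inv_right (show Commute (φ z) (φ a) from ha)).eq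
  have htop : ⁅(⊤ : Subgroup ↥L), (⊤ : Subgroup ↥L)⁆ = ⊤ :=
    ((Subgroup.isPerfect_iff (H := L)).mpr hperf).commutator_eq_top
  have hker : φ.ker = ⊤ := by
    rw [eq_top_iff, ← htop, Subgroup.commutator_le]
    intro x _ y _
    rw [MonoidHom.mem_ker, map_commutatorElement]
    exact commutatorElement_eq_one_iff_mul_comm.mpr (hcommφ x y)
  intro l hl v hv
  have h1 : φ ⟨l, hl⟩ = 1 := by
    have : (⟨l, hl⟩ : ↥L) ∈ φ.ker := by rw [hker]; trivial
    exact this
  have h2 := hφ ⟨l, hl⟩ ⟨v, hv⟩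
  rw [h1] at h2
  have h3 : v = l * v * l⁻¹ := h2
  calc l * v = (l * v * l⁻¹) * l := by group
    _ = v * l := by rw [← h3]

end key


section main

variable [Finite G]

/-- The conjugate `D^t`. -/
abbrev Cj (t : G) (D : Subgroup G) : Subgroup G := D.map (MulAut.conj t).toMonoidHom

theorem conj_mem_cj {t d : G} {D : Subgroup G} (hd : d ∈ D) : t * d * t⁻¹ ∈ Cj t D :=
  ⟨d, hd, rfl⟩

/-- Elements of the layer are products of an element of `D ⊔ D^t` and a centralizing element. -/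
theorem exists_decomp {D Dt : Subgroup G} (hD : IsComponent D) (hDt : IsComponent Dt) {x : G}
    (hx : x ∈ layer G) : ∃ d ∈ D ⊔ Dt, ∃ c, (∀ v ∈ D ⊔ Dt, c * v = v * c) ∧ x = d * c := by
  set S : Set (Subgroup G) := {K | IsComponent K ∧ K ≠ D ∧ K ≠ Dt} with hS
  have hle : layer G ≤ (D ⊔ Dt) ⊔ sSup S := by
    refine sSup_le fun K hK => ?_
    by_cases h1 : K = D
    · rw [h1]; exact le_sup_of_le_left le_sup_left
    by_cases h2 : K = Dt
    · rw [h2]; exact le_sup_of_le_left le_sup_right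
    exact le_sup_of_le_right (le_sSup ⟨hK, h1, h2⟩)
  have h1 := commute_sSup_of_not_mem (S := S) hD (fun K hK => hK.1) (fun h => h.2.1 rfl)
  have h2 := commute_sSup_of_not_mem (S := S) hDt (fun K hK => hK.1) (fun h => h.2.2 rfl)
  have hcomm : ∀ a ∈ D ⊔ Dt, ∀ b ∈ sSup S, a * b = b * a := by
    intro a ha b hb
    have : D ⊔ Dt ≤ centralizer ({b} : Set G) := by
      refine sup_le ?_ ?_
      · intro y hy
        rw [mem_centralizer_singleton_iff]
        exact h1 y hy b hb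
      · intro y hy
        rw [mem_centralizer_singleton_iff]
        exact h2 y hy b hb
    exact mem_centralizer_singleton_iff.mp (this ha)
  obtain ⟨a, ha, b, hb, rfl⟩ := mem_sup_of_commute hcomm (hle hx)
  exact ⟨a, ha, b, fun v hv => (hcomm v hv b hb).symm, rfl⟩

/-- `(W ⊓ C)` is subnormal in `C` when `W ≤ E(G)` is invariant under `E(G)`. -/
theorem isSubnormal_inf_subgroupOf {C W : Subgroup G} (hWE : W ≤ layer G)
    (hWn : ∀ b ∈ layer G, ∀ a ∈ W, b * a * b⁻¹ ∈ W) : ((W ⊓ C).subgroupOf C).IsSubnormal := by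
  have hE : (layer G).Normal := layer_normal
  have hJ : ((layer G).subgroupOf C).Normal := inferInstance
  have hHJ : (W ⊓ C).subgroupOf C ≤ (layer G).subgroupOf C := by
    intro x hx
    rw [mem_subgroupOf] at hx ⊢
    exact hWE hx.1
  have hn : (((W ⊓ C).subgroupOf C).subgroupOf ((layer G).subgroupOf C)).Normal := by
    rw [normal_subgroupOf_iff_forall hHJ]
    intro b hb a ha
    rw [mem_subgroupOf] at hb ha ⊢
    refine ⟨?_, ?_⟩
    · simpa using hWn b hb a ha.1
    · exact (b * a * b⁻¹).2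
  exact hn.isSubnormal.trans hHJ hJ.isSubnormal

/-- `L ≤ W`, or `L` commutes with `C_W(t)`. -/
theorem le_or_commute_of_invariant {t : G} {L W : Subgroup G}
    (hLt : L ≤ centralizer ({t} : Set G))
    (hL : IsComponent (L.subgroupOf (centralizer ({t} : Set G))))
    (hWE : W ≤ layer G) (hWn : ∀ b ∈ layer G, ∀ a ∈ W, b * a * b⁻¹ ∈ W) :
    L ≤ W ∨ ∀ l ∈ L, ∀ w ∈ W, t * w * t⁻¹ = w → l * w = w * l := by
  set C := centralizer ({t} : Set G) with hC
  rcases le_or_commutator_eq_bot hL (isSubnormal_inf_subgroupOf (C := C) hWE hWn) with h | h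
  · left
    intro x hx
    have h1 : (⟨x, hLt hx⟩ : C) ∈ L.subgroupOf C := by
      rw [mem_subgroupOf]; exact hx
    have h2 := h h1
    rw [mem_subgroupOf] at h2
    exact h2.1
  · right
    intro l hl w hw htw
    have hwC : w ∈ C := by
      rw [hC, mem_centralizer_singleton_iff]
      rw [mul_inv_eq_iff_eq_mul] at htw
      exact htw.symm
    have h1 := commutator_eq_bot_iff_forall.mp h (⟨l, hLt hl⟩ : C) (by rw [mem_subgroupOf]; exact hl)
      (⟨w, hwC⟩ : C) (by rw [mem_subgroupOf]; exact ⟨hw, hwC⟩)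
    exact congrArg Subtype.val h1

theorem isQuasisimple_of_component_centralizer {C L : Subgroup G} (hLt : L ≤ C)
    (hL : IsComponent (L.subgroupOf C)) : IsQuasisimple ↥L :=
  (isQuasisimple_congr (Subgroup.subgroupOfEquivOfLe hLt)).mp hL.2

/-- `t` permutes `D ⊔ D^t`. -/
theorem conj_mem_sup {t : G} (htt : t * t = 1) {D : Subgroup G} {v : G} (hv : v ∈ D ⊔ Cj t D) :
    t * v * t⁻¹ ∈ D ⊔ Cj t D := by
  have htinv : t⁻¹ = t := inv_eq_of_mul_eq_one_left htt
  have : D ⊔ Cj t D ≤ (D ⊔ Cj t D).comap (MulAut.conj t).toMonoidHom := by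
    refine sup_le ?_ ?_
    · intro d hd
      rw [mem_comap]
      exact mem_sup_right (conj_mem_cj hd)
    · rintro _ ⟨d, hd, rfl⟩
      rw [mem_comap]
      apply mem_sup_left
      have : (MulAut.conj t).toMonoidHom ((MulAut.conj t).toMonoidHom d) = d := by
        change t * (t * d * t⁻¹) * t⁻¹ = d
        rw [htinv]
        calc t * (t * d * t) * t = (t * t) * d * (t * t) := by group
          _ = d := by rw [htt]; group
      rw [this]
      exact hd
  exact this hv

/-- A component `L` of `C_G(t)` inside `E(G)` lies in `D ⊔ D^t` for some component `D` of `G`. -/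
theorem exists_component_le_sup {t : G} (htt : t * t = 1) {L : Subgroup G}
    (hLt : L ≤ centralizer ({t} : Set G))
    (hL : IsComponent (L.subgroupOf (centralizer ({t} : Set G))))
    (hLE : L ≤ layer G) : ∃ D : Subgroup G, IsComponent D ∧ L ≤ D ⊔ Cj t D := by
  by_contra hno
  have hno' : ∀ D : Subgroup G, IsComponent D → ¬ L ≤ D ⊔ Cj t D := fun D hD h => hno ⟨D, hD, h⟩
  have hq := isQuasisimple_of_component_centralizer hLt hL
  have hperf : ⁅L, L⁆ = L := Subgroup.isPerfect_iff.mp hq.1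
  have hLt' : ∀ l ∈ L, l * t = t * l := fun l hl => mem_centralizer_singleton_iff.mp (hLt hl)
  have key : ∀ D : Subgroup G, IsComponent D → ∀ l ∈ L, ∀ v ∈ D ⊔ Cj t D, l * v = v * l := by
    intro D hD
    have hDt : IsComponent (Cj t D) := isComponent_conj t hD
    refine commute_of_commute_fixed (t := t) htt hperf hLt' ?_ ?_ ?_
    · intro x hx
      exact exists_decomp hD hDt (hLE hx)
    · intro v hv
      exact conj_mem_sup htt hv
    · have hWE : D ⊔ Cj t D ≤ layer G := sup_le (le_layer hD) (le_layer hDt)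
      have hWn : ∀ b ∈ layer G, ∀ a ∈ D ⊔ Cj t D, b * a * b⁻¹ ∈ D ⊔ Cj t D := by
        intro b hb a ha
        have : D ⊔ Cj t D ≤ (D ⊔ Cj t D).comap (MulAut.conj b).toMonoidHom := by
          refine sup_le ?_ ?_
          · intro d hd
            rw [mem_comap]
            apply mem_sup_left
            exact (mem_normalizer_iff.mp (Balance.layer_le_normalizer hD hb) d).mp hd
          · intro d hd
            rw [mem_comap]
            apply mem_sup_right
            exact (mem_normalizer_iff.mp (Balance.layer_le_normalizer hDt hb) d).mp hd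
        exact this ha
      rcases le_or_commute_of_invariant hLt hL hWE hWn with h | h
      · exact absurd h (hno' D hD)
      · exact h
  -- `L` commutes with `E(G)`
  have hcE : layer G ≤ centralizer (L : Set G) := by
    refine sSup_le fun K hK => ?_
    intro k hk
    rw [mem_centralizer_iff]
    intro l hl
    exact key K hK l hl k (mem_sup_left hk)
  apply not_isMulCommutative_of_isQuasisimple hq
  refine ⟨⟨fun a b => Subtype.ext ?_⟩⟩
  exact (mem_centralizer_iff.mp (hcE (hLE a.2)) b b.2).symm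

/-- Second case of the trichotomy. -/
theorem eq_commutator_of_ne {t : G} {L D : Subgroup G} (hD : IsComponent D) (htn : Cj t D = D)
    (hLt : L ≤ centralizer ({t} : Set G))
    (hL : IsComponent (L.subgroupOf (centralizer ({t} : Set G))))
    (hLD : L ≤ D) (hne : L ≠ D) : D = ⁅D, zpowers t⁆ := by
  set C := centralizer ({t} : Set G) with hC
  have hq := isQuasisimple_of_component_centralizer hLt hL
  have hperfD : ⁅D, D⁆ = D := Subgroup.isPerfect_iff.mp hD.2.1
  have hy : ∀ a ∈ D, t * a * t⁻¹ ∈ D := by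
    intro a ha
    rw [← htn]
    exact conj_mem_cj ha
  have htN : t ∈ normalizer (D : Set G) := by
    rw [mem_normalizer_iff]
    intro a
    refine ⟨hy a, fun ha => ?_⟩
    rw [← htn] at ha
    obtain ⟨b, hb, hba⟩ := ha
    have : b = a := by
      have h1 : t * b * t⁻¹ = t * a * t⁻¹ := hba
      exact mul_left_cancel (mul_right_cancel h1)
    rwa [← this]
  have hz : zpowers t ≤ normalizer (D : Set G) := zpowers_le.mpr htN
  have hUD : ⁅D, zpowers t⁆ ≤ D := by
    rw [Subgroup.commutator_le]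
    intro d hd k hk
    rw [commutatorElement_def]
    have h1 := (mem_normalizer_iff.mp (hz hk) d⁻¹).mp (inv_mem hd)
    have : d * k * d⁻¹ * k⁻¹ = d * (k * d⁻¹ * k⁻¹) := by group
    rw [this]
    exact mul_mem hd h1
  have hUn : ((⁅D, zpowers t⁆).subgroupOf D).Normal := by
    rw [normal_subgroupOf_iff_forall hUD]
    intro b hb a ha
    exact conj_mem_commutator hb ha
  rcases Quasisimple.eq_top_or_le_center_of_normal hD.2 hUn with h | h
  · exact le_antisymm (Subgroup.subgroupOf_eq_top.mp h) hUD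
  · exfalso
    have hc := Balance.commute_of_central_action hperfD hy (by
      intro a ha b hb
      have h1 : a⁻¹ * (t * a * t⁻¹) ∈ ⁅D, zpowers t⁆ := by
        have := Subgroup.commutator_mem_commutator (inv_mem ha) (mem_zpowers t)
        rw [commutatorElement_def] at this
        have e : a⁻¹ * t * a⁻¹⁻¹ * t⁻¹ = a⁻¹ * (t * a * t⁻¹) := by group
        rwa [e] at this
      have h2 : (⟨_, hUD h1⟩ : ↥D) ∈ (⁅D, zpowers t⁆).subgroupOf D := by
        rw [mem_subgroupOf]; exact h1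
      have h3 := Subgroup.mem_center_iff.mp (h h2) ⟨b, hb⟩
      exact congrArg Subtype.val h3)
    have hDC : D ≤ C := by
      intro a ha
      rw [hC, mem_centralizer_singleton_iff]
      exact (hc a ha).eq.symm
    have hD' := isComponent_subgroupOf hD hDC
    rcases eq_or_commutator_eq_bot hL hD' with h4 | h4
    · apply hne
      apply le_antisymm hLD
      intro x hx
      have h5 : (⟨x, hDC hx⟩ : C) ∈ L.subgroupOf C := by
        rw [h4, mem_subgroupOf]; exact hx
      rw [mem_subgroupOf] at h5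
      exact h5
    · apply not_isMulCommutative_of_isQuasisimple hq
      refine ⟨⟨fun a b => Subtype.ext ?_⟩⟩
      have h5 := commutator_eq_bot_iff_forall.mp h4 (⟨a, hLt a.2⟩ : C)
        (by rw [mem_subgroupOf]; exact a.2) (⟨b, hDC (hLD b.2)⟩ : C)
        (by rw [mem_subgroupOf]; exact hLD b.2)
      have h6 : (a : G) * b = b * a := congrArg Subtype.val h5
      exact h6

/-- Third case of the trichotomy: `L` is the diagonal. -/
theorem exists_range_of_ne {t : G} (ht : orderOf t = 2) {L D : Subgroup G} (hD : IsComponent D)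
    (hne : Cj t D ≠ D) (hLt : L ≤ centralizer ({t} : Set G))
    (hL : IsComponent (L.subgroupOf (centralizer ({t} : Set G))))
    (hLDD : L ≤ D ⊔ Cj t D) :
    ∃ π : ↥D →* G, (∀ l : ↥D, π l = (l : G) * (t * (l : G) * t⁻¹)) ∧ π.ker ≤ center ↥D ∧
      L = π.range ∧ ⁅(D ⊔ Cj t D) ⊓ centralizer ({t} : Set G),
        (D ⊔ Cj t D) ⊓ centralizer ({t} : Set G)⁆ = π.range := by
  set C := centralizer ({t} : Set G) with hC
  have hq := isQuasisimple_of_component_centralizer hLt hL
  have hperf : ⁅L, L⁆ = L := Subgroup.isPerfect_iff.mp hq.1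
  have hperfD : ⁅D, D⁆ = D := Subgroup.isPerfect_iff.mp hD.2.1
  have hDt : IsComponent (Cj t D) := isComponent_conj t hD
  have hc : ⁅D, Cj t D⁆ = ⊥ := by
    rcases eq_or_commutator_eq_bot hD hDt with h | h
    · exact absurd h.symm hne
    · exact h
  obtain ⟨π, hπ, hker, hran, hcomW⟩ := Cfsg.Agent.S1314.result t ht D hperfD hc
  set W := (D ⊔ Cj t D) ⊓ C with hW
  have hLW : L ≤ W := le_inf hLDD hLt
  have hLle : L ≤ π.range := by
    rw [← hcomW, ← hperf]
    exact Subgroup.commutator_mono hLW hLW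
  haveI : Nontrivial ↥L := nontrivial_of_isQuasisimple hq
  have hQ : IsQuasisimple ↥π.range := by
    refine isQuasisimple_of_surjective hD.2 (f := π.rangeRestrict) π.rangeRestrict_surjective ?_
    intro htop
    obtain ⟨⟨x, hx⟩, hx1⟩ := exists_ne (1 : ↥L)
    apply hx1
    apply Subtype.ext
    obtain ⟨y, hy⟩ := hLle hx
    have h1 : y ∈ π.rangeRestrict.ker := by rw [htop]; trivial
    rw [MonoidHom.mem_ker] at h1
    have h2 : π y = 1 := by simpa using congrArg Subtype.val h1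
    rw [h2] at hy
    exact hy.symm
  -- `π.range = ⁅W, W⁆` is a component of `C`
  have hWE : D ⊔ Cj t D ≤ layer G := sup_le (le_layer hD) (le_layer hDt)
  have hWn : ∀ b ∈ layer G, ∀ a ∈ D ⊔ Cj t D, b * a * b⁻¹ ∈ D ⊔ Cj t D := by
    intro b hb a ha
    have : D ⊔ Cj t D ≤ (D ⊔ Cj t D).comap (MulAut.conj b).toMonoidHom := by
      refine sup_le ?_ ?_
      · intro d hd
        rw [mem_comap]
        apply mem_sup_left
        exact (mem_normalizer_iff.mp (Balance.layer_le_normalizer hD hb) d).mp hd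
      · intro d hd
        rw [mem_comap]
        apply mem_sup_right
        exact (mem_normalizer_iff.mp (Balance.layer_le_normalizer hDt hb) d).mp hd
    exact this ha
  have hWs := isSubnormal_inf_subgroupOf (C := C) hWE hWn
  have hleW : π.range ≤ W := by
    rw [← hcomW, Subgroup.commutator_le]
    intro a ha b hb
    rw [commutatorElement_def]
    exact mul_mem (mul_mem (mul_mem ha hb) (inv_mem ha)) (inv_mem hb)
  have hleC : π.range ≤ C := hleW.trans inf_le_right
  have hsub : (π.range.subgroupOf C).IsSubnormal := by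
    have hle2 : π.range.subgroupOf C ≤ W.subgroupOf C := by
      intro x hx
      rw [mem_subgroupOf] at hx ⊢
      exact hleW hx
    have hn : ((π.range.subgroupOf C).subgroupOf (W.subgroupOf C)).Normal := by
      rw [normal_subgroupOf_iff_forall hle2]
      intro b hb a ha
      rw [mem_subgroupOf] at hb ha ⊢
      rw [← hcomW] at ha ⊢
      simpa using conj_mem_commutator hb ha
    exact hn.isSubnormal.trans hle2 hWs
  have hcomp : IsComponent (π.range.subgroupOf C) :=
    ⟨hsub, (isQuasisimple_congr (Subgroup.subgroupOfEquivOfLe hleC)).mpr hQ⟩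
  have hLeq : L = π.range := by
    rcases eq_or_commutator_eq_bot hL hcomp with h | h
    · apply le_antisymm hLle
      intro x hx
      have h5 : (⟨x, hleC hx⟩ : C) ∈ L.subgroupOf C := by
        rw [h, mem_subgroupOf]; exact hx
      rw [mem_subgroupOf] at h5
      exact h5
    · exfalso
      apply not_isMulCommutative_of_isQuasisimple hq
      refine ⟨⟨fun a b => Subtype.ext ?_⟩⟩
      have h5 := commutator_eq_bot_iff_forall.mp h (⟨a, hLt a.2⟩ : C)
        (by rw [mem_subgroupOf]; exact a.2) (⟨b, hLt b.2⟩ : C)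
        (by rw [mem_subgroupOf]; exact hLle b.2)
      have h6 : (a : G) * b = b * a := congrArg Subtype.val h5
      exact h6
  exact ⟨π, hπ, hker, hLeq, hcomW⟩

/-- Third case of the trichotomy. -/
theorem eq_layer_of_ne {t : G} (ht : orderOf t = 2) {L D : Subgroup G} (hD : IsComponent D)
    (hne : Cj t D ≠ D) (hLt : L ≤ centralizer ({t} : Set G))
    (hL : IsComponent (L.subgroupOf (centralizer ({t} : Set G))))
    (hLDD : L ≤ D ⊔ Cj t D) :
    L = (layer ↥((D ⊔ Cj t D) ⊓ centralizer ({t} : Set G))).map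
      ((D ⊔ Cj t D) ⊓ centralizer ({t} : Set G)).subtype := by
  obtain ⟨π, _, _, hLeq, hcomW⟩ := exists_range_of_ne ht hD hne hLt hL hLDD
  set C := centralizer ({t} : Set G) with hC
  have hq := isQuasisimple_of_component_centralizer hLt hL
  set W := (D ⊔ Cj t D) ⊓ C with hW
  have hLW : L ≤ W := le_inf hLDD hLt
  have hLcomm : L = ⁅W, W⁆ := by rw [hLeq, hcomW]
  apply le_antisymm
  · have hnL : (L.subgroupOf W).Normal := by
      rw [normal_subgroupOf_iff_forall hLW]
      intro b hb a ha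
      rw [hLcomm] at ha ⊢
      exact conj_mem_commutator hb ha
    have hcL : IsComponent (L.subgroupOf W) :=
      ⟨hnL.isSubnormal, (isQuasisimple_congr (Subgroup.subgroupOfEquivOfLe hLW)).mpr hq⟩
    have h1 := le_layer hcL
    have h2 : L = (L.subgroupOf W).map W.subtype := by
      rw [Subgroup.map_subgroupOf_eq_of_le hLW]
    conv_lhs => rw [h2]
    exact Subgroup.map_mono h1
  · rw [Subgroup.map_le_iff_le_comap]
    refine sSup_le fun K hK => ?_
    rw [← Subgroup.map_le_iff_le_comap, hLcomm]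
    have hKp : ⁅K, K⁆ = K := Subgroup.isPerfect_iff.mp hK.2.1
    rw [← hKp, Subgroup.map_commutator]
    have : K.map W.subtype ≤ W := by
      rintro _ ⟨k, _, rfl⟩
      exact k.2
    exact Subgroup.commutator_mono this this

/-- The trichotomy for a component of an involution centralizer of even order. -/
theorem trichotomy (hL2 : pLayer 2 G = layer G) (t : G) (ht : orderOf t = 2) (L : Subgroup G)
    (hLt : L ≤ centralizer ({t} : Set G))
    (hL : IsComponent (L.subgroupOf (centralizer ({t} : Set G)))) (hev : Even (Nat.card L)) :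
    ∃ D : Subgroup G, IsComponent D ∧ (L = D ∨ (L < D ∧ D = ⁅D, zpowers t⁆) ∨
      (D.map (MulAut.conj t).toMonoidHom ≠ D ∧
        L = (layer ↥((D ⊔ D.map (MulAut.conj t).toMonoidHom) ⊓ centralizer ({t} : Set G))).map
          ((D ⊔ D.map (MulAut.conj t).toMonoidHom) ⊓ centralizer ({t} : Set G)).subtype)) := by
  have htt : t * t = 1 := by
    have := pow_orderOf_eq_one t
    rwa [ht, pow_two] at this
  have hLE := le_layer_of_component hL2 t ht L hLt hL hev
  obtain ⟨D, hD, hLD⟩ := exists_component_le_sup htt hLt hL hLE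
  refine ⟨D, hD, ?_⟩
  by_cases hn : Cj t D = D
  · rw [hn, sup_idem] at hLD
    by_cases hne : L = D
    · exact Or.inl hne
    · exact Or.inr (Or.inl ⟨lt_of_le_of_ne hLD hne, eq_commutator_of_ne hD hn hLt hL hLD hne⟩)
  · exact Or.inr (Or.inr ⟨hn, eq_layer_of_ne ht hD hn hLt hL hLD⟩)

end main

end Cfsg.Agent.Lib.Components.InvComp
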