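import Mathlib
import Cfsg.Prelude.Def_Local
import Cfsg.Prelude.Def_Solvable
import Cfsg.Prelude.Def_CaseTheorems
import Cfsg.Prelude.Def_IsolatedElements
import Cfsg.Agent.Lib.Components.PMinimal
import Cfsg.Agent.Lib.Components.FStar
import Cfsg.Agent.Lib.Components.LocalFStar
import Cfsg.Agent.Lib.Components.PConstrained
import Cfsg.Agent.Lib.Transfer.Frobenius
import Cfsg.Agent.Lib.PGroup.Critical

/-!
# Isolated elements of odd prime order in groups of `p`-rank two
-/

set_option autoImplicit false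
set_option linter.unusedSectionVars false
set_option linter.style.haveILetI false
open Cfsg

namespace Cfsg.Agent.Lib.Components.IsolatedRankTwo

open Subgroup Cfsg.Agent.Lib.Components.Layer Cfsg.Agent.Lib.Components.PMinimal
open Cfsg.Agent.Lib.Transfer.Basic Cfsg.Agent.Lib.Transfer.Frobenius

section General

variable {G : Type*} [Group G] [Finite G] {p : ℕ} [hp : Fact p.Prime]

/-- A `p'`-element normalizing a `p`-subgroup and fixing its elements of order `p` centralizes it
(`p` odd). -/
theorem mem_centralizer_of_fix (hp2 : p ≠ 2) {Q : Subgroup G} (hQ : IsPGroup p Q) {g : G}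
    (hg : g ∈ normalizer (Q : Set G)) (hc : (orderOf g).Coprime p)
    (hfix : ∀ y ∈ Q, y ^ p = 1 → g * y * g⁻¹ = y) : g ∈ centralizer (Q : Set G) := by
  let a : MulAut ↥Q := Q.normalizerMonoidHom ⟨g, hg⟩
  have hav : ∀ x : ↥Q, ((a x : ↥Q) : G) = g * x * g⁻¹ := fun x => rfl
  have ha : (orderOf a).Coprime p := by
    have h1 : orderOf a ∣ orderOf (⟨g, hg⟩ : ↥(normalizer (Q : Set G))) := orderOf_map_dvd _ _
    have h2 : orderOf (⟨g, hg⟩ : ↥(normalizer (Q : Set G))) = orderOf g := Subgroup.orderOf_mk g hg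
    rw [h2] at h1
    exact Nat.Coprime.coprime_dvd_left h1 hc
  have h1 := Cfsg.Agent.Lib.PGroup.Critical.coprime_aut_eq_one_of_fixes hQ a ha (dvd_refl p)
    (Cfsg.Agent.Lib.PGroup.Critical.prime_dvd_choose_two hp2) (fun x hx => by
      apply Subtype.ext
      rw [hav]
      exact hfix x x.2 (by simpa using congrArg Subtype.val hx))
  rw [Subgroup.mem_centralizer_iff]
  intro q hq
  have h2 : a ⟨q, hq⟩ = ⟨q, hq⟩ := by rw [h1]; rfl
  have h3 : g * q * g⁻¹ = q := by
    have := congrArg Subtype.val h2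
    rwa [hav] at this
  calc q * g = (g * q * g⁻¹) * g := by rw [h3]
    _ = g * q := by group

/-- A criterion for normal `p`-complements. -/
theorem hasNormalPComplement_of_fix (hp2 : p ≠ 2) (T : Sylow p G)
    (h : ∀ y ∈ (T : Subgroup G), y ^ p = 1 → ∀ g : G, g * y * g⁻¹ ∈ (T : Subgroup G) →
      g * y * g⁻¹ = y) : HasNormalPComplement p G := by
  apply hasNormalPComplement_of_hyp
  intro Q hQ g hg hc
  obtain ⟨u, hu⟩ := exists_conj_mem_of_isPGroup T hQ
  apply mem_centralizer_of_fix hp2 hQ hg hc
  intro y hy hyp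
  have hy' : u * y * u⁻¹ ∈ (T : Subgroup G) := hu y hy
  have hyp' : (u * y * u⁻¹) ^ p = 1 := by
    rw [conj_pow, hyp]
    simp
  have h1 : (u * g * u⁻¹) * (u * y * u⁻¹) * (u * g * u⁻¹)⁻¹ ∈ (T : Subgroup G) := by
    have h2 : (u * g * u⁻¹) * (u * y * u⁻¹) * (u * g * u⁻¹)⁻¹ = u * (g * y * g⁻¹) * u⁻¹ := by group
    rw [h2]
    exact hu _ ((mem_normalizer_iff.mp hg y).mp hy)
  have h3 := h _ hy' hyp' _ h1
  have h4 : (u * g * u⁻¹) * (u * y * u⁻¹) * (u * g * u⁻¹)⁻¹ = u * (g * y * g⁻¹) * u⁻¹ := by group
  rw [h4] at h3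
  have h5 : g * y * g⁻¹ = u⁻¹ * (u * (g * y * g⁻¹) * u⁻¹) * u := by group
  rw [h5, h3]
  group

theorem not_hasNormalPComplement {K : Type*} [Group K] [Finite K] (hK : Group.IsPerfect K)
    (hd : p ∣ Nat.card K) : ¬ HasNormalPComplement p K := by
  intro h
  obtain ⟨N, hn, h1, h2⟩ := hasNormalPComplement_iff.mp h
  have hc : ⁅(⊤ : Subgroup K), (⊤ : Subgroup K)⁆ = ⊤ := hK.commutator_eq_top
  haveI := h2.isNilpotent
  have hle := perfect_le_of_solvable_quotient (K := (⊤ : Subgroup K)) (N := N) inferInstance hc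
  have htop : N = ⊤ := top_le_iff.mp hle
  rw [htop, Subgroup.card_top] at h1
  exact (Nat.Prime.coprime_iff_not_dvd hp.out).mp h1.symm hd

theorem exists_noncentral (hp2 : p ≠ 2) {K : Type*} [Group K] [Finite K] (hK : Group.IsPerfect K)
    (hd : p ∣ Nat.card K) : ∃ a : K, a ^ p = 1 ∧ a ∉ center K := by
  by_contra h
  push Not at h
  apply not_hasNormalPComplement hK hd
  apply hasNormalPComplement_of_fix hp2 default
  intro y _ hyp g _
  have := Subgroup.mem_center_iff.mp (h y hyp) g
  rw [this]
  simp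

theorem card_mul_le_of_lt {A B : Subgroup G} (hB : IsPGroup p B) (h : A < B) :
    p * Nat.card A ≤ Nat.card B := by
  have h1 : Nat.card B = Nat.card A * A.relIndex B :=
    Cfsg.Agent.Lib.PGroup.Critical.card_eq_mul_relIndex h.le
  have h2 : A.relIndex B ≠ 1 := by
    intro h3
    exact not_le_of_gt h (Subgroup.relIndex_eq_one.mp h3)
  have h3 : A.relIndex B ∣ Nat.card B := Subgroup.relIndex_dvd_card A B
  obtain ⟨n, hn⟩ := IsPGroup.iff_card.mp hB
  rw [hn] at h3
  obtain ⟨j, -, hj⟩ := (Nat.dvd_prime_pow hp.out).1 h3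
  have hj0 : j ≠ 0 := by
    rintro rfl
    exact h2 (by simpa using hj)
  have h4 : p ≤ A.relIndex B := by
    rw [hj]
    exact Nat.le_self_pow hj0 p
  rw [h1, mul_comm]
  exact Nat.mul_le_mul_left _ h4

theorem rank_three_false (hrank : PRankLE p 2 G) {u₁ u₂ u₃ : G} (h12 : u₁ * u₂ = u₂ * u₁)
    (h13 : u₁ * u₃ = u₃ * u₁) (h23 : u₂ * u₃ = u₃ * u₂) (p1 : u₁ ^ p = 1) (p2 : u₂ ^ p = 1)
    (p3 : u₃ ^ p = 1) (hu₁ : u₁ ≠ 1) (hu₂ : u₂ ∉ zpowers u₁)
    (hu₃ : u₃ ∉ zpowers u₁ ⊔ zpowers u₂) : False := by
  set S : Set G := {u₁, u₂, u₃} with hS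
  have hcomm : ∀ x ∈ S, ∀ y ∈ S, x * y = y * x := by
    intro x hx y hy
    simp only [hS, Set.mem_insert_iff, Set.mem_singleton_iff] at hx hy
    rcases hx with rfl | rfl | rfl <;> rcases hy with rfl | rfl | rfl <;>
      first
        | rfl
        | assumption
        | (symm; assumption)
  set A : Subgroup G := closure S with hA
  have hAcomm : IsMulCommutative ↥A := Subgroup.isMulCommutative_closure hcomm
  have hAc : ∀ x ∈ A, ∀ y ∈ A, x * y = y * x := by
    intro x hx y hy
    have := hAcomm.is_comm.comm ⟨x, hx⟩ ⟨y, hy⟩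
    exact congrArg Subtype.val this
  have hAexp : ∀ a ∈ A, a ^ p = 1 := by
    intro a ha
    induction ha using Subgroup.closure_induction with
    | mem x hx =>
      simp only [hS, Set.mem_insert_iff, Set.mem_singleton_iff] at hx
      rcases hx with rfl | rfl | rfl <;> assumption
    | one => simp
    | mul x y hx hy ihx ihy =>
      have : Commute x y := hAc x hx y hy
      rw [this.mul_pow, ihx, ihy, one_mul]
    | inv x _ ih => rw [inv_pow, ih, inv_one]
  have hAp : IsPGroup p ↥A := by
    intro a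
    refine ⟨1, ?_⟩
    apply Subtype.ext
    simpa using hAexp a a.2
  have hm1 : u₁ ∈ A := subset_closure (by simp [hS])
  have hm2 : u₂ ∈ A := subset_closure (by simp [hS])
  have hm3 : u₃ ∈ A := subset_closure (by simp [hS])
  set B₁ := zpowers u₁ with hB₁
  set B₂ := B₁ ⊔ zpowers u₂ with hB₂
  set B₃ := B₂ ⊔ zpowers u₃ with hB₃
  have hB₁A : B₁ ≤ A := (zpowers_le).2 hm1
  have hB₂A : B₂ ≤ A := sup_le hB₁A ((zpowers_le).2 hm2)
  have hB₃A : B₃ ≤ A := sup_le hB₂A ((zpowers_le).2 hm3)
  have hc1 : Nat.card ↥B₁ = p := by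
    rw [hB₁, Nat.card_zpowers]
    exact orderOf_eq_prime p1 hu₁
  have hlt12 : B₁ < B₂ := lt_of_le_of_ne le_sup_left (fun h => hu₂ (by
    have h1 : u₂ ∈ B₂ := Subgroup.mem_sup_right (mem_zpowers u₂)
    rwa [← h] at h1))
  have hlt23 : B₂ < B₃ := lt_of_le_of_ne le_sup_left (fun h => hu₃ (by
    have h1 : u₃ ∈ B₃ := Subgroup.mem_sup_right (mem_zpowers u₃)
    rwa [← h] at h1))
  have hc2 := card_mul_le_of_lt (hAp.to_le hB₂A) hlt12
  have hc3 := card_mul_le_of_lt (hAp.to_le hB₃A) hlt23
  have hc4 : Nat.card ↥B₃ ≤ Nat.card ↥A := Nat.le_of_dvd Nat.card_pos (Subgroup.card_dvd_of_le hB₃A)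
  have hc5 := hrank A hAcomm hAexp
  rw [hc1] at hc2
  have hp3 : p ^ 3 ≤ p ^ 2 := by
    calc p ^ 3 = p * (p * p) := by ring
      _ ≤ p * Nat.card ↥B₂ := Nat.mul_le_mul_left _ hc2
      _ ≤ Nat.card ↥B₃ := hc3
      _ ≤ Nat.card ↥A := hc4
      _ ≤ p ^ 2 := hc5
  have hp1 : 1 < p := hp.out.one_lt
  have := Nat.pow_lt_pow_right hp1 (show 2 < 3 by norm_num)
  omega

theorem commute_of_mem_pgroup {x : G} (hiso : IsIsolated x) {Q : Subgroup G} (hQ : IsPGroup p Q)
    (hx : x ∈ Q) {y : G} (hy : y ∈ Q) : x * y = y * x := by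
  by_contra hne
  set V := Q ⊓ centralizer ({x} : Set G) with hV
  have hxV : x ∈ V := mem_inf.mpr ⟨hx, by
    rw [Subgroup.mem_centralizer_singleton_iff]⟩
  have hlt : V < Q := lt_of_le_of_ne inf_le_left (fun h => hne (by
    have : y ∈ V := h ▸ hy
    exact ((Subgroup.mem_centralizer_singleton_iff.mp (mem_inf.mp this).2)).symm))
  have hlt' := Cfsg.Agent.Lib.Components.LocalFStar.lt_inf_normalizer hQ hlt
  obtain ⟨t, ht, htV⟩ := SetLike.exists_of_lt hlt'
  have h1 : t * x * t⁻¹ ∈ V := (mem_normalizer_iff.mp (mem_inf.mp ht).2 x).mp hxV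
  have h2 : Commute x (t * x * t⁻¹) :=
    (Subgroup.mem_centralizer_singleton_iff.mp (mem_inf.mp h1).2).symm
  have h3 := hiso t h2
  apply htV
  refine mem_inf.mpr ⟨(mem_inf.mp ht).1, ?_⟩
  rw [Subgroup.mem_centralizer_singleton_iff]
  calc t * x = (t * x * t⁻¹) * t := by group
    _ = x * t := by rw [h3]

/-- Central element of order `p` independent of an isolated element forces `p`-nilpotence. -/
theorem hasNormalPComplement_of_isolated_central (hp2 : p ≠ 2) (hrank : PRankLE p 2 G) {x z : G}
    (hx : orderOf x = p) (hiso : IsIsolated x) (hz : z ∈ center G) (hzo : orderOf z = p)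
    (hzx : z ∉ zpowers x) : HasNormalPComplement p G := by
  have hxp : x ^ p = 1 := by rw [← hx]; exact pow_orderOf_eq_one x
  have hzp : z ^ p = 1 := by rw [← hzo]; exact pow_orderOf_eq_one z
  have hx1 : x ≠ 1 := by
    rintro rfl
    rw [orderOf_one] at hx
    exact hp.out.one_lt.ne hx
  have hZ : IsPGroup p ↥(zpowers z) := by
    apply IsPGroup.of_card (n := 1)
    rw [Nat.card_zpowers, hzo, pow_one]
  have hX : IsPGroup p ↥(zpowers x) := by
    apply IsPGroup.of_card (n := 1)
    rw [Nat.card_zpowers, hx, pow_one]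
  have hzc : ∀ u : G, z * u = u * z := fun u => (Subgroup.mem_center_iff.mp hz u).symm
  have hzN : zpowers x ≤ normalizer (zpowers z : Set G) := by
    intro a _
    apply Cfsg.Agent.Lib.Coprime.Three.mem_normalizer_of_conj_mem
    intro v hv
    have hvc : v ∈ center G := (zpowers_le.2 hz) hv
    have := Subgroup.mem_center_iff.mp hvc a
    rw [this]
    simpa using hv
  set A := zpowers x ⊔ zpowers z with hA
  have hAp : IsPGroup p ↥A := IsPGroup.to_sup_of_normal_right' hX hZ hzN
  obtain ⟨T, hT⟩ := hAp.exists_le_sylow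
  have hxT : x ∈ (T : Subgroup G) := hT (Subgroup.mem_sup_left (mem_zpowers x))
  have hOm : ∀ y ∈ (T : Subgroup G), y ^ p = 1 → y ∈ A := by
    intro y hy hyp
    by_contra hyA
    exact rank_three_false hrank (hzc x).symm (commute_of_mem_pgroup hiso T.2 hxT hy) (hzc y) hxp hzp
      hyp hx1 hzx hyA
  apply hasNormalPComplement_of_fix hp2 T
  intro y hy hyp g hg
  have hyA := hOm y hy hyp
  have hyA' : y ∈ ((A : Subgroup G) : Set G) := hyA
  rw [hA, Subgroup.coe_mul_of_left_le_normalizer_right _ _ hzN] at hyA'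
  obtain ⟨a, ha, b, hb, rfl⟩ := Set.mem_mul.mp hyA'
  have hbc : b ∈ center G := (zpowers_le.2 hz) hb
  have hconjb : g * b * g⁻¹ = b := by
    have := Subgroup.mem_center_iff.mp hbc g
    rw [this]
    simp
  have hconj : g * (a * b) * g⁻¹ = (g * a * g⁻¹) * b := by
    calc g * (a * b) * g⁻¹ = (g * a * g⁻¹) * (g * b * g⁻¹) := by group
      _ = _ := by rw [hconjb]
  by_cases ha1 : a = 1
  · subst ha1
    rw [one_mul, hconjb]
  · have hap : a ^ p = 1 := by
      obtain ⟨k, rfl⟩ := mem_zpowers_iff.mp ha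
      rw [← zpow_natCast, ← zpow_mul, mul_comm, zpow_mul, zpow_natCast, hxp, one_zpow]
    have hgap : (g * (a * b) * g⁻¹) ^ p = 1 := by
      rw [conj_pow, hyp]
      simp
    have h1 := hOm _ hg hgap
    have h2 : g * a * g⁻¹ ∈ A := by
      rw [hconj] at h1
      have := A.mul_mem h1 (A.inv_mem (Subgroup.mem_sup_right hb))
      simpa using this
    have hAc : A ≤ centralizer ({x} : Set G) := by
      apply sup_le
      · exact (zpowers_le).2 (by
          rw [Subgroup.mem_centralizer_singleton_iff])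
      · exact (zpowers_le).2 (by
          rw [Subgroup.mem_centralizer_singleton_iff]
          exact hzc x)
    have h3 : (g * a * g⁻¹) * x = x * (g * a * g⁻¹) :=
      Subgroup.mem_centralizer_singleton_iff.mp (hAc h2)
    have hxa : x ∈ zpowers a := by
      have hle : zpowers a ≤ zpowers x := (zpowers_le).2 ha
      have hca : Nat.card ↥(zpowers a) = Nat.card ↥(zpowers x) := by
        rw [Nat.card_zpowers, Nat.card_zpowers, hx]
        exact orderOf_eq_prime hap ha1
      have := Subgroup.eq_of_le_of_card_ge hle (le_of_eq hca.symm)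
      rw [this]
      exact mem_zpowers x
    obtain ⟨k, hk⟩ := mem_zpowers_iff.mp hxa
    have h4 : Commute x (g * x * g⁻¹) := by
      have h5 : g * x * g⁻¹ = (g * a * g⁻¹) ^ k := by
        rw [← hk, conj_zpow]
      rw [h5]
      exact Commute.zpow_right (Commute.symm h3) k
    have h5 := hiso g h4
    have h6 : g * a * g⁻¹ = a := by
      obtain ⟨j, rfl⟩ := mem_zpowers_iff.mp ha
      rw [← conj_zpow, h5]
    rw [hconj, h6]

end General

section Main

variable {G : Type*} [Group G] [Finite G] {p : ℕ} [hp : Fact p.Prime]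

/-- A normal closure of a `p'`-component is a `p'`-group. -/
theorem coprime_card_nc {K : Subgroup G} (hK : IsComponent K) (hcK : (Nat.card ↥K).Coprime p) :
    (Nat.card ↥(nc K)).Coprime p := by
  have hcore : ∀ g, cj g K ≤ (pPrimeCore p ↥(nc K)).map (nc K).subtype := by
    intro g x hx
    have hn : ((cj g K).subgroupOf (nc K)).Normal :=
      Subgroup.normal_subgroupOf_of_le_normalizer (nc_le_normalizer hK g)
    have hc : (Nat.card ↥((cj g K).subgroupOf (nc K))).Coprime p := by
      rw [Nat.card_congr (Subgroup.subgroupOfEquivOfLe (cj_le_nc K g)).toEquiv,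
        ← Nat.card_congr (K.equivMapOfInjective _ (MulAut.conj g).injective).toEquiv]
      exact hcK
    have hle := Cfsg.Agent.Lib.Basic.PCore.le_pPrimeCore hn hc
    exact ⟨⟨x, cj_le_nc K g hx⟩, hle (Subgroup.mem_subgroupOf.mpr hx), rfl⟩
  have hW : nc K ≤ (pPrimeCore p ↥(nc K)).map (nc K).subtype := nc_le hcore
  have htop : pPrimeCore p ↥(nc K) = ⊤ := by
    rw [eq_top_iff]
    intro x _
    obtain ⟨y, hy, hye⟩ := hW x.2
    have : y = x := Subtype.ext hye
    rwa [← this]
  have hcW := Cfsg.Agent.Lib.Components.Transport.coprime_card_pPrimeCore (G := ↥(nc K)) p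
  rwa [htop, Subgroup.card_top] at hcW

/-- In a group with trivial `p'`-core, `p` divides the order of each component. -/
theorem dvd_card_of_isComponent (hcore : pPrimeCore p G = ⊥) {K : Subgroup G} (hK : IsComponent K) :
    p ∣ Nat.card ↥K := by
  by_contra hnd
  have hc := coprime_card_nc hK ((Nat.Prime.coprime_iff_not_dvd hp.out).mpr hnd).symm
  have hle := Cfsg.Agent.Lib.Basic.PCore.le_pPrimeCore (N := nc K) normalClosure_normal hc
  rw [hcore] at hle
  exact ne_bot_of_isComponent hK (le_bot_iff.mp ((le_nc K).trans hle))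

/-- An element `x` normalizing a component of order divisible by `p`, central in each `p`-subgroup
containing it, commutes with an element of order `p` of the component. -/
theorem exists_order_p_commute {x : G} (hx : orderOf x = p) (hiso : IsIsolated x) {K : Subgroup G}
    (hN : x ∈ normalizer (K : Set G)) (hd : p ∣ Nat.card ↥K) :
    ∃ z ∈ K, orderOf z = p ∧ x * z = z * x := by
  set L := K ⊔ zpowers x with hL
  have hX : IsPGroup p ↥(zpowers x) := by
    apply IsPGroup.of_card (n := 1)
    rw [Nat.card_zpowers, hx, pow_one]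
  obtain ⟨P, hxP, R, hR⟩ := Cfsg.Agent.Lib.Basic.SylowUtil.exists_sylow_inf_of_le
    (le_sup_right : zpowers x ≤ L) hX
  have hRe : (R : Subgroup ↥L) = ((P : Subgroup G) ⊓ L).subgroupOf L := by
    rw [← hR]
    exact (Subgroup.comap_map_eq_self_of_injective L.subtype_injective _).symm
  have hLN : L ≤ normalizer (K : Set G) := sup_le le_normalizer ((zpowers_le).2 hN)
  have hA : ¬ p ∣ ((P : Subgroup G) ⊓ L).relIndex L := by
    have := R.not_dvd_index
    rwa [hRe] at this
  have h1 := coprime_relIndex_inf (N := K) (A := (P : Subgroup G) ⊓ L) (G₁ := L) le_sup_left inf_le_right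
    (inf_le_right.trans hLN) hA
  have hpd : p ∣ Nat.card ↥((P : Subgroup G) ⊓ L ⊓ K) := by
    by_contra hnd
    have hone : Nat.card ↥((P : Subgroup G) ⊓ L ⊓ K) = 1 := by
      have hpg : IsPGroup p ↥((P : Subgroup G) ⊓ L ⊓ K) := P.2.to_le (inf_le_left.trans inf_le_left)
      obtain ⟨n, hn⟩ := IsPGroup.iff_card.mp hpg
      cases n with
      | zero => simpa using hn
      | succ n =>
        exfalso
        apply hnd
        rw [hn]
        exact dvd_pow_self p (Nat.succ_ne_zero n)
    have hbot := Subgroup.eq_bot_of_card_eq _ hone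
    rw [hbot, Subgroup.relIndex_bot_left] at h1
    exact h1 hd
  obtain ⟨z, hz⟩ := exists_prime_orderOf_dvd_card' p hpd
  have hzm := z.2
  have hzo : orderOf (z : G) = p := (Subgroup.orderOf_coe z).trans hz
  refine ⟨z, (mem_inf.mp hzm).2, hzo, ?_⟩
  exact commute_of_mem_pgroup hiso P.2 (hxP (mem_zpowers x)) (mem_inf.mp (mem_inf.mp hzm).1).1

theorem prank_subgroup (hrank : PRankLE p 2 G) (H : Subgroup G) : PRankLE p 2 ↥H := by
  intro A hA hAe
  have h1 : IsMulCommutative ↥(A.map H.subtype) := by
    constructor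
    refine ⟨?_⟩
    rintro ⟨_, a, ha, rfl⟩ ⟨_, b, hb, rfl⟩
    apply Subtype.ext
    have := hA.is_comm.comm ⟨a, ha⟩ ⟨b, hb⟩
    exact congrArg (fun u : ↥A => ((u : ↥H) : G)) this
  have h2 : ∀ y ∈ A.map H.subtype, y ^ p = 1 := by
    rintro _ ⟨a, ha, rfl⟩
    have := hAe a ha
    simpa using congrArg Subtype.val this
  have h3 := hrank _ h1 h2
  rwa [Subgroup.card_map_of_injective H.subtype_injective] at h3

theorem isIsolated_subgroup {x : G} (hiso : IsIsolated x) (H : Subgroup G) (hx : x ∈ H) :
    IsIsolated (⟨x, hx⟩ : ↥H) := by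
  intro g hg
  apply Subtype.ext
  have h1 : Commute x ((g : G) * x * (g : G)⁻¹) := by
    have := congrArg Subtype.val hg.eq
    exact this
  exact hiso g h1

/-- The basic contradiction. -/
theorem false_of_central (hp2 : p ≠ 2) (hrank : PRankLE p 2 G) {x z : G} (hx : orderOf x = p)
    (hiso : IsIsolated x) {K : Subgroup G} (hK : IsQuasisimple ↥K) (hd : p ∣ Nat.card ↥K)
    (hxK : ¬ ∀ k ∈ K, x * k = k * x) (hzo : orderOf z = p) (hzx : x * z = z * x)
    (hzK : ∀ k ∈ K, z * k = k * z) : False := by
  set H := (K ⊔ zpowers x) ⊔ zpowers z with hH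
  have hxH : x ∈ H := Subgroup.mem_sup_left (Subgroup.mem_sup_right (mem_zpowers x))
  have hzH : z ∈ H := Subgroup.mem_sup_right (mem_zpowers z)
  have hKH : K ≤ H := le_sup_left.trans le_sup_left
  have hHC : H ≤ centralizer ({z} : Set G) := by
    apply sup_le
    · apply sup_le
      · intro k hk
        rw [Subgroup.mem_centralizer_singleton_iff]
        exact (hzK k hk).symm
      · exact (zpowers_le).2 (by
          rw [Subgroup.mem_centralizer_singleton_iff]
          exact hzx)
    · exact (zpowers_le).2 (by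
        rw [Subgroup.mem_centralizer_singleton_iff])
  have hzc : (⟨z, hzH⟩ : ↥H) ∈ center ↥H := by
    rw [Subgroup.mem_center_iff]
    intro g
    apply Subtype.ext
    exact Subgroup.mem_centralizer_singleton_iff.mp (hHC g.2)
  have hzx' : (⟨z, hzH⟩ : ↥H) ∉ zpowers (⟨x, hxH⟩ : ↥H) := by
    intro h
    obtain ⟨k, hk⟩ := mem_zpowers_iff.mp h
    have hk' : x ^ k = z := congrArg Subtype.val hk
    have hz1 : z ≠ 1 := by
      rintro rfl
      rw [orderOf_one] at hzo
      exact hp.out.one_lt.ne hzo
    have hzz : z ∈ zpowers x := ⟨k, hk'⟩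
    have hle : zpowers z ≤ zpowers x := (zpowers_le).2 hzz
    have hca : Nat.card ↥(zpowers z) = Nat.card ↥(zpowers x) := by
      rw [Nat.card_zpowers, Nat.card_zpowers, hx, hzo]
    have heq := Subgroup.eq_of_le_of_card_ge hle (le_of_eq hca.symm)
    have hxz : x ∈ zpowers z := by
      rw [heq]
      exact mem_zpowers x
    obtain ⟨j, rfl⟩ := mem_zpowers_iff.mp hxz
    apply hxK
    intro l hl
    exact (Commute.zpow_left (show Commute z l from hzK l hl) j)
  have hnp := hasNormalPComplement_of_isolated_central hp2 (prank_subgroup hrank H)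
    (x := ⟨x, hxH⟩) (z := ⟨z, hzH⟩) (by rw [Subgroup.orderOf_mk]; exact hx)
    (isIsolated_subgroup hiso H hxH) hzc (by rw [Subgroup.orderOf_mk]; exact hzo) hzx'
  have hnK : HasNormalPComplement p ↥K :=
    HasNormalPComplement_of_injective (Subgroup.inclusion hKH) (Subgroup.inclusion_injective hKH) hnp
  exact not_hasNormalPComplement hK.1 hd hnK

/-- Isolated elements of odd prime order normalize each component in `p`-rank two. -/
theorem mem_normalizer_component (hp2 : p ≠ 2) (hcore : pPrimeCore p G = ⊥) (hrank : PRankLE p 2 G)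
    {x : G} (hx : orderOf x = p) {K : Subgroup G} (hK : IsComponent K) :
    x ∈ normalizer (K : Set G) := by
  by_contra hN
  have hxp : x ^ p = 1 := by rw [← hx]; exact pow_orderOf_eq_one x
  have hK1 : cj x K ≠ K := by
    intro h
    apply hN
    apply Cfsg.Agent.Lib.Coprime.Three.mem_normalizer_of_conj_mem
    intro v hv
    rw [← h]
    exact ⟨v, hv, rfl⟩
  have hcjcj : ∀ L : Subgroup G, cj x (cj x L) = cj (x * x) L := by
    intro L
    ext y
    simp only [mem_cj]
    congr! 1
    group
  have hK2 : cj (x * x) K ≠ K := by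
    intro h
    -- `x = (x²)^((p+1)/2)`
    obtain ⟨m, hm⟩ : ∃ m : ℕ, p = 2 * m + 1 := by
      have := hp.out.eq_two_or_odd'.resolve_left hp2
      exact this
    have hx2 : x = (x * x) ^ (m + 1) := by
      have e1 : (x * x) ^ (m + 1) = x ^ (2 * m + 1) * x := by
        rw [← pow_two, ← pow_mul, ← pow_succ]
        congr 1
      rw [e1, ← hm, hxp, one_mul]
    have hNx2 : x * x ∈ normalizer (K : Set G) := by
      apply Cfsg.Agent.Lib.Coprime.Three.mem_normalizer_of_conj_mem
      intro v hv
      rw [← h]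
      exact ⟨v, hv, rfl⟩
    apply hN
    rw [hx2]
    exact Subgroup.pow_mem _ hNx2 _
  have hK12 : cj (x * x) K ≠ cj x K := by
    intro h
    apply hK1
    have h2 := congrArg (cj x⁻¹) h
    rw [← hcjcj, cj_inv_cj, cj_inv_cj] at h2
    exact h2
  have hc01 := (eq_or_commutator_eq_bot (isComponent_conj x hK) hK).resolve_left hK1
  have hc02 := (eq_or_commutator_eq_bot (isComponent_conj (x * x) hK) hK).resolve_left hK2
  have hc12 := (eq_or_commutator_eq_bot (isComponent_conj (x * x) hK)
    (isComponent_conj x hK)).resolve_left hK12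
  obtain ⟨a', ha'p, ha'c⟩ := exists_noncentral hp2 hK.2.1 (dvd_card_of_isComponent hcore hK)
  set a : G := (a' : G) with ha
  have haK : a ∈ K := a'.2
  have hap : a ^ p = 1 := by simpa using congrArg Subtype.val ha'p
  have hanc : ¬ ∀ k ∈ K, a * k = k * a := by
    intro h
    apply ha'c
    rw [Subgroup.mem_center_iff]
    intro k
    apply Subtype.ext
    exact (h k k.2).symm
  set b : G := x * a * x⁻¹ with hb
  set c : G := (x * x) * a * (x * x)⁻¹ with hc
  have hbK : b ∈ cj x K := ⟨a, haK, rfl⟩
  have hcK : c ∈ cj (x * x) K := ⟨a, haK, rfl⟩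
  have hab : a * b = b * a := (commutator_eq_bot_iff_forall.mp hc01 b hbK a haK).symm
  have hac : a * c = c * a := (commutator_eq_bot_iff_forall.mp hc02 c hcK a haK).symm
  have hbc : b * c = c * b := (commutator_eq_bot_iff_forall.mp hc12 c hcK b hbK).symm
  have hbp : b ^ p = 1 := by
    rw [hb, conj_pow, hap]
    simp
  have hcp : c ^ p = 1 := by
    rw [hc, conj_pow, hap]
    simp
  have ha1 : a ≠ 1 := by
    rintro h
    apply hanc
    intro k _
    rw [h]
    simp
  -- if a power of `a` commutes with `K`, the power is trivial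
  have hpow : ∀ u : G, u ∈ zpowers a → (∀ k ∈ K, u * k = k * u) → u = 1 := by
    intro u hu hcomm
    by_contra hu1
    have hle : zpowers u ≤ zpowers a := (zpowers_le).2 hu
    have hup : u ^ p = 1 := by
      obtain ⟨j, rfl⟩ := mem_zpowers_iff.mp hu
      rw [← zpow_natCast, ← zpow_mul, mul_comm, zpow_mul, zpow_natCast, hap, one_zpow]
    have hca : Nat.card ↥(zpowers u) = Nat.card ↥(zpowers a) := by
      rw [Nat.card_zpowers, Nat.card_zpowers, orderOf_eq_prime hup hu1, orderOf_eq_prime hap ha1]
    have heq := Subgroup.eq_of_le_of_card_ge hle (le_of_eq hca.symm)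
    have haz : a ∈ zpowers u := by
      rw [heq]
      exact mem_zpowers a
    obtain ⟨j, hj⟩ := mem_zpowers_iff.mp haz
    apply hanc
    intro l hl
    rw [← hj]
    exact Commute.zpow_left (show Commute u l from hcomm l hl) j
  have hb1 : b ≠ 1 := by
    rw [hb]
    intro h
    apply ha1
    have := congrArg (fun w => x⁻¹ * w * x) h
    simpa [mul_assoc] using this
  have hbnot : b ∉ zpowers a := by
    intro h
    apply hb1
    apply hpow b h
    intro k hk
    exact commutator_eq_bot_iff_forall.mp hc01 b hbK k hk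
  have hcnot : c ∉ zpowers a ⊔ zpowers b := by
    intro h
    have h' : c ∈ ((zpowers a ⊔ zpowers b : Subgroup G) : Set G) := h
    have hzN : zpowers a ≤ normalizer (zpowers b : Set G) := by
      apply (zpowers_le).2
      apply Cfsg.Agent.Lib.Coprime.Three.mem_normalizer_of_conj_mem
      intro v hv
      obtain ⟨j, rfl⟩ := mem_zpowers_iff.mp hv
      have : Commute a (b ^ j) := Commute.zpow_right hab j
      rw [this.eq]
      simpa using hv
    rw [Subgroup.coe_mul_of_left_le_normalizer_right _ _ hzN] at h'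
    obtain ⟨u, hu, v, hv, huv⟩ := Set.mem_mul.mp h'
    -- `u = c v⁻¹` commutes with `K`
    have hvK : v ∈ cj x K := (zpowers_le.2 hbK) hv
    have hu1 : u = 1 := by
      apply hpow u hu
      intro k hk
      have hcv : u = c * v⁻¹ := by
        rw [← huv]
        group
      rw [hcv]
      have h1 : c * k = k * c := commutator_eq_bot_iff_forall.mp hc02 c hcK k hk
      have h2 : v⁻¹ * k = k * v⁻¹ :=
        commutator_eq_bot_iff_forall.mp hc01 _ ((cj x K).inv_mem hvK) k hk
      calc c * v⁻¹ * k = c * (v⁻¹ * k) := by group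
        _ = c * (k * v⁻¹) := by rw [h2]
        _ = (c * k) * v⁻¹ := by group
        _ = (k * c) * v⁻¹ := by rw [h1]
        _ = k * (c * v⁻¹) := by group
    rw [hu1, one_mul] at huv
    -- `c = v ∈ cj x K` commutes with `cj (x*x) K`
    have hcc : ∀ k ∈ cj (x * x) K, c * k = k * c := by
      intro k hk
      rw [← huv]
      exact (commutator_eq_bot_iff_forall.mp hc12 k hk v hvK).symm
    apply hanc
    intro k hk
    have h1 := hcc ((x * x) * k * (x * x)⁻¹) ⟨k, hk, rfl⟩
    have h2 : (x * x) * (a * k) * (x * x)⁻¹ = (x * x) * (k * a) * (x * x)⁻¹ := by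
      calc (x * x) * (a * k) * (x * x)⁻¹ = c * ((x * x) * k * (x * x)⁻¹) := by rw [hc]; group
        _ = ((x * x) * k * (x * x)⁻¹) * c := h1
        _ = _ := by rw [hc]; group
    exact mul_left_cancel (mul_right_cancel h2)
  exact rank_three_false hrank hab hac hbc hap hbp hcp ha1 hbnot hcnot

/-- **Main theorem.** -/
theorem main (hp2 : p ≠ 2) (hcore : pPrimeCore p G = ⊥) (hrank : PRankLE p 2 G) (x : G)
    (hx : orderOf x = p) (hiso : IsIsolated x) (hnc : x ∉ center G) :
    IsSimpleGroup ↥(generalizedFittingSubgroup G) ∧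
      ¬ IsMulCommutative ↥(generalizedFittingSubgroup G) := by
  have hX : IsPGroup p ↥(zpowers x) := by
    apply IsPGroup.of_card (n := 1)
    rw [Nat.card_zpowers, hx, pow_one]
  have hOpN : (pCore p G).Normal := inferInstance
  have hOpp : IsPGroup p ↥(pCore p G) := Cfsg.Agent.Lib.Basic.PCore.pCore_isPGroup p
  have hcomOp : ∀ y ∈ pCore p G, x * y = y * x := by
    intro y hy
    have h1 : IsPGroup p ↥(zpowers x ⊔ pCore p G) := IsPGroup.to_sup_of_normal_right hX hOpp
    exact commute_of_mem_pgroup hiso h1 (Subgroup.mem_sup_left (mem_zpowers x))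
      (Subgroup.mem_sup_right hy)
  have hF : fittingSubgroup G = pCore p G :=
    Cfsg.Agent.Lib.Components.PConstrained.fitting_eq_pCore_of_pPrimeCore_eq_bot hcore
  obtain ⟨K, hK, hxK⟩ : ∃ K : Subgroup G, IsComponent K ∧ ¬ ∀ k ∈ K, x * k = k * x := by
    by_contra hne
    push Not at hne
    have hle : generalizedFittingSubgroup G ≤ centralizer ({x} : Set G) := by
      apply sup_le
      · apply sSup_le
        intro L hL y hy
        rw [Subgroup.mem_centralizer_singleton_iff]
        exact (hne L hL y hy).symm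
      · rw [hF]
        intro y hy
        rw [Subgroup.mem_centralizer_singleton_iff]
        exact (hcomOp y hy).symm
    have hxC : x ∈ centralizer (generalizedFittingSubgroup G : Set G) := by
      rw [Subgroup.mem_centralizer_iff]
      intro y hy
      exact Subgroup.mem_centralizer_singleton_iff.mp (hle hy)
    have hxF := Cfsg.Agent.Lib.Components.FStar.centralizer_generalizedFitting_le hxC
    apply hnc
    rw [Subgroup.mem_center_iff]
    intro g
    have hN : (generalizedFittingSubgroup G).Normal := inferInstance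
    have h1 := hN.conj_mem x hxF g
    have h2 : Commute x (g * x * g⁻¹) := (Subgroup.mem_centralizer_singleton_iff.mp (hle h1)).symm
    have h3 := hiso g h2
    calc g * x = (g * x * g⁻¹) * g := by group
      _ = x * g := by rw [h3]
  have hdK := dvd_card_of_isComponent hcore hK
  have hkill : ∀ z : G, orderOf z = p → x * z = z * x → (∀ k ∈ K, z * k = k * z) → False :=
    fun z hzo hzx hzK => false_of_central hp2 hrank hx hiso hK.2 hdK hxK hzo hzx hzK
  have hOp : pCore p G = ⊥ := by
    by_contra hne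
    have hpd : p ∣ Nat.card ↥(pCore p G) := by
      obtain ⟨n, hn⟩ := IsPGroup.iff_card.mp hOpp
      cases n with
      | zero =>
        exfalso
        apply hne
        exact Subgroup.eq_bot_of_card_eq _ (by simpa using hn)
      | succ n =>
        rw [hn]
        exact dvd_pow_self p (Nat.succ_ne_zero n)
    obtain ⟨z, hz⟩ := exists_prime_orderOf_dvd_card' p hpd
    have hzo : orderOf (z : G) = p := (Subgroup.orderOf_coe z).trans hz
    haveI := hOpp.isNilpotent
    have hc := commutator_eq_bot_of_isSolvable hK (H := pCore p G) inferInstance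
      (by rw [normalizer_eq_top_iff.mpr hOpN]; exact le_top)
    exact hkill z hzo (hcomOp z z.2) (fun k hk => (commutator_eq_bot_iff_forall.mp hc k hk z z.2).symm)
  have huniq : ∀ K' : Subgroup G, IsComponent K' → K' = K := by
    intro K' hK'
    rcases eq_or_commutator_eq_bot hK' hK with h | h
    · exact h
    · exfalso
      obtain ⟨z, hzK', hzo, hzx⟩ := exists_order_p_commute hx hiso
        (mem_normalizer_component hp2 hcore hrank hx hK') (dvd_card_of_isComponent hcore hK')
      exact hkill z hzo hzx (fun k hk => commutator_eq_bot_iff_forall.mp h z hzK' k hk)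
  have hKn : K.Normal := by
    refine ⟨fun k hk g => ?_⟩
    have := huniq _ (isComponent_conj g hK)
    rw [← this]
    exact ⟨k, hk, rfl⟩
  have hlayer : layer G = K := by
    apply le_antisymm
    · apply sSup_le
      intro L hL
      rw [huniq L hL]
    · exact le_layer hK
  have hFs : generalizedFittingSubgroup G = K := by
    show layer G ⊔ fittingSubgroup G = K
    rw [hlayer, hF, hOp, sup_bot_eq]
  have hcenter : center ↥K = ⊥ := by
    haveI : (center ↥K).Characteristic := inferInstance
    have hn : ((center ↥K).map K.subtype).Normal :=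
      Cfsg.Agent.Lib.Basic.PCore.map_subtype_normal_of_characteristic (N := K) (center ↥K)
    have hab : Group.IsNilpotent ↥((center ↥K).map K.subtype) := by
      letI : CommGroup ↥((center ↥K).map K.subtype) :=
        { (inferInstance : Group ↥((center ↥K).map K.subtype)) with
          mul_comm := by
            rintro ⟨_, a, ha, rfl⟩ ⟨_, b, hb, rfl⟩
            apply Subtype.ext
            have := (Subgroup.mem_center_iff.mp ha) b
            exact (congrArg Subtype.val this).symm }
      exact CommGroup.isNilpotent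
    have hle := Cfsg.Agent.Lib.Basic.PCore.le_fittingSubgroup hn hab
    rw [hF, hOp, le_bot_iff, Subgroup.map_eq_bot_iff_of_injective _ K.subtype_injective] at hle
    exact hle
  rw [hFs]
  refine ⟨?_, Cfsg.Agent.Lib.Components.Quasisimple.not_isMulCommutative_of_isQuasisimple hK.2⟩
  have hs := hK.2.2
  exact ((QuotientGroup.quotientMulEquivOfEq hcenter).trans
    (QuotientGroup.quotientBot (G := ↥K))).isSimpleGroup_congr.mp hs

end Main

end Cfsg.Agent.Lib.Components.IsolatedRankTwo
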