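import Cfsg.Agent.Lib.Signalizer.CoreBalance
import Cfsg.Agent.Lib.Components.FStar
import Cfsg.Agent.Lib.Components.LocalFStar
import Cfsg.Agent.Lib.Components.Layer

set_option autoImplicit false
set_option linter.unusedVariables false
set_option linter.style.haveILetI false
set_option linter.unusedSectionVars false
set_option linter.deprecated false

/-!
# Balance of the odd core without solvability

`O(C(a)) ∩ C(b) ≤ O(C(b))` if `C(b)/O(C(b))` has no components; and `C(b)/O(C(b))` has no components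
if `C(b)` and `C_{C(b)}(z)` have none, for `z` an involution inverting `O(C(b))`.
-/

namespace Cfsg.Agent.Lib.Components.OddCoreFunctor

open Cfsg
open Cfsg.Agent.Lib.Components.PComponent
open Cfsg.Agent.Lib.Components.PConstrained
open Cfsg.Agent.Lib.Components.Transport (coprime_card_pPrimeCore)
open Cfsg.Agent.Lib.Signalizer.CoreBalance
open Cfsg.Agent.Lib.Components
open Cfsg.Agent.Lib.Components.Layer
open scoped commutatorElement

section Bal

variable {H : Type*} [Group H] [Finite H] {p : ℕ} [Fact p.Prime]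

/-- The balance lemma with a hypothesis on the layer in place of solvability. -/
theorem le_pPrimeCore_of_layer (hl : layer (H ⧸ pPrimeCore p H) = ⊥) {E : Subgroup H}
    (hE : IsPGroup p E) {D : Subgroup H} (hDp : ¬ p ∣ Nat.card D)
    (hDE : D ≤ Subgroup.centralizer (E : Set H))
    (hDn : Subgroup.centralizer (E : Set H) ≤ Subgroup.normalizer (D : Set H)) :
    D ≤ pPrimeCore p H := by
  classical
  set N := pPrimeCore p H with hN
  set π : H →* H ⧸ N := QuotientGroup.mk' N with hπ
  have hπs : Function.Surjective π := QuotientGroup.mk'_surjective N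
  set Eb : Subgroup (H ⧸ N) := E.map π with hEb
  set Db : Subgroup (H ⧸ N) := D.map π with hDb
  set Pb : Subgroup (H ⧸ N) := pCore p (H ⧸ N) with hPb
  have hPbq : IsPGroup p Pb := Cfsg.Agent.Lib.Basic.PCore.pCore_isPGroup p
  have hPbn : Pb.Normal := inferInstance
  have hDbcard : Nat.card Db ∣ Nat.card D := Subgroup.card_map_dvd _ _
  have hDbcop : (Nat.card Db).Coprime p := by
    have : (Nat.card D).Coprime p :=
      (Nat.Coprime.symm ((Nat.Prime.coprime_iff_not_dvd Fact.out).mpr hDp))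
    exact Nat.Coprime.coprime_dvd_left hDbcard this
  have hinter : ∀ z, z ∈ Db → z ∈ Pb → z = 1 := by
    intro z hz hzP
    have hd1 : orderOf z ∣ Nat.card Db := by
      have := orderOf_dvd_natCard (⟨z, hz⟩ : Db)
      rwa [Subgroup.orderOf_mk] at this
    obtain ⟨k, hk⟩ := hPbq ⟨z, hzP⟩
    have hd2 : orderOf z ∣ p ^ k := orderOf_dvd_of_pow_eq_one (congrArg Subtype.val hk)
    exact orderOf_eq_one_iff.mp
      (Nat.eq_one_of_dvd_coprimes (Nat.Coprime.pow_right k hDbcop) hd1 hd2)
  have hstep3 : Pb ⊓ Subgroup.centralizer (Eb : Set (H ⧸ N)) ≤ Subgroup.centralizer (Db : Set (H ⧸ N)) := by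
    rintro xb ⟨hxbP, hxbC⟩
    rw [Subgroup.mem_centralizer_iff]
    rintro _ ⟨d, hd, rfl⟩
    obtain ⟨x, rfl⟩ := hπs xb
    have hcomm : ∀ e ∈ E, π x * π e = π e * π x := by
      intro e he
      exact ((Subgroup.mem_centralizer_iff.mp hxbC) (π e) ⟨e, he, rfl⟩).symm
    obtain ⟨c, hcC, hcx⟩ := exists_centralizer_lift hE x hcomm
    have hcπ : π c = π x := hcx
    rw [← hcπ]
    have h1 : c * d⁻¹ * c⁻¹ ∈ D :=
      Cfsg.Agent.Lib.Coprime.Three.conj_mem_of_mem_normalizer (hDn hcC) (D.inv_mem hd)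
    have h2 : π (d * (c * d⁻¹ * c⁻¹)) ∈ Db := ⟨_, D.mul_mem hd h1, rfl⟩
    have h3 : π (d * (c * d⁻¹ * c⁻¹)) ∈ Pb := by
      have hcP : π c ∈ Pb := hcπ ▸ hxbP
      have h4 : π d * π c * (π d)⁻¹ ∈ Pb := hPbn.conj_mem _ hcP _
      have h5 : π (d * (c * d⁻¹ * c⁻¹)) = (π d * π c * (π d)⁻¹) * (π c)⁻¹ := by
        simp only [map_mul, map_inv]
        group
      rw [h5]
      exact Pb.mul_mem h4 (Pb.inv_mem hcP)
    have h6 := hinter _ h2 h3
    have h7 : π d * π c * (π d)⁻¹ * (π c)⁻¹ = 1 := by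
      rw [← h6]
      simp only [map_mul, map_inv]
      group
    have h8 : π d * π c * (π d)⁻¹ = π c := mul_inv_eq_one.mp h7
    exact (mul_inv_eq_iff_eq_mul.mp h8)
  have hEbq : IsPGroup p Eb := hE.map π
  have hEbDb : Eb ≤ Subgroup.centralizer (Db : Set (H ⧸ N)) := by
    rintro _ ⟨e, he, rfl⟩
    rw [Subgroup.mem_centralizer_iff]
    rintro _ ⟨d, hd, rfl⟩
    have h := (Subgroup.mem_centralizer_iff.mp (hDE hd)) e he
    show π d * π e = π e * π d
    rw [← map_mul, ← map_mul, ← h]
  have hnormal : ∀ X : Subgroup (H ⧸ N), X ≤ Subgroup.normalizer (Pb : Set (H ⧸ N)) := by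
    intro X
    rw [Subgroup.normalizer_eq_top_iff.mpr hPbn]
    exact le_top
  have hcent : Db ≤ Subgroup.centralizer (Pb : Set (H ⧸ N)) :=
    Cfsg.Agent.S0028.result p Eb Db Pb hEbq hDbcop hPbq hEbDb (hnormal _) (hnormal _) hstep3
  have hcore : pPrimeCore p (H ⧸ N) = ⊥ := pPrimeCore_quotient_eq_bot p
  have hfit : fittingSubgroup (H ⧸ N) = Pb := fitting_eq_pCore_of_pPrimeCore_eq_bot hcore
  have hgf : generalizedFittingSubgroup (H ⧸ N) = fittingSubgroup (H ⧸ N) := by
    unfold generalizedFittingSubgroup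
    rw [hl, bot_sup_eq]
  have hCF : Subgroup.centralizer (fittingSubgroup (H ⧸ N) : Set (H ⧸ N)) ≤ fittingSubgroup (H ⧸ N) := by
    have := Cfsg.Agent.Lib.Components.FStar.centralizer_generalizedFitting_le (G := H ⧸ N)
    rwa [hgf] at this
  intro d hd
  have hdD : π d ∈ Db := ⟨d, hd, rfl⟩
  have hdP : π d ∈ Pb := by
    rw [← hfit]
    apply hCF
    rw [hfit]
    exact hcent hdD
  have := hinter _ hdD hdP
  exact (QuotientGroup.eq_one_iff d).mp this

end Bal

section Functor

variable {G : Type*} [Group G] [Finite G] {p : ℕ} [Fact p.Prime]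

/-- `O_{p'}(C(a)) ∩ C(b) ≤ O_{p'}(C(b))`, no solvability. -/
theorem centralizerPPrimeCore_inf_le_of_layer {a b : G} (hab : a * b = b * a) (hap : a ^ p = 1)
    (hl : layer (↥(Subgroup.centralizer ({b} : Set G)) ⧸
      pPrimeCore p ↥(Subgroup.centralizer ({b} : Set G))) = ⊥) :
    centralizerPPrimeCore p a ⊓ Subgroup.centralizer {b} ≤ centralizerPPrimeCore p b := by
  classical
  set Cb := Subgroup.centralizer ({b} : Set G) with hCb
  have haCb : a ∈ Cb := Subgroup.mem_centralizer_singleton_iff.mpr hab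
  set a' : Cb := ⟨a, haCb⟩ with ha'
  have ha'p : a' ^ p = 1 := Subtype.ext hap
  set E : Subgroup Cb := Subgroup.zpowers a' with hE
  have hEq : IsPGroup p E := by
    rintro ⟨_, n, rfl⟩
    refine ⟨1, ?_⟩
    apply Subtype.ext
    show (a' ^ n) ^ p ^ 1 = 1
    rw [pow_one, ← zpow_natCast, ← zpow_mul, mul_comm, zpow_mul, zpow_natCast, ha'p, one_zpow]
  set D : Subgroup Cb := (centralizerPPrimeCore p a ⊓ Subgroup.centralizer {b}).comap Cb.subtype with hD
  have hDθ : D.map Cb.subtype ≤ centralizerPPrimeCore p a := by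
    rintro _ ⟨x, hx, rfl⟩
    exact hx.1
  have hDp : ¬ p ∣ Nat.card D := by
    intro h
    have h1 : Nat.card (D.map Cb.subtype) = Nat.card D :=
      Subgroup.card_map_of_injective (Subgroup.subtype_injective _)
    rw [← h1] at h
    exact not_dvd_card_centralizerPPrimeCore (p := p) a (h.trans (Subgroup.card_dvd_of_le hDθ))
  have hDE : D ≤ Subgroup.centralizer (E : Set Cb) := by
    intro x hx
    rw [Subgroup.mem_centralizer_iff]
    rintro _ ⟨n, rfl⟩
    have h1 : (x : G) * a = a * x :=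
      Subgroup.mem_centralizer_singleton_iff.mp (centralizerPPrimeCore_le a hx.1)
    have h2 : x * a' = a' * x := Subtype.ext h1
    have h3 : Commute a' x := h2.symm
    exact (h3.zpow_left n).eq
  have hDn : Subgroup.centralizer (E : Set Cb) ≤ Subgroup.normalizer (D : Set Cb) := by
    intro c hc
    have hca : (c : G) ∈ Subgroup.centralizer ({a} : Set G) := by
      have h1 := (Subgroup.mem_centralizer_iff.mp hc) a' (Subgroup.mem_zpowers a')
      rw [Subgroup.mem_centralizer_singleton_iff]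
      exact (congrArg Subtype.val h1).symm
    apply Cfsg.Agent.Lib.Coprime.Three.mem_normalizer_of_conj_mem
    intro x hx
    refine ⟨conj_mem_centralizerPPrimeCore hca hx.1, ?_⟩
    exact (c * x * c⁻¹).2
  have hle := le_pPrimeCore_of_layer hl hEq hDp hDE hDn
  intro x hx
  have hxCb : x ∈ Cb := hx.2
  have hxD : (⟨x, hxCb⟩ : Cb) ∈ D := hx
  exact ⟨_, hle hxD, rfl⟩

/-- Equivariance of the core. -/
theorem conj_mem_centralizerPPrimeCore_conj (g : G) {x u : G} (hu : u ∈ centralizerPPrimeCore p x) :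
    g * u * g⁻¹ ∈ centralizerPPrimeCore p (g * x * g⁻¹) := by
  classical
  set C := Subgroup.centralizer ({x} : Set G) with hC
  set C' := Subgroup.centralizer ({g * x * g⁻¹} : Set G) with hC'
  have hmem : ∀ y ∈ C, g * y * g⁻¹ ∈ C' := by
    intro y hy
    rw [hC', Subgroup.mem_centralizer_singleton_iff]
    have := Subgroup.mem_centralizer_singleton_iff.mp hy
    calc g * y * g⁻¹ * (g * x * g⁻¹) = g * (y * x) * g⁻¹ := by group
      _ = g * (x * y) * g⁻¹ := by rw [this]
      _ = g * x * g⁻¹ * (g * y * g⁻¹) := by group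
  have hmem' : ∀ y ∈ C', g⁻¹ * y * g ∈ C := by
    intro y hy
    rw [hC, Subgroup.mem_centralizer_singleton_iff]
    have := Subgroup.mem_centralizer_singleton_iff.mp hy
    have h2 : g⁻¹ * (y * (g * x * g⁻¹)) * g = g⁻¹ * (g * x * g⁻¹ * y) * g := by rw [this]
    calc g⁻¹ * y * g * x = g⁻¹ * (y * (g * x * g⁻¹)) * g := by group
      _ = g⁻¹ * (g * x * g⁻¹ * y) * g := h2
      _ = x * (g⁻¹ * y * g) := by group
  let e : ↥C ≃* ↥C' :=
    { toFun := fun y => ⟨g * y * g⁻¹, hmem _ y.2⟩
      invFun := fun y => ⟨g⁻¹ * y * g, hmem' _ y.2⟩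
      left_inv := fun y => by apply Subtype.ext; simp [mul_assoc]
      right_inv := fun y => by apply Subtype.ext; simp [mul_assoc]
      map_mul' := fun y w => by apply Subtype.ext; simp [mul_assoc] }
  obtain ⟨w, hw, rfl⟩ := hu
  have h := Cfsg.Agent.Lib.Components.Transport.pPrimeCore_map_equiv p e
  have hmemw : e.toMonoidHom w ∈ (pPrimeCore p ↥C).map e.toMonoidHom := ⟨w, hw, rfl⟩
  rw [h] at hmemw
  exact ⟨_, hmemw, rfl⟩

end Functor

section Inverted

variable {G : Type*} [Group G] [Finite G]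

/-- A fixed-point-free involutive automorphism inverts. -/
theorem conj_eq_inv_of_fpf {K : Subgroup G} {z : G} (hz : z ^ 2 = 1)
    (hn : ∀ k ∈ K, z * k * z⁻¹ ∈ K) (hfix : ∀ k ∈ K, z * k = k * z → k = 1) :
    ∀ k ∈ K, z * k * z⁻¹ = k⁻¹ := by
  classical
  have hzi : z⁻¹ = z := by
    rw [inv_eq_iff_mul_eq_one, ← pow_two, hz]
  let f : K → K := fun x => ⟨x⁻¹ * (z * x * z⁻¹), K.mul_mem (K.inv_mem x.2) (hn _ x.2)⟩
  have hf : Function.Injective f := by
    intro x y hxy
    have h1 : (x : G)⁻¹ * (z * x * z⁻¹) = (y : G)⁻¹ * (z * y * z⁻¹) := congrArg Subtype.val hxy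
    have h2 : z * ((y : G) * (x : G)⁻¹) * z⁻¹ = (y : G) * (x : G)⁻¹ := by
      have h3 : (z * y * z⁻¹) * (z * x * z⁻¹)⁻¹ = (y : G) * (x : G)⁻¹ := by
        have h4 : (z * y * z⁻¹) = (y : G) * ((x : G)⁻¹ * (z * x * z⁻¹)) := by
          rw [h1]; group
        rw [h4]; group
      have h6 : z * ((y : G) * (x : G)⁻¹) * z⁻¹ = (z * y * z⁻¹) * (z * x * z⁻¹)⁻¹ := by group
      rw [h6, h3]
    have h5 := hfix _ (K.mul_mem y.2 (K.inv_mem x.2)) (by
      rw [mul_inv_eq_iff_eq_mul] at h2
      exact h2)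
    apply Subtype.ext
    exact (mul_inv_eq_one.mp h5).symm
  have hs : Function.Surjective f := Finite.injective_iff_surjective.mp hf
  intro k hk
  obtain ⟨x, hx⟩ := hs ⟨k, hk⟩
  have h1 : k = (x : G)⁻¹ * (z * x * z⁻¹) := (congrArg Subtype.val hx).symm
  rw [h1]
  have hzz : z * z = 1 := by rw [← pow_two, hz]
  have : z * ((x : G)⁻¹ * (z * x * z⁻¹)) * z⁻¹ = (z * x * z⁻¹)⁻¹ * ((z * z) * x * (z * z)⁻¹) := by
    group
  rw [this, hzz]
  group

end Inverted

section NoComp

variable {H : Type*} [Group H] [Finite H]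

theorem isPGroup_zpowers_of_sq {z : H} (hz : z ^ 2 = 1) : IsPGroup 2 (Subgroup.zpowers z) := by
  rintro ⟨_, n, rfl⟩
  refine ⟨1, ?_⟩
  apply Subtype.ext
  show (z ^ n) ^ 2 ^ 1 = 1
  rw [pow_one, ← zpow_natCast, ← zpow_mul, mul_comm, zpow_mul, zpow_natCast, hz, one_zpow]

instance fact_two : Fact (Nat.Prime 2) := ⟨Nat.prime_two⟩

/-- **Lemma D**: `H/O(H)` has no components if `H` and `C_H(z)` have none, `z` an involution
inverting `O(H)`. -/
theorem layer_quot_eq_bot {z : H} (hz : z ^ 2 = 1)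
    (hinv : ∀ n ∈ pPrimeCore 2 H, z * n * z⁻¹ = n⁻¹) (hl : layer H = ⊥)
    (hlc : layer ↥(Subgroup.centralizer ({z} : Set H)) = ⊥) :
    layer (H ⧸ pPrimeCore 2 H) = ⊥ := by
  classical
  set N := pPrimeCore 2 H with hN
  set π : H →* H ⧸ N := QuotientGroup.mk' N with hπ
  have hπs : Function.Surjective π := QuotientGroup.mk'_surjective N
  have hNn : N.Normal := inferInstance
  have hzi : z⁻¹ = z := by
    rw [inv_eq_iff_mul_eq_one, ← pow_two, hz]
  -- `N` is abelian
  have hNab : ∀ n ∈ N, ∀ m ∈ N, n * m = m * n := by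
    intro n hn m hm
    have h1 := hinv (n * m) (N.mul_mem hn hm)
    have h2 : z * (n * m) * z⁻¹ = (z * n * z⁻¹) * (z * m * z⁻¹) := by group
    rw [h2, hinv n hn, hinv m hm, mul_inv_rev] at h1
    have h3 : (m * n) = (n⁻¹ * m⁻¹)⁻¹ := by group
    rw [h3, h1]; group
  set H₀ : Subgroup H := Subgroup.centralizer (N : Set H) with hH₀
  have hH₀n : H₀.Normal := Subgroup.normal_centralizer
  have hNH₀ : N ≤ H₀ := by
    intro n hn
    rw [hH₀, Subgroup.mem_centralizer_iff]
    intro m hm
    exact hNab m hm n hn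
  -- commutators with `z` centralize `N`
  have hcomm : ∀ h : H, ⁅h, z⁆ ∈ H₀ := by
    intro h
    rw [hH₀, Subgroup.mem_centralizer_iff]
    intro n hn
    have h1 : h⁻¹ * n⁻¹ * h ∈ N := by
      have := hNn.conj_mem n⁻¹ (N.inv_mem hn) h⁻¹
      simpa using this
    have h2 := hinv _ h1
    have h3 : z * (h⁻¹ * n⁻¹ * h) * z⁻¹ = h⁻¹ * n * h := by
      rw [h2]; group
    have h4 : z⁻¹ * n * z = n⁻¹ := by
      rw [hzi]
      have := hinv n hn
      rwa [hzi] at this
    rw [commutatorElement_def]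
    calc n * (h * z * h⁻¹ * z⁻¹) = n * h * z * h⁻¹ * z⁻¹ := by group
      _ = h * (h⁻¹ * n * h) * z * h⁻¹ * z⁻¹ := by group
      _ = h * (z * (h⁻¹ * n⁻¹ * h) * z⁻¹) * z * h⁻¹ * z⁻¹ := by rw [h3]
      _ = h * z * h⁻¹ * (n⁻¹) * z⁻¹ := by group
      _ = h * z * h⁻¹ * (z⁻¹ * n * z) * z⁻¹ := by rw [h4]
      _ = h * z * h⁻¹ * z⁻¹ * n := by group
  unfold layer
  rw [sSup_eq_bot]
  intro C hC
  exfalso
  have hCb : C ≠ ⊥ := ne_bot_of_isComponent hC
  set Qb : Subgroup (H ⧸ N) := H₀.map π with hQb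
  have hQbn : Qb.Normal := Subgroup.Normal.map hH₀n _ hπs
  rcases le_or_commutator_eq_bot hC
    (Subgroup.Normal.isSubnormal hQbn) with hle | hcb
  · -- `C` lifts to a component of `H`
    have hK := isPComponent_pLift (p := 2) hC
    set K := pLift 2 C with hKdef
    have hKmap : K.map π = C := map_pLift hC
    have hKH₀ : K ≤ H₀ := by
      intro k hk
      have h0 : π k ∈ K.map π := ⟨k, hk, rfl⟩
      rw [hKmap] at h0
      have h1 : π k ∈ Qb := hle h0
      obtain ⟨c, hc, hce⟩ := h1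
      have h2 : c⁻¹ * k ∈ N := QuotientGroup.eq.mp hce
      have h3 : k = c * (c⁻¹ * k) := by group
      rw [h3]
      exact H₀.mul_mem hc (hNH₀ h2)
    have hq : IsQuasisimple K := by
      rw [isQuasisimple_iff_commutator_core hK]
      rw [eq_bot_iff, Subgroup.commutator_le]
      rintro k hk _ ⟨w, hw, rfl⟩
      have h1 : ((w : K) : H) ∈ N := by
        have h0 : ((w : K) : H) ∈ (pPrimeCore 2 ↥K).map K.subtype := ⟨w, hw, rfl⟩
        refine le_pPrimeCore_of_subnormal 2 hK.1 _ ?_ ?_ ?_ h0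
        · rintro _ ⟨y, _, rfl⟩
          exact y.2
        · intro k hk'
          apply Cfsg.Agent.Lib.Coprime.Three.mem_normalizer_of_conj_mem
          exact fun y hy => conj_mem_map_pPrimeCore 2 K k (Subgroup.le_normalizer hk') hy
        · rw [Subgroup.card_map_of_injective K.subtype_injective]
          exact coprime_card_pPrimeCore 2
      have h2 := (Subgroup.mem_centralizer_iff.mp (hKH₀ hk)) _ h1
      rw [Subgroup.mem_bot, commutatorElement_eq_one_iff_mul_comm]
      exact h2.symm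
    have hcomp : IsComponent K := ⟨hK.1, hq⟩
    have hbot : K ≤ ⊥ := by
      rw [← hl]
      exact le_layer hcomp
    exact ne_bot_of_isComponent hcomp (le_bot_iff.mp hbot)
  · -- `ẑ` centralizes `C`
    have hCperf : ⁅C, C⁆ = C := Subgroup.isPerfect_iff.mp hC.2.1
    set zb : H ⧸ N := π z with hzb
    set Z : Subgroup (H ⧸ N) := Subgroup.zpowers zb with hZ
    have hZc : ∀ y : H ⧸ N, ∀ u ∈ Z, ⁅y, u⁆ ∈ Qb := by
      intro y u hu
      haveI : Qb.Normal := hQbn
      have hmem : u ∈ (Subgroup.center ((H ⧸ N) ⧸ Qb)).comap (QuotientGroup.mk' Qb) := by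
        have hzbmem : zb ∈ (Subgroup.center ((H ⧸ N) ⧸ Qb)).comap (QuotientGroup.mk' Qb) := by
          rw [Subgroup.mem_comap, Subgroup.mem_center_iff]
          intro w
          obtain ⟨w', rfl⟩ := QuotientGroup.mk'_surjective Qb w
          obtain ⟨w'', rfl⟩ := hπs w'
          rw [← map_mul, ← map_mul]
          apply QuotientGroup.eq.mpr
          have h1 : ⁅w'', z⁆ ∈ H₀ := hcomm w''
          have h2 : π ⁅w'', z⁆ ∈ Qb := ⟨_, h1, rfl⟩
          have h3 : (π w'' * zb)⁻¹ * (zb * π w'') ∈ Qb := by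
            have h4 : (π w'' * zb)⁻¹ * (zb * π w'') = zb⁻¹ * (π w'')⁻¹ * zb * π w'' := by group
            rw [h4]
            have hi : zb⁻¹ = zb := by
              rw [hzb, ← map_inv, hzi]
            have h5 : zb⁻¹ * (π w'')⁻¹ * zb * π w'' = π (⁅w''⁻¹, z⁆)⁻¹ := by
              rw [commutatorElement_def]
              simp only [map_mul, map_inv, inv_inv, mul_inv_rev]
              have h6 : π z = zb := rfl
              rw [h6, hi]
              group
            rw [h5]
            exact Qb.inv_mem ⟨_, hcomm _, rfl⟩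
          exact h3
        exact (Subgroup.zpowers_le.mpr hzbmem) hu
      rw [Subgroup.mem_comap, Subgroup.mem_center_iff] at hmem
      have h2 := hmem (QuotientGroup.mk' Qb y)
      rw [← map_mul, ← map_mul] at h2
      have h3 : (y * u)⁻¹ * (u * y) ∈ Qb := QuotientGroup.eq.mp h2
      rw [commutatorElement_def]
      have h4 : y * u * y⁻¹ * u⁻¹ = (y * u) * ((y * u)⁻¹ * (u * y))⁻¹ * (y * u)⁻¹ := by group
      rw [h4]
      exact hQbn.conj_mem _ (Qb.inv_mem h3) _
    have h1 : ⁅⁅C, Z⁆, C⁆ = ⊥ := by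
      rw [eq_bot_iff, ← hcb, Subgroup.commutator_comm C Qb]
      apply Subgroup.commutator_mono _ le_rfl
      rw [Subgroup.commutator_le]
      intro c hc u hu
      exact hZc c u hu
    have h2 : ⁅⁅Z, C⁆, C⁆ = ⊥ := by
      rw [Subgroup.commutator_comm Z C]; exact h1
    have h3 : ⁅⁅C, C⁆, Z⁆ = ⊥ := Subgroup.commutator_commutator_eq_bot_of_rotate h1 h2
    rw [hCperf] at h3
    -- so `C` lies in the centralizer of `ẑ`
    set Cz : Subgroup (H ⧸ N) := Subgroup.centralizer ({zb} : Set (H ⧸ N)) with hCz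
    have hCCz : C ≤ Cz := by
      intro c hc
      rw [hCz, Subgroup.mem_centralizer_singleton_iff]
      have h4 : ⁅c, zb⁆ ∈ ⁅C, Z⁆ := Subgroup.commutator_mem_commutator hc (Subgroup.mem_zpowers _)
      rw [h3, Subgroup.mem_bot, commutatorElement_eq_one_iff_mul_comm] at h4
      exact h4
    -- the isomorphism
    set J : Subgroup H := Subgroup.centralizer ({z} : Set H) with hJ
    have hJmem : ∀ j : J, π (j : H) ∈ Cz := by
      intro j
      rw [hCz, Subgroup.mem_centralizer_singleton_iff, hzb, ← map_mul, ← map_mul,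
        Subgroup.mem_centralizer_singleton_iff.mp j.2]
    let ρ : J →* Cz :=
      { toFun := fun j => ⟨π j, hJmem j⟩
        map_one' := by apply Subtype.ext; simp
        map_mul' := fun a b => by apply Subtype.ext; simp }
    have hρinj : Function.Injective ρ := by
      rw [injective_iff_map_eq_one]
      intro j hj
      have h4 : π (j : H) = 1 := congrArg Subtype.val hj
      have h5 : (j : H) ∈ N := (QuotientGroup.eq_one_iff _).mp h4
      have h6 := hinv _ h5
      have h7 : z * (j : H) = j * z := (Subgroup.mem_centralizer_singleton_iff.mp j.2).symm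
      have h8 : z * (j : H) * z⁻¹ = j := by
        rw [h7]; group
      rw [h8] at h6
      -- `j = j⁻¹` and `j` is in an odd group
      have h9 : (j : H) ^ 2 = 1 := by
        rw [pow_two]
        nth_rewrite 1 [h6]
        group
      have hcop := coprime_card_pPrimeCore (G := H) 2
      have h10 : orderOf (j : H) ∣ Nat.card N := by
        have := orderOf_dvd_natCard (⟨j, h5⟩ : N)
        rwa [Subgroup.orderOf_mk] at this
      have h11 : orderOf (j : H) ∣ 2 := orderOf_dvd_of_pow_eq_one h9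
      apply Subtype.ext
      exact orderOf_eq_one_iff.mp (Nat.eq_one_of_dvd_coprimes hcop h10 h11)
    have hρsurj : Function.Surjective ρ := by
      rintro ⟨c, hc⟩
      obtain ⟨x, rfl⟩ := hπs c
      have hcommx : ∀ e ∈ Subgroup.zpowers z, (QuotientGroup.mk' (pPrimeCore 2 H)) x *
          (QuotientGroup.mk' (pPrimeCore 2 H)) e =
          (QuotientGroup.mk' (pPrimeCore 2 H)) e * (QuotientGroup.mk' (pPrimeCore 2 H)) x := by
        rintro _ ⟨n, rfl⟩
        have h4 := Subgroup.mem_centralizer_singleton_iff.mp hc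
        have h5 : Commute (π x) zb := h4
        simp only [map_zpow]
        exact (h5.zpow_right n).eq
      obtain ⟨w, hw, hwe⟩ := exists_centralizer_lift (isPGroup_zpowers_of_sq hz) x hcommx
      refine ⟨⟨w, ?_⟩, Subtype.ext hwe⟩
      rw [hJ, Subgroup.mem_centralizer_singleton_iff]
      exact ((Subgroup.mem_centralizer_iff.mp hw) z (Subgroup.mem_zpowers z)).symm
    let e : J ≃* Cz := MulEquiv.ofBijective ρ ⟨hρinj, hρsurj⟩
    have hc1 : IsComponent (C.subgroupOf Cz) := isComponent_subgroupOf hC hCCz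
    have hc2 := Cfsg.Agent.Lib.Components.Transport.isComponent_map_equiv e.symm hc1
    have hbot : (C.subgroupOf Cz).map e.symm.toMonoidHom ≤ ⊥ := by
      rw [← hlc]
      exact le_layer hc2
    exact ne_bot_of_isComponent hc2 (le_bot_iff.mp hbot)

/-- A trivial core: no components in the quotient. -/
theorem layer_quot_eq_bot_of_core_bot (hN : pPrimeCore 2 H = ⊥) (hl : layer H = ⊥) :
    layer (H ⧸ pPrimeCore 2 H) = ⊥ := by
  let e : (H ⧸ pPrimeCore 2 H) ≃* H :=
    (QuotientGroup.quotientMulEquivOfEq hN).trans QuotientGroup.quotientBot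
  have h := Cfsg.Agent.Lib.Components.Transport.layer_map_equiv e.symm
  rw [hl, Subgroup.map_bot] at h
  exact h.symm

/-- If `F*` is a `p`-group, no components. -/
theorem layer_eq_bot_of_isPGroup {p : ℕ} [Fact p.Prime]
    (h : IsPGroup p ↥(generalizedFittingSubgroup H)) : layer H = ⊥ := by
  unfold layer
  rw [sSup_eq_bot]
  intro C hC
  exfalso
  have hle : C ≤ generalizedFittingSubgroup H :=
    (le_layer hC).trans le_sup_left
  have hCp : IsPGroup p C := h.to_le hle
  haveI : Finite C := inferInstance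
  haveI : Group.IsNilpotent C := hCp.isNilpotent
  exact Quasisimple.not_isSolvable_of_isQuasisimple hC.2 inferInstance

end NoComp

end Cfsg.Agent.Lib.Components.OddCoreFunctor
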