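import Mathlib
import Cfsg.Prelude.Def_LocalStructure
import Cfsg.Prelude.Def_Amalgam
import Cfsg.Agent.Lib.Components.IsolatedMin2

/-!
# Factorizations of the weak closure of a weakly closed subgroup
-/

set_option autoImplicit false
set_option linter.unusedSectionVars false
set_option linter.style.haveILetI false
open Cfsg

namespace Cfsg.Agent.Lib.Components.WeakFact

open Subgroup Cfsg.Agent.Lib.Components.PMinimal Cfsg.Agent.Lib.Components.IsolatedMin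
  Cfsg.Agent.Lib.Components.IsolatedMin2
open scoped commutatorElement Pointwise

variable {G : Type*} [Group G] [Finite G] {p : ℕ} [Fact p.Prime]

theorem rP_eq_closure (p : ℕ) (A : Subgroup G) :
    rP p A = closure {x | x ∈ A ∧ (orderOf x).Coprime p} := by
  rw [rP, pResidual, MonoidHom.map_closure]
  congr 1
  ext x
  constructor
  · rintro ⟨y, hy, rfl⟩
    refine ⟨y.2, ?_⟩
    show (orderOf (y : G)).Coprime p
    rw [Subgroup.orderOf_coe]
    exact hy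
  · rintro ⟨hx, hc⟩
    refine ⟨⟨x, hx⟩, ?_, rfl⟩
    show (orderOf (⟨x, hx⟩ : ↥A)).Coprime p
    rw [Subgroup.orderOf_mk]
    exact hc

theorem mem_rP {A : Subgroup G} {x : G} (hx : x ∈ A) (hc : (orderOf x).Coprime p) : x ∈ rP p A := by
  rw [rP_eq_closure]
  exact subset_closure ⟨hx, hc⟩

theorem rP_le (A : Subgroup G) : rP p A ≤ A := map_subtype_le _

theorem rP_rP (A : Subgroup G) : rP p (rP p A) = rP p A := by
  apply le_antisymm (rP_le _)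
  conv_lhs => rw [rP_eq_closure]
  rw [closure_le]
  rintro x ⟨hx, hc⟩
  exact mem_rP (mem_rP hx hc) hc

theorem normalizes_rP {A : Subgroup G} {g : G} (hg : g ∈ normalizer (A : Set G)) :
    g ∈ normalizer ((rP p A : Subgroup G) : Set G) := by
  apply Cfsg.Agent.Lib.Coprime.Three.mem_normalizer_of_conj_mem
  have h1 : rP p A ≤ (rP p A).comap (MulAut.conj g).toMonoidHom := by
    conv_lhs => rw [rP_eq_closure]
    rw [closure_le]
    rintro x ⟨hx, hc⟩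
    refine mem_rP ((mem_normalizer_iff.mp hg x).mp hx) ?_
    show (orderOf (g * x * g⁻¹)).Coprime p
    rw [Cfsg.Agent.Lib.Transfer.Basic.orderOf_conj_eq]
    exact hc
  intro v hv
  exact h1 hv

/-- A residual is contained in a subgroup supplemented by a `p`-group. -/
theorem rP_le_of_le_sup {P N D : Subgroup G} (hD : IsPGroup p D)
    (hn : D ≤ normalizer (N : Set G)) (hP : P ≤ N ⊔ D) : rP p P ≤ N :=
  map_residual_le hD hn hP

/-- Weakly closed `p`-subgroups. -/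
structure WC (p : ℕ) (Q : Subgroup G) : Prop where
  hQp : IsPGroup p Q
  hwc : IsWeaklyClosedSubgroup p Q

theorem cj_inv_le_of_le_cj {X T : Subgroup G} {y : G} (h : X ≤ cj y T) : cj y⁻¹ X ≤ T := by
  intro x hx
  rw [mem_cj, inv_inv] at hx
  have h2 := h hx
  rw [mem_cj] at h2
  simpa [mul_assoc] using h2

namespace WC

variable {Q : Subgroup G}

theorem eq_of_le (h : WC p Q) {Y : Subgroup G} (hY : IsPGroup p Y) (hQY : Q ≤ Y) {g : G}
    (hg : cj g Q ≤ Y) : cj g Q = Q := by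
  obtain ⟨T, hQT, hT⟩ := h.hwc
  obtain ⟨T', hT'⟩ := hY.exists_le_sylow
  obtain ⟨y, hy⟩ := MulAction.exists_smul_eq G T T'
  have hcoe : (T' : Subgroup G) = cj y (T : Subgroup G) := by
    rw [← hy]
    exact Sylow.coe_subgroup_smul
  have h1 : cj y⁻¹ Q ≤ T := cj_inv_le_of_le_cj (hcoe ▸ (hQY.trans hT'))
  have h3 : cj y⁻¹ Q = Q := hT _ h1
  have h4 : cj y⁻¹ (cj g Q) ≤ T := cj_inv_le_of_le_cj (hcoe ▸ (hg.trans hT'))
  have h5 : cj (y⁻¹ * g) Q = Q := hT _ (by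
    show cj (y⁻¹ * g) Q ≤ _
    rw [cj_mul']; exact h4)
  rw [cj_mul'] at h5
  have h6 : cj g Q = cj y Q := by
    rw [← cj_cj_inv y (cj g Q), h5]
  rw [h6]
  have h7 := cj_cj_inv y Q
  rw [h3] at h7
  exact h7

theorem le_normalizer (h : WC p Q) {Y : Subgroup G} (hY : IsPGroup p Y) (hQY : Q ≤ Y) :
    Y ≤ normalizer (Q : Set G) := by
  intro y hy
  apply Cfsg.Agent.Lib.Coprime.Three.mem_normalizer_of_conj_mem
  intro v hv
  have h1 : cj y Q ≤ Y := by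
    rintro _ ⟨q, hq, rfl⟩
    exact Y.mul_mem (Y.mul_mem hy (hQY hq)) (Y.inv_mem hy)
  have h2 := h.eq_of_le hY hQY h1
  rw [← h2]
  exact ⟨v, hv, rfl⟩

theorem eq_of_le_normalizer (h : WC p Q) {g : G} (hg : cj g Q ≤ normalizer (Q : Set G)) :
    cj g Q = Q := by
  have hq : IsPGroup p ↥(cj g Q) := h.hQp.map _
  have h1 : IsPGroup p ↥(Q ⊔ cj g Q) := IsPGroup.to_sup_of_normal_left' h.hQp hq hg
  exact h.eq_of_le h1 le_sup_left le_sup_right

end WC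

section Closure

variable {Q : Subgroup G}

theorem le_weakClosure {A : Subgroup G} {g : G} (hg : cj g Q ≤ A) : cj g Q ≤ weakClosure Q A :=
  le_iSup (fun g : {g : G // Q.map (MulAut.conj g).toMonoidHom ≤ A} =>
    Q.map (MulAut.conj (g : G)).toMonoidHom) ⟨g, hg⟩

theorem weakClosure_le {A N : Subgroup G} (h : ∀ g : G, cj g Q ≤ A → cj g Q ≤ N) :
    weakClosure Q A ≤ N :=
  iSup_le fun g => h g.1 g.2

theorem cj_one (K : Subgroup G) : cj 1 K = K := by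
  ext x
  simp [mem_cj]

theorem self_le_weakClosure {A : Subgroup G} (hQA : Q ≤ A) : Q ≤ weakClosure Q A := by
  have := le_weakClosure (Q := Q) (A := A) (g := 1) (by rw [cj_one]; exact hQA)
  rwa [cj_one] at this

theorem weakClosure_le_self (A : Subgroup G) : weakClosure Q A ≤ A := weakClosure_le fun _ h => h

theorem le_normalizer_weakClosure (A : Subgroup G) :
    A ≤ normalizer ((weakClosure Q A : Subgroup G) : Set G) := by
  intro a ha
  apply Cfsg.Agent.Lib.Coprime.Three.mem_normalizer_of_conj_mem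
  have h1 : weakClosure Q A ≤ (weakClosure Q A).comap (MulAut.conj a).toMonoidHom := by
    apply weakClosure_le
    intro g hg x hx
    have h2 : cj (a * g) Q ≤ A := by
      rw [cj_mul']
      rintro _ ⟨y, hy, rfl⟩
      exact A.mul_mem (A.mul_mem ha (hg hy)) (A.inv_mem ha)
    refine le_weakClosure h2 ?_
    rw [cj_mul']
    exact ⟨x, hx, rfl⟩
  intro v hv
  exact h1 hv

/-- Conjugates of `Q` in the weak closure are conjugate there. -/
theorem WC.exists_conj (h : WC p Q) {W : Subgroup G} (hQW : Q ≤ W) {g : G} (hg : cj g Q ≤ W) :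
    ∃ w ∈ W, cj g Q = cj w Q := by
  have hp1 : IsPGroup p ↥(Q.subgroupOf W) := by
    rintro ⟨a, ha⟩
    obtain ⟨k, hk⟩ := h.hQp ⟨a, mem_subgroupOf.mp ha⟩
    refine ⟨k, Subtype.ext (Subtype.ext ?_)⟩
    simpa using congrArg Subtype.val hk
  have hp2 : IsPGroup p ↥((cj g Q).subgroupOf W) := by
    rintro ⟨a, ha⟩
    obtain ⟨k, hk⟩ := (h.hQp.map (MulAut.conj g).toMonoidHom) ⟨a, mem_subgroupOf.mp ha⟩
    have h9 : (a : G) ^ p ^ k = 1 := congrArg Subtype.val hk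
    refine ⟨k, Subtype.ext (Subtype.ext ?_)⟩
    simpa using h9
  obtain ⟨Y₀, hY₀⟩ := hp1.exists_le_sylow
  obtain ⟨Y₁, hY₁⟩ := hp2.exists_le_sylow
  obtain ⟨w, hw⟩ := MulAction.exists_smul_eq ↥W Y₀ Y₁
  have hY₀p : IsPGroup p ↥((Y₀ : Subgroup ↥W).map W.subtype) := Y₀.2.map _
  have hQY : Q ≤ (Y₀ : Subgroup ↥W).map W.subtype := by
    intro q hq
    exact ⟨⟨q, hQW hq⟩, hY₀ (mem_subgroupOf.mpr hq), rfl⟩
  have h1 : cj (w : G)⁻¹ (cj g Q) ≤ (Y₀ : Subgroup ↥W).map W.subtype := by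
    intro x hx
    rw [mem_cj, inv_inv] at hx
    have h2 : (⟨(w : G) * x * (w : G)⁻¹, hg hx⟩ : ↥W) ∈ (Y₁ : Subgroup ↥W) :=
      hY₁ (mem_subgroupOf.mpr hx)
    rw [← hw, Sylow.coe_subgroup_smul] at h2
    have h3 := mem_cj.mp h2
    refine ⟨w⁻¹ * ⟨(w : G) * x * (w : G)⁻¹, hg hx⟩ * w, h3, ?_⟩
    simp [mul_assoc]
  have h4 := h.eq_of_le hY₀p hQY (g := (w : G)⁻¹ * g) (by rw [cj_mul']; exact h1)
  refine ⟨w, w.2, ?_⟩
  rw [cj_mul'] at h4
  rw [← cj_cj_inv (w : G) (cj g Q), h4]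

theorem WC.eq_weakClosure (h : WC p Q) {A N : Subgroup G} (hQA : Q ≤ A) (hQN : Q ≤ N)
    (hNW : N ≤ weakClosure Q A)
    (hn : weakClosure Q A ≤ normalizer (N : Set G)) : N = weakClosure Q A := by
  apply le_antisymm hNW
  apply weakClosure_le
  intro g hg
  obtain ⟨w, hw, e⟩ := h.exists_conj (self_le_weakClosure hQA) (le_weakClosure hg)
  rw [e]
  rintro _ ⟨q, hq, rfl⟩
  exact (mem_normalizer_iff.mp (hn hw) q).mp (hQN hq)

/-- `W = K Q`. -/
theorem WC.residual_sup (h : WC p Q) {A : Subgroup G} (hQA : Q ≤ A) :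
    rP p (weakClosure Q A) ⊔ Q = weakClosure Q A := by
  set W := weakClosure Q A with hW
  have hQW : Q ≤ W := self_le_weakClosure hQA
  set K := rP p W with hK
  have hKW : K ≤ W := rP_le W
  have hKn : W ≤ normalizer ((K : Subgroup G) : Set G) := rP_normalizer W
  refine h.eq_weakClosure hQA le_sup_right (sup_le hKW hQW) ?_
  -- a Sylow subgroup containing `Q`
  have hp1 : IsPGroup p ↥(Q.subgroupOf W) := by
    rintro ⟨a, ha⟩
    obtain ⟨k, hk⟩ := h.hQp ⟨a, mem_subgroupOf.mp ha⟩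
    refine ⟨k, Subtype.ext (Subtype.ext ?_)⟩
    simpa using congrArg Subtype.val hk
  obtain ⟨Y, hY⟩ := hp1.exists_le_sylow
  have hYp : IsPGroup p ↥((Y : Subgroup ↥W).map W.subtype) := Y.2.map _
  have hQY : Q ≤ (Y : Subgroup ↥W).map W.subtype := by
    intro q hq
    exact ⟨⟨q, hQW hq⟩, hY (mem_subgroupOf.mpr hq), rfl⟩
  have hYQ := h.le_normalizer hYp hQY
  have htop := pResidual_sup_sylow Y
  intro w hw
  have hw1 : (⟨w, hw⟩ : ↥W) ∈ (Y : Subgroup ↥W) ⊔ pResidual p ↥W := by rw [htop]; trivial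
  have hnorm : ∀ u ∈ ((Y : Subgroup ↥W) ⊔ pResidual p ↥W),
      (u : G) ∈ normalizer (((K ⊔ Q : Subgroup G)) : Set G) := by
    intro u hu
    have hle : (Y : Subgroup ↥W) ⊔ pResidual p ↥W ≤
        (normalizer (((K ⊔ Q : Subgroup G)) : Set G)).comap W.subtype := by
      refine sup_le ?_ ?_
      · intro y hy
        have hy1 : (y : G) ∈ (Y : Subgroup ↥W).map W.subtype := ⟨y, hy, rfl⟩
        apply Cfsg.Agent.Lib.Coprime.Three.mem_normalizer_of_conj_mem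
        have h1 : K ⊔ Q ≤ (K ⊔ Q).comap (MulAut.conj (y : G)).toMonoidHom := by
          refine sup_le ?_ ?_
          · intro k hk
            exact (le_sup_left : K ≤ K ⊔ Q) ((mem_normalizer_iff.mp (hKn y.2) k).mp hk)
          · intro q hq
            exact (le_sup_right : Q ≤ K ⊔ Q) ((mem_normalizer_iff.mp (hYQ hy1) q).mp hq)
        intro v hv
        exact h1 hv
      · intro y hy
        have hy1 : (y : G) ∈ K := ⟨y, hy, rfl⟩
        apply Cfsg.Agent.Lib.Coprime.Three.mem_normalizer_of_conj_mem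
        have h1 : K ⊔ Q ≤ (K ⊔ Q).comap (MulAut.conj (y : G)).toMonoidHom := by
          refine sup_le ?_ ?_
          · intro k hk
            exact (le_sup_left : K ≤ K ⊔ Q) ((mem_normalizer_iff.mp (hKn y.2) k).mp hk)
          · intro q hq
            show (y : G) * q * (y : G)⁻¹ ∈ K ⊔ Q
            have e : (y : G) * q * (y : G)⁻¹ = ((y : G) * (q * (y : G)⁻¹ * q⁻¹)) * q := by group
            rw [e]
            refine mul_mem ((le_sup_left : K ≤ K ⊔ Q) (K.mul_mem hy1 ?_)) ((le_sup_right : Q ≤ K ⊔ Q) hq)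
            exact (mem_normalizer_iff.mp (hKn (hQW hq)) _).mp (K.inv_mem hy1)
        intro v hv
        exact h1 hv
    exact hle hu
  exact hnorm _ hw1

/-- `[K, Q] = K`. -/
theorem WC.commutator_residual (h : WC p Q) {A : Subgroup G} (hQA : Q ≤ A) :
    ⁅rP p (weakClosure Q A), Q⁆ = rP p (weakClosure Q A) := by
  set W := weakClosure Q A with hW
  have hQW : Q ≤ W := self_le_weakClosure hQA
  set K := rP p W with hK
  have hKW : K ≤ W := rP_le W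
  have hKn : W ≤ normalizer ((K : Subgroup G) : Set G) := rP_normalizer W
  have hQKn : Q ≤ normalizer ((K : Subgroup G) : Set G) := hQW.trans hKn
  have hsup : K ⊔ Q = W := h.residual_sup hQA
  apply le_antisymm (Cfsg.Agent.Lib.Coprime.Coset.commutator_le_left_of_le_normalizer hQKn)
  -- normality of `[K,Q]`
  have hn1 : K ≤ normalizer ((⁅K, Q⁆ : Subgroup G) : Set G) :=
    Cfsg.Agent.Lib.Coprime.Coset.commutator_le_normalizer_left hQKn
  have hn2 : Q ≤ normalizer ((⁅K, Q⁆ : Subgroup G) : Set G) :=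
    Cfsg.Agent.Lib.Coprime.Coset.commutator_le_normalizer_right hQKn
  have hZ : ⁅K, Q⁆ ⊔ Q = W := by
    refine h.eq_weakClosure hQA le_sup_right ?_ ?_
    · refine sup_le ?_ hQW
      exact (Cfsg.Agent.Lib.Coprime.Coset.commutator_le_left_of_le_normalizer hQKn).trans hKW
    · rw [← hW, ← hsup]
      refine sup_le ?_ ?_
      · intro k hk
        apply Cfsg.Agent.Lib.Coprime.Three.mem_normalizer_of_conj_mem
        have h1 : ⁅K, Q⁆ ⊔ Q ≤ (⁅K, Q⁆ ⊔ Q).comap (MulAut.conj k).toMonoidHom := by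
          refine sup_le ?_ ?_
          · intro c hc
            exact (le_sup_left : ⁅K, Q⁆ ≤ ⁅K, Q⁆ ⊔ Q) ((mem_normalizer_iff.mp (hn1 hk) c).mp hc)
          · intro q hq
            show k * q * k⁻¹ ∈ ⁅K, Q⁆ ⊔ Q
            have e : k * q * k⁻¹ = ⁅k, q⁆ * q := by
              simp only [commutatorElement_def]; group
            rw [e]
            exact mul_mem ((le_sup_left : ⁅K, Q⁆ ≤ ⁅K, Q⁆ ⊔ Q) (commutator_mem_commutator hk hq))
              ((le_sup_right : Q ≤ ⁅K, Q⁆ ⊔ Q) hq)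
        intro v hv
        exact h1 hv
      · intro q hq
        apply Cfsg.Agent.Lib.Coprime.Three.mem_normalizer_of_conj_mem
        have h1 : ⁅K, Q⁆ ⊔ Q ≤ (⁅K, Q⁆ ⊔ Q).comap (MulAut.conj q).toMonoidHom := by
          refine sup_le ?_ ?_
          · intro c hc
            exact (le_sup_left : ⁅K, Q⁆ ≤ ⁅K, Q⁆ ⊔ Q) ((mem_normalizer_iff.mp (hn2 hq) c).mp hc)
          · intro q' hq'
            exact (le_sup_right : Q ≤ ⁅K, Q⁆ ⊔ Q) (Q.mul_mem (Q.mul_mem hq hq') (Q.inv_mem hq))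
        intro v hv
        exact h1 hv
  have h3 : K ≤ ⁅K, Q⁆ ⊔ Q := hZ ▸ hKW
  have h4 := rP_le_of_le_sup (p := p) h.hQp hn2 h3
  rw [rP_rP] at h4
  exact h4

end Closure

section Main

theorem le_pCoreOf {Hc C X : Subgroup G} (hCHc : C ≤ Hc) (hCn : Hc ≤ normalizer (C : Set G))
    (hXC : X ≤ C) (hXn : C ≤ normalizer (X : Set G)) (hX : IsPGroup p X) : X ≤ pCoreOf p Hc := by
  have hC'n : (C.subgroupOf Hc).Normal := by
    constructor
    intro a ha g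
    rw [mem_subgroupOf] at ha ⊢
    exact (mem_normalizer_iff.mp (hCn g.2) _).mp ha
  have hN : ((X.subgroupOf Hc).subgroupOf (C.subgroupOf Hc)).Normal := by
    constructor
    intro a ha g
    rw [mem_subgroupOf, mem_subgroupOf] at ha ⊢
    have hg : ((g : ↥Hc) : G) ∈ C := mem_subgroupOf.mp g.2
    exact (mem_normalizer_iff.mp (hXn hg) _).mp ha
  have hle : X.subgroupOf Hc ≤ C.subgroupOf Hc := fun a ha =>
    mem_subgroupOf.mpr (hXC (mem_subgroupOf.mp ha))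
  have hsn : (X.subgroupOf Hc).IsSubnormal :=
    IsSubnormal.step _ _ hle hC'n.isSubnormal hN
  have hp : IsPGroup p ↥(X.subgroupOf Hc) := by
    rintro ⟨a, ha⟩
    obtain ⟨k, hk⟩ := hX ⟨a, mem_subgroupOf.mp ha⟩
    refine ⟨k, Subtype.ext (Subtype.ext ?_)⟩
    simpa using congrArg Subtype.val hk
  have h1 := Cfsg.Agent.Lib.Basic.PCore.le_pCore_of_subnormal hsn hp
  intro x hx
  exact ⟨⟨x, hCHc (hXC hx)⟩, h1 (mem_subgroupOf.mpr hx), rfl⟩

theorem normalizes_commutator {A B : Subgroup G} {g : G} (hA : g ∈ normalizer (A : Set G))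
    (hB : g ∈ normalizer (B : Set G)) : g ∈ normalizer ((⁅A, B⁆ : Subgroup G) : Set G) := by
  apply Cfsg.Agent.Lib.Coprime.Three.mem_normalizer_of_conj_mem
  have h1 : ⁅A, B⁆ ≤ (⁅A, B⁆).comap (MulAut.conj g).toMonoidHom := by
    rw [commutator_le]
    intro a ha b hb
    show g * ⁅a, b⁆ * g⁻¹ ∈ ⁅A, B⁆
    rw [conjugate_commutatorElement]
    exact commutator_mem_commutator ((mem_normalizer_iff.mp hA a).mp ha)
      ((mem_normalizer_iff.mp hB b).mp hb)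
  intro v hv
  exact h1 hv

/-- The situation of the factorization theorem. -/
structure Fac (p : ℕ) (Q Hc H₁ H₂ : Subgroup G) : Prop where
  hQ : WC p Q
  hHc : Hc = weakClosure Q ⊤
  hn₁ : H₁ ≤ Hc ∧ Hc ≤ normalizer (H₁ : Set G)
  hn₂ : H₂ ≤ Hc ∧ Hc ≤ normalizer (H₂ : Set G)
  hprod : H₁ ⊔ H₂ = Hc
  hcomm : ⁅H₁, H₂⁆ ≤ normalizer (Q : Set G)

namespace Fac

variable {Q Hc H₁ H₂ : Subgroup G}

theorem symm (h : Fac p Q Hc H₁ H₂) : Fac p Q Hc H₂ H₁ :=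
  ⟨h.hQ, h.hHc, h.hn₂, h.hn₁, by rw [sup_comm]; exact h.hprod, by
    rw [commutator_comm]; exact h.hcomm⟩

theorem le_Hc (h : Fac p Q Hc H₁ H₂) : Q ≤ Hc := by
  rw [h.hHc]; exact self_le_weakClosure le_top

theorem Hc_normal (h : Fac p Q Hc H₁ H₂) : Hc.Normal := by
  rw [← normalizer_eq_top_iff, eq_top_iff, h.hHc]
  exact le_normalizer_weakClosure ⊤

theorem exists_conj_Hc (h : Fac p Q Hc H₁ H₂) (g : G) : ∃ w ∈ Hc, cj g Q = cj w Q := by
  have h1 : cj g Q ≤ Hc := by rw [h.hHc]; exact le_weakClosure le_top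
  exact h.hQ.exists_conj h.le_Hc h1

theorem comm_le_Hc (h : Fac p Q Hc H₁ H₂) : ⁅H₁, H₂⁆ ≤ H₁ :=
  Cfsg.Agent.Lib.Coprime.Coset.commutator_le_left_of_le_normalizer (h.hn₂.1.trans h.hn₁.2)

theorem Hc_le_normalizer_comm (h : Fac p Q Hc H₁ H₂) :
    Hc ≤ normalizer ((⁅H₁, H₂⁆ : Subgroup G) : Set G) := fun _ hg =>
  normalizes_commutator (h.hn₁.2 hg) (h.hn₂.2 hg)

/-- The commutator subgroup normalizes all conjugates of `Q`. -/
theorem comm_le_normalizer_cj (h : Fac p Q Hc H₁ H₂) (g : G) :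
    ⁅H₁, H₂⁆ ≤ normalizer ((cj g Q : Subgroup G) : Set G) := by
  obtain ⟨w, hw, e⟩ := h.exists_conj_Hc g
  rw [e]
  intro c hc
  have h1 : (w : G)⁻¹ * c * w ∈ ⁅H₁, H₂⁆ := by
    have := (mem_normalizer_iff.mp (h.Hc_le_normalizer_comm (Hc.inv_mem hw)) c).mp hc
    simpa using this
  have h2 := mem_normalizer_iff.mp (h.hcomm h1)
  apply Cfsg.Agent.Lib.Coprime.Three.mem_normalizer_of_conj_mem
  intro v hv
  rw [mem_cj] at hv ⊢
  have h3 := (h2 _).mp hv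
  have e2 : w⁻¹ * (c * v * c⁻¹) * w = (w⁻¹ * c * w) * (w⁻¹ * v * w) * (w⁻¹ * c * w)⁻¹ := by group
  rw [e2]
  exact h3

theorem comm_le_normalizer_weakClosure (h : Fac p Q Hc H₁ H₂) (A : Subgroup G) :
    ⁅H₁, H₂⁆ ≤ normalizer ((weakClosure Q A : Subgroup G) : Set G) := by
  intro c hc
  apply Cfsg.Agent.Lib.Coprime.Three.mem_normalizer_of_conj_mem
  have h1 : weakClosure Q A ≤ (weakClosure Q A).comap (MulAut.conj c).toMonoidHom := by
    apply weakClosure_le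
    intro g hg x hx
    exact le_weakClosure hg ((mem_normalizer_iff.mp (h.comm_le_normalizer_cj g hc) x).mp hx)
  intro v hv
  exact h1 hv

theorem pCoreOf_normal (h : Fac p Q Hc H₁ H₂) : (pCoreOf p Hc).Normal := by
  haveI := h.Hc_normal
  haveI := Cfsg.Agent.Lib.Basic.PCore.pCore_char p ↥Hc
  exact Cfsg.Agent.Lib.Basic.PCore.map_subtype_normal_of_characteristic _

theorem pCoreOf_isPGroup (Hc : Subgroup G) : IsPGroup p ↥(pCoreOf p Hc) :=
  (Cfsg.Agent.Lib.Basic.PCore.pCore_isPGroup p (G := ↥Hc)).map Hc.subtype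

theorem cj_le_Hc (h : Fac p Q Hc H₁ H₂) (g : G) : cj g Q ≤ Hc := by
  rw [h.hHc]; exact le_weakClosure le_top

/-- `[C, Q^g] ≤ O_p(Hc)`. -/
theorem comm_mem_pCoreOf (h : Fac p Q Hc H₁ H₂) (g : G) {c y : G} (hc : c ∈ ⁅H₁, H₂⁆)
    (hy : y ∈ cj g Q) : c * y * c⁻¹ * y⁻¹ ∈ pCoreOf p Hc := by
  have hCHc : ⁅H₁, H₂⁆ ≤ Hc := h.comm_le_Hc.trans h.hn₁.1
  have h1 : cj g Q ⊓ ⁅H₁, H₂⁆ ≤ pCoreOf p Hc := by
    refine le_pCoreOf hCHc h.Hc_le_normalizer_comm inf_le_right ?_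
      ((h.hQ.hQp.map (MulAut.conj g).toMonoidHom).to_le inf_le_left)
    intro u hu
    rw [mem_normalizer_iff]
    intro v
    have h2 := mem_normalizer_iff.mp (h.comm_le_normalizer_cj g hu) v
    have h3 := (mem_normalizer_iff.mp (le_normalizer hu) v)
    exact ⟨fun hv => mem_inf.mpr ⟨h2.mp (mem_inf.mp hv).1, h3.mp (mem_inf.mp hv).2⟩,
      fun hv => mem_inf.mpr ⟨h2.mpr (mem_inf.mp hv).1, h3.mpr (mem_inf.mp hv).2⟩⟩
  apply h1
  refine mem_inf.mpr ⟨?_, ?_⟩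
  · have h2 := (mem_normalizer_iff.mp (h.comm_le_normalizer_cj g hc) y).mp hy
    exact (cj g Q).mul_mem h2 ((cj g Q).inv_mem hy)
  · have h2 : y * c⁻¹ * y⁻¹ ∈ ⁅H₁, H₂⁆ :=
      (mem_normalizer_iff.mp (h.Hc_le_normalizer_comm (h.cj_le_Hc g hy)) _).mp (inv_mem hc)
    have e : c * y * c⁻¹ * y⁻¹ = c * (y * c⁻¹ * y⁻¹) := by group
    rw [e]
    exact mul_mem hc h2

/-- The image of the commutator in `G / O_p(Hc)` is central in the image of `Hc`. -/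
theorem central (h : Fac p Q Hc H₁ H₂) [hO : (pCoreOf p Hc).Normal] {c y : G} (hc : c ∈ ⁅H₁, H₂⁆)
    (hy : y ∈ Hc) : (QuotientGroup.mk' (pCoreOf p Hc)) c * (QuotientGroup.mk' (pCoreOf p Hc)) y =
      (QuotientGroup.mk' (pCoreOf p Hc)) y * (QuotientGroup.mk' (pCoreOf p Hc)) c := by
  set π := QuotientGroup.mk' (pCoreOf p Hc) with hπ
  have h1 : weakClosure Q ⊤ ≤ (centralizer ({π c} : Set (G ⧸ pCoreOf p Hc))).comap π := by
    apply weakClosure_le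
    intro g _ x hx
    rw [mem_comap, mem_centralizer_singleton_iff]
    have h2 := (QuotientGroup.eq_one_iff _).mpr (h.comm_mem_pCoreOf g hc hx)
    have h3 : π (c * x * c⁻¹ * x⁻¹) = 1 := h2
    simp only [map_mul, map_inv] at h3
    rw [mul_inv_eq_one, mul_inv_eq_iff_eq_mul] at h3
    exact h3.symm
  have h4 := h1 (h.hHc ▸ hy)
  rw [mem_comap, mem_centralizer_singleton_iff] at h4
  exact h4.symm

theorem residual_le (h : Fac p Q Hc H₁ H₂) : rP p (weakClosure Q (H₁ ⊔ Q)) ≤ H₁ :=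
  rP_le_of_le_sup h.hQ.hQp (h.le_Hc.trans h.hn₁.2) (weakClosure_le_self _)

theorem le_normalizer_residual_of_sup (h : Fac p Q Hc H₁ H₂) :
    H₁ ≤ normalizer ((rP p (weakClosure Q (H₁ ⊔ Q)) : Subgroup G) : Set G) := fun _ hx =>
  normalizes_rP (le_normalizer_weakClosure _ ((le_sup_left : H₁ ≤ H₁ ⊔ Q) hx))

/-- `[K₁, H₂] ≤ O_p(Hc)`. -/
theorem comm_residual_le (h : Fac p Q Hc H₁ H₂) :
    ⁅rP p (weakClosure Q (H₁ ⊔ Q)), H₂⁆ ≤ pCoreOf p Hc := by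
  haveI hO : (pCoreOf p Hc).Normal := h.pCoreOf_normal
  set π := QuotientGroup.mk' (pCoreOf p Hc) with hπ
  set K₁ := rP p (weakClosure Q (H₁ ⊔ Q)) with hK₁
  have hKH : K₁ ≤ H₁ := h.residual_le
  set E₁ := H₁.map π with hE₁
  set E₂ := H₂.map π with hE₂
  set Eb := Hc.map π with hEb
  set B := Q.map π with hB
  set A := K₁.map π with hA
  have hE₁b : E₁ ≤ Eb := map_mono h.hn₁.1
  have hE₂b : E₂ ≤ Eb := map_mono h.hn₂.1
  have hBb : B ≤ Eb := map_mono h.le_Hc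
  have hAE₁ : A ≤ E₁ := map_mono hKH
  have hcen1 : ⁅⁅E₁, E₂⁆, Eb⁆ = ⊥ := by
    rw [commutator_eq_bot_iff_le_centralizer, ← Subgroup.map_commutator]
    rintro _ ⟨c, hc, rfl⟩
    rw [mem_centralizer_iff]
    rintro _ ⟨y, hy, rfl⟩
    exact (h.central hc hy).symm
  have hcen2 : ⁅⁅E₂, E₁⁆, Eb⁆ = ⊥ := by rw [commutator_comm E₂ E₁]; exact hcen1
  have hbot : ∀ {X Y Z W : Subgroup (G ⧸ pCoreOf p Hc)}, ⁅⁅X, Y⁆, Z⁆ = ⊥ → W ≤ Z → ⁅⁅X, Y⁆, W⁆ = ⊥ := by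
    intro X Y Z W h1 h2
    rw [eq_bot_iff, ← h1]
    exact Subgroup.commutator_mono le_rfl h2
  have hS1 : ⁅⁅E₂, E₂⁆, E₁⁆ = ⊥ :=
    Subgroup.commutator_commutator_eq_bot_of_rotate (hbot hcen2 hE₂b) (hbot hcen1 hE₂b)
  have hZ1 : ⁅E₂, E₂⁆ ≤ centralizer (E₁ : Set (G ⧸ pCoreOf p Hc)) :=
    (commutator_eq_bot_iff_le_centralizer).mp hS1
  have hZ2 : ⁅E₁, E₂⁆ ≤ centralizer (E₁ : Set (G ⧸ pCoreOf p Hc)) :=
    (commutator_eq_bot_iff_le_centralizer).mp (hbot hcen1 hE₁b)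
  have hS2 : ⁅⁅B, E₂⁆, A⁆ = ⊥ := by
    rw [eq_bot_iff]
    have h1 : ⁅⁅B, E₂⁆, E₁⁆ = ⊥ := by
      rw [commutator_eq_bot_iff_le_centralizer, commutator_le]
      rintro _ ⟨q, hq, rfl⟩ _ ⟨z, hz, rfl⟩
      have hq1 : q ∈ ((H₁ ⊔ H₂ : Subgroup G) : Set G) := by
        rw [h.hprod]; exact h.le_Hc hq
      rw [Subgroup.coe_mul_of_left_le_normalizer_right H₁ H₂ (h.hn₁.1.trans h.hn₂.2)] at hq1
      obtain ⟨a, ha, b, hb, rfl⟩ := Set.mem_mul.mp hq1
      have hb1 : ⁅π b, π z⁆ ∈ centralizer (E₁ : Set (G ⧸ pCoreOf p Hc)) :=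
        hZ1 (commutator_mem_commutator ⟨b, hb, rfl⟩ ⟨z, hz, rfl⟩)
      have ha1 : ⁅π a, π z⁆ ∈ centralizer (E₁ : Set (G ⧸ pCoreOf p Hc)) :=
        hZ2 (commutator_mem_commutator ⟨a, ha, rfl⟩ ⟨z, hz, rfl⟩)
      have hcomm1 : π a * ⁅π b, π z⁆ = ⁅π b, π z⁆ * π a :=
        mem_centralizer_iff.mp hb1 _ ⟨a, ha, rfl⟩
      have e : ⁅π (a * b), π z⁆ = ⁅π b, π z⁆ * ⁅π a, π z⁆ := by
        have e1 : ⁅π a * π b, π z⁆ = (π a * ⁅π b, π z⁆ * (π a)⁻¹) * ⁅π a, π z⁆ := by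
          simp only [commutatorElement_def]; group
        rw [map_mul, e1, hcomm1]
        group
      rw [e]
      exact mul_mem hb1 ha1
    rw [← h1]
    exact Subgroup.commutator_mono le_rfl hAE₁
  have hS3 : ⁅⁅E₂, A⁆, B⁆ = ⊥ := by
    rw [eq_bot_iff, ← hbot hcen2 hBb]
    exact Subgroup.commutator_mono (Subgroup.commutator_mono le_rfl hAE₁) le_rfl
  have hS4 : ⁅⁅A, B⁆, E₂⁆ = ⊥ := Subgroup.commutator_commutator_eq_bot_of_rotate hS2 hS3
  have hAB : ⁅A, B⁆ = A := by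
    rw [hA, hB, ← Subgroup.map_commutator, h.hQ.commutator_residual le_sup_right]
  rw [hAB] at hS4
  have h5 : (⁅K₁, H₂⁆).map π = ⊥ := by
    rw [Subgroup.map_commutator]
    exact hS4
  rw [Subgroup.map_eq_bot_iff, QuotientGroup.ker_mk'] at h5
  exact h5

theorem le_comm_residual (h : Fac p Q Hc H₁ H₂) :
    rP p (weakClosure Q (H₁ ⊔ Q)) ≤ ⁅rP p (weakClosure Q (H₁ ⊔ Q)), H₁⁆ := by
  haveI hO : (pCoreOf p Hc).Normal := h.pCoreOf_normal
  set K₁ := rP p (weakClosure Q (H₁ ⊔ Q)) with hK₁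
  have hKQ : ⁅K₁, Q⁆ = K₁ := h.hQ.commutator_residual le_sup_right
  have hn₁ : H₁ ≤ normalizer ((K₁ : Subgroup G) : Set G) := h.le_normalizer_residual_of_sup
  have hQn : Q ≤ normalizer ((K₁ : Subgroup G) : Set G) := fun _ hx =>
    normalizes_rP (le_normalizer_weakClosure _ ((le_sup_right : Q ≤ H₁ ⊔ Q) hx))
  have hN3 : ⁅K₁, H₁⁆ ≤ K₁ := Cfsg.Agent.Lib.Coprime.Coset.commutator_le_left_of_le_normalizer hn₁
  have hKn : K₁ ≤ normalizer ((⁅K₁, H₁⁆ : Subgroup G) : Set G) :=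
    Cfsg.Agent.Lib.Coprime.Coset.commutator_le_normalizer_left hn₁
  have hle : K₁ ≤ ⁅K₁, H₁⁆ ⊔ (K₁ ⊓ pCoreOf p Hc) := by
    conv_lhs => rw [← hKQ]
    rw [commutator_le]
    intro k hk q hq
    have hq1 : q ∈ ((H₁ ⊔ H₂ : Subgroup G) : Set G) := by
      rw [h.hprod]; exact h.le_Hc hq
    rw [Subgroup.coe_mul_of_left_le_normalizer_right H₁ H₂ (h.hn₁.1.trans h.hn₂.2)] at hq1
    obtain ⟨a, ha, b, hb, rfl⟩ := Set.mem_mul.mp hq1
    have e : ⁅k, a * b⁆ = ⁅k, a⁆ * (a * ⁅k, b⁆ * a⁻¹) := by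
      simp only [commutatorElement_def]; group
    have h1 : ⁅k, a⁆ ∈ ⁅K₁, H₁⁆ := commutator_mem_commutator hk ha
    have h2 : a * ⁅k, b⁆ * a⁻¹ ∈ pCoreOf p Hc :=
      hO.conj_mem _ (h.comm_residual_le (commutator_mem_commutator hk hb)) a
    have h3 : ⁅k, a * b⁆ ∈ K₁ := by
      have := commutator_mem_commutator hk hq
      rw [hKQ] at this
      exact this
    have h4 : a * ⁅k, b⁆ * a⁻¹ ∈ K₁ := by
      have e2 : a * ⁅k, b⁆ * a⁻¹ = ⁅k, a⁆⁻¹ * ⁅k, a * b⁆ := by rw [e]; group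
      rw [e2]
      exact K₁.mul_mem (K₁.inv_mem (hN3 h1)) h3
    rw [e]
    exact mul_mem ((le_sup_left : ⁅K₁, H₁⁆ ≤ _) h1) ((le_sup_right : K₁ ⊓ pCoreOf p Hc ≤ _)
      (mem_inf.mpr ⟨h4, h2⟩))
  have hD : IsPGroup p ↥(K₁ ⊓ pCoreOf p Hc) := (pCoreOf_isPGroup Hc).to_le inf_le_right
  have h5 := rP_le_of_le_sup hD (inf_le_left.trans hKn) hle
  rw [hK₁, rP_rP, ← hK₁] at h5
  exact h5

theorem H₂_le_normalizer (h : Fac p Q Hc H₁ H₂) :
    H₂ ≤ normalizer ((rP p (weakClosure Q (H₁ ⊔ Q)) : Subgroup G) : Set G) := by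
  set W := weakClosure Q (H₁ ⊔ Q) with hW
  set K₁ := rP p W with hK₁
  have hKH : K₁ ≤ H₁ := h.residual_le
  set D := ⁅K₁, H₂⁆ with hD
  have hDp : IsPGroup p ↥D := (pCoreOf_isPGroup Hc).to_le h.comm_residual_le
  have hDC : D ≤ ⁅H₁, H₂⁆ := Subgroup.commutator_mono hKH le_rfl
  have hDn : D ≤ normalizer ((K₁ : Subgroup G) : Set G) := fun _ hx =>
    normalizes_rP (h.comm_le_normalizer_weakClosure _ (hDC hx))
  intro z hz
  apply Cfsg.Agent.Lib.Coprime.Three.mem_normalizer_of_conj_mem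
  have h1 : K₁ ≤ K₁.comap (MulAut.conj z).toMonoidHom := by
    conv_lhs => rw [hK₁, rP_eq_closure]
    rw [closure_le]
    rintro x ⟨hx, hc⟩
    have hxK : x ∈ K₁ := mem_rP hx hc
    show z * x * z⁻¹ ∈ K₁
    have e : z * x * z⁻¹ = x * ⁅x⁻¹, z⁆ := by
      simp only [commutatorElement_def]; group
    have h2 : ⁅x⁻¹, z⁆ ∈ D := commutator_mem_commutator (K₁.inv_mem hxK) hz
    have h3 : z * x * z⁻¹ ∈ K₁ ⊔ D := by
      rw [e]
      exact mul_mem ((le_sup_left : K₁ ≤ K₁ ⊔ D) hxK) ((le_sup_right : D ≤ K₁ ⊔ D) h2)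
    refine mem_of_coprime_mem_sup hDp hDn h3 ?_
    rw [Cfsg.Agent.Lib.Transfer.Basic.orderOf_conj_eq]
    exact hc
  intro v hv
  exact h1 hv

theorem Hc_le_normalizer (h : Fac p Q Hc H₁ H₂) :
    Hc ≤ normalizer ((rP p (weakClosure Q (H₁ ⊔ Q)) : Subgroup G) : Set G) := by
  rw [← h.hprod]
  exact sup_le h.le_normalizer_residual_of_sup h.H₂_le_normalizer

theorem cj_le_weakClosure (h : Fac p Q Hc H₁ H₂) {g : G} (hg : g ∈ H₁) :
    cj g Q ≤ rP p (weakClosure Q (H₁ ⊔ Q)) ⊔ Q := by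
  rw [h.hQ.residual_sup le_sup_right]
  apply le_weakClosure
  rintro _ ⟨q, hq, rfl⟩
  show g * q * g⁻¹ ∈ H₁ ⊔ Q
  have e : g * q * g⁻¹ = (g * (q * g⁻¹ * q⁻¹)) * q := by group
  rw [e]
  refine mul_mem ((le_sup_left : H₁ ≤ H₁ ⊔ Q) (H₁.mul_mem hg ?_)) ((le_sup_right : Q ≤ H₁ ⊔ Q) hq)
  exact (mem_normalizer_iff.mp (h.hn₁.2 (h.le_Hc hq)) _).mp (H₁.inv_mem hg)

theorem main (h : Fac p Q Hc H₁ H₂) :
    (⁅rP p (weakClosure Q (H₁ ⊔ Q)), Q⁆ = rP p (weakClosure Q (H₁ ⊔ Q)) ∧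
      ⁅rP p (weakClosure Q (H₁ ⊔ Q)), H₁⁆ = rP p (weakClosure Q (H₁ ⊔ Q)) ∧
      rP p (weakClosure Q (H₁ ⊔ Q)) ≤ ⁅H₁, H₁⁆ ∧
      Hc ≤ normalizer ((rP p (weakClosure Q (H₁ ⊔ Q)) : Subgroup G) : Set G)) ∧
    (⁅rP p (weakClosure Q (H₂ ⊔ Q)), Q⁆ = rP p (weakClosure Q (H₂ ⊔ Q)) ∧
      ⁅rP p (weakClosure Q (H₂ ⊔ Q)), H₂⁆ = rP p (weakClosure Q (H₂ ⊔ Q)) ∧
      rP p (weakClosure Q (H₂ ⊔ Q)) ≤ ⁅H₂, H₂⁆ ∧
      Hc ≤ normalizer ((rP p (weakClosure Q (H₂ ⊔ Q)) : Subgroup G) : Set G)) ∧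
    rP p (weakClosure Q (H₁ ⊔ Q)) ⊔ rP p (weakClosure Q (H₂ ⊔ Q)) = rP p Hc ∧
    ⁅rP p (weakClosure Q (H₁ ⊔ Q)), rP p (weakClosure Q (H₂ ⊔ Q))⁆ ≤ pCoreOf p Hc := by
  have side : ∀ {H₁ H₂ : Subgroup G}, Fac p Q Hc H₁ H₂ →
      (⁅rP p (weakClosure Q (H₁ ⊔ Q)), Q⁆ = rP p (weakClosure Q (H₁ ⊔ Q)) ∧
      ⁅rP p (weakClosure Q (H₁ ⊔ Q)), H₁⁆ = rP p (weakClosure Q (H₁ ⊔ Q)) ∧
      rP p (weakClosure Q (H₁ ⊔ Q)) ≤ ⁅H₁, H₁⁆ ∧
      Hc ≤ normalizer ((rP p (weakClosure Q (H₁ ⊔ Q)) : Subgroup G) : Set G)) := by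
    intro H₁ H₂ h
    have h1 := h.le_comm_residual
    have h2 : ⁅rP p (weakClosure Q (H₁ ⊔ Q)), H₁⁆ ≤ rP p (weakClosure Q (H₁ ⊔ Q)) :=
      Cfsg.Agent.Lib.Coprime.Coset.commutator_le_left_of_le_normalizer h.le_normalizer_residual_of_sup
    refine ⟨h.hQ.commutator_residual le_sup_right, le_antisymm h2 h1, ?_, h.Hc_le_normalizer⟩
    exact h1.trans (Subgroup.commutator_mono h.residual_le le_rfl)
  refine ⟨side h, side h.symm, ?_, ?_⟩
  · set K₁ := rP p (weakClosure Q (H₁ ⊔ Q)) with hK₁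
    set K₂ := rP p (weakClosure Q (H₂ ⊔ Q)) with hK₂
    have hQHc := h.le_Hc
    have hsupHc : ∀ {H : Subgroup G}, H ≤ Hc → rP p (weakClosure Q (H ⊔ Q)) ≤ rP p Hc := by
      intro H hH
      conv_lhs => rw [rP_eq_closure]
      rw [closure_le]
      rintro x ⟨hx, hc⟩
      exact mem_rP ((weakClosure_le_self _).trans (sup_le hH hQHc) hx) hc
    apply le_antisymm (sup_le (hsupHc h.hn₁.1) (hsupHc h.hn₂.1))
    have hK₁n := h.Hc_le_normalizer
    have hK₂n := h.symm.Hc_le_normalizer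
    have hKn : Hc ≤ normalizer ((K₁ ⊔ K₂ : Subgroup G) : Set G) := by
      intro g hg
      apply Cfsg.Agent.Lib.Coprime.Three.mem_normalizer_of_conj_mem
      have h1 : K₁ ⊔ K₂ ≤ (K₁ ⊔ K₂).comap (MulAut.conj g).toMonoidHom := by
        refine sup_le ?_ ?_
        · intro k hk
          exact (le_sup_left : K₁ ≤ K₁ ⊔ K₂) ((mem_normalizer_iff.mp (hK₁n hg) k).mp hk)
        · intro k hk
          exact (le_sup_right : K₂ ≤ K₁ ⊔ K₂) ((mem_normalizer_iff.mp (hK₂n hg) k).mp hk)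
      intro v hv
      exact h1 hv
    have hY : (K₁ ⊔ K₂) ⊔ Q = Hc := by
      rw [h.hHc]
      refine h.hQ.eq_weakClosure le_top le_sup_right ?_ ?_
      · rw [← h.hHc]
        exact sup_le (sup_le ((hsupHc h.hn₁.1).trans (rP_le _)) ((hsupHc h.hn₂.1).trans (rP_le _))) hQHc
      · rw [← h.hHc, ← h.hprod]
        have key : ∀ {H H' : Subgroup G}, Fac p Q Hc H H' →
            rP p (weakClosure Q (H ⊔ Q)) ≤ K₁ ⊔ K₂ → H ≤ normalizer (((K₁ ⊔ K₂) ⊔ Q : Subgroup G) : Set G) := by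
          intro H H' hf hle g hg
          apply Cfsg.Agent.Lib.Coprime.Three.mem_normalizer_of_conj_mem
          have h1 : (K₁ ⊔ K₂) ⊔ Q ≤ ((K₁ ⊔ K₂) ⊔ Q).comap (MulAut.conj g).toMonoidHom := by
            refine sup_le ?_ ?_
            · intro k hk
              exact (le_sup_left : K₁ ⊔ K₂ ≤ (K₁ ⊔ K₂) ⊔ Q)
                ((mem_normalizer_iff.mp (hKn (hf.hn₁.1 hg)) k).mp hk)
            · intro q hq
              have h2 := hf.cj_le_weakClosure hg (⟨q, hq, rfl⟩ : g * q * g⁻¹ ∈ cj g Q)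
              exact (sup_le_sup_right hle Q) h2
          intro v hv
          exact h1 hv
        exact sup_le (key h le_sup_left) (key h.symm le_sup_right)
    exact rP_le_of_le_sup h.hQ.hQp (hQHc.trans hKn) hY.ge
  · refine (Subgroup.commutator_mono le_rfl h.symm.residual_le).trans h.comm_residual_le

end Fac

end Main

end Cfsg.Agent.Lib.Components.WeakFact
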