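import Mathlib
import Cfsg.Prelude.Def_LocalStructure
import Cfsg.Agent.Lib.Components.WeakFact

/-!
# `p`-minimal groups from transitive families
-/

set_option autoImplicit false
set_option linter.unusedSectionVars false
set_option linter.style.haveILetI false
open Cfsg

namespace Cfsg.Agent.Lib.Components.PMinFamily

open Subgroup Cfsg.Agent.Lib.Components.PMinimal Cfsg.Agent.Lib.Components.IsolatedMin
  Cfsg.Agent.Lib.Components.IsolatedMin2 Cfsg.Agent.Lib.Components.WeakFact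
open scoped commutatorElement Pointwise

variable {H : Type*} [Group H] [Finite H] {p : ℕ} [Fact p.Prime]

theorem sn_step {X A : Subgroup H} (hXA : X ≤ A) (hn : A ≤ normalizer (X : Set H))
    (hA : A.IsSubnormal) : X.IsSubnormal := by
  refine IsSubnormal.step X A hXA hA ?_
  constructor
  intro x hx g
  rw [mem_subgroupOf] at hx ⊢
  exact (mem_normalizer_iff.mp (hn g.2) _).mp hx

/-- A family of subgroups. -/
structure Fam (p : ℕ) (𝒦 : Set (Subgroup H)) : Prop where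
  hne : 𝒦.Nonempty
  hinv : ∀ h : H, ∀ E ∈ 𝒦, E.map (MulAut.conj h).toMonoidHom ∈ 𝒦
  htr : ∀ E ∈ 𝒦, ∀ K ∈ 𝒦, ∃ h : H, K = E.map (MulAut.conj h).toMonoidHom
  hres : pResidual p H ≤ sSup 𝒦
  hnorm : ∀ E ∈ 𝒦, sSup 𝒦 ⊔ pCore p H ≤ normalizer ((E ⊔ pCore p H : Subgroup H) : Set H)

/-- The join of the conjugates of `V` inside `A`. -/
abbrev mm (V A : Subgroup H) : Subgroup H := sSup {W | V ≤ W ∧ W ≤ A ∧ W ≠ A}

theorem cj_mm_le (g : H) (V A : Subgroup H) : cj g (mm V A) ≤ mm (cj g V) (cj g A) := by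
  rw [Subgroup.map_le_iff_le_comap]
  refine sSup_le ?_
  rintro W ⟨h1, h2, h3⟩ x hx
  have h4 : cj g W ∈ {W' | cj g V ≤ W' ∧ W' ≤ cj g A ∧ W' ≠ cj g A} := by
    refine ⟨map_mono h1, map_mono h2, ?_⟩
    intro hc
    apply h3
    rw [← cj_inv_cj g W, hc, cj_inv_cj]
  exact (le_sSup h4 : cj g W ≤ mm (cj g V) (cj g A)) ⟨x, hx, rfl⟩

theorem cj_mm (g : H) (V A : Subgroup H) : cj g (mm V A) = mm (cj g V) (cj g A) := by
  apply le_antisymm (cj_mm_le g V A)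
  have h1 := cj_mm_le g⁻¹ (cj g V) (cj g A)
  rw [cj_inv_cj, cj_inv_cj] at h1
  have h2 : cj g (cj g⁻¹ (mm (cj g V) (cj g A))) ≤ cj g (mm V A) := map_mono h1
  rwa [cj_cj_inv] at h2

theorem mem_normalizer_of_cj_eq {g : H} {A : Subgroup H} (h : cj g A = A) :
    g ∈ normalizer (A : Set H) := by
  apply Cfsg.Agent.Lib.Coprime.Three.mem_normalizer_of_conj_mem
  intro v hv
  have : g * v * g⁻¹ ∈ cj g A := ⟨v, hv, rfl⟩
  rwa [h] at this

theorem mem_normalizer_mm {g : H} {V A : Subgroup H} (hV : cj g V = V) (hA : cj g A = A) :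
    g ∈ normalizer ((mm V A : Subgroup H) : Set H) := by
  apply mem_normalizer_of_cj_eq
  rw [cj_mm, hV, hA]

theorem cj_sup (g : H) (A B : Subgroup H) : cj g (A ⊔ B) = cj g A ⊔ cj g B := Subgroup.map_sup _ _ _

theorem cj_inf (g : H) (A B : Subgroup H) : cj g (A ⊓ B) = cj g A ⊓ cj g B := by
  ext x
  rw [mem_cj, mem_inf, mem_inf, mem_cj, mem_cj]

theorem cj_normal (g : H) {N : Subgroup H} (hN : N.Normal) : cj g N = N :=
  cj_eq_of_mem_normalizer (by rw [normalizer_eq_top_iff.mpr hN]; trivial)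

theorem card_cj (g : H) (A : Subgroup H) : Nat.card ↥(cj g A) = Nat.card ↥A :=
  Nat.card_congr (A.equivMapOfInjective _ (MulAut.conj g).injective).symm.toEquiv

namespace Fam

variable {𝒦 : Set (Subgroup H)}

theorem R_normal (h : Fam p 𝒦) : (sSup 𝒦).Normal :=
  sSup_stable_normal fun K hK g => h.hinv g K hK

theorem RO_normal (h : Fam p 𝒦) : (sSup 𝒦 ⊔ pCore p H).Normal := by
  haveI := h.R_normal
  haveI := Cfsg.Agent.Lib.Nilpotent.Fitting.pCore_normal p (G := H)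
  infer_instance

theorem sylow_sup (h : Fam p 𝒦) (T : Sylow p H) : (T : Subgroup H) ⊔ sSup 𝒦 = ⊤ := by
  rw [eq_top_iff, ← pResidual_sup_sylow T]
  exact sup_le_sup_left h.hres _

theorem le_R (_h : Fam p 𝒦) {E : Subgroup H} (hE : E ∈ 𝒦) : E ≤ sSup 𝒦 := le_sSup hE

theorem O_le (T : Sylow p H) : pCore p H ≤ T := Cfsg.Agent.Lib.Basic.PCore.pCore_le_sylow T

theorem EO_le (h : Fam p 𝒦) {E : Subgroup H} (hE : E ∈ 𝒦) : E ⊔ pCore p H ≤ sSup 𝒦 ⊔ pCore p H :=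
  sup_le_sup_right (h.le_R hE) _

theorem EO_subnormal (h : Fam p 𝒦) {E : Subgroup H} (hE : E ∈ 𝒦) :
    (E ⊔ pCore p H).IsSubnormal :=
  sn_step (h.EO_le hE) (h.hnorm E hE) h.RO_normal.isSubnormal

theorem not_dvd_relIndex (h : Fam p 𝒦) (T : Sylow p H) {E : Subgroup H} (hE : E ∈ 𝒦) :
    ¬ p ∣ ((T : Subgroup H) ⊓ (E ⊔ pCore p H)).relIndex (E ⊔ pCore p H) := by
  have h1 : ¬ p ∣ ((T : Subgroup H) ⊓ (sSup 𝒦 ⊔ pCore p H)).relIndex (sSup 𝒦 ⊔ pCore p H) := by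
    refine coprime_relIndex_inf (G₁ := ⊤) le_top le_top
      (Ab.normal_le_normalizer h.RO_normal _) ?_
    rw [Subgroup.relIndex_top_right]
    exact T.not_dvd_index
  have h2 := coprime_relIndex_inf (p := p) (N := E ⊔ pCore p H)
    (A := (T : Subgroup H) ⊓ (sSup 𝒦 ⊔ pCore p H)) (G₁ := sSup 𝒦 ⊔ pCore p H) (h.EO_le hE) inf_le_right
    (inf_le_right.trans (h.hnorm E hE)) h1
  have e : (T : Subgroup H) ⊓ (sSup 𝒦 ⊔ pCore p H) ⊓ (E ⊔ pCore p H) = (T : Subgroup H) ⊓ (E ⊔ pCore p H) := by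
    rw [inf_assoc, inf_eq_right.mpr (h.EO_le hE)]
  rwa [e] at h2

/-- A `p`-subgroup of `EO` over `T ∩ EO` lies in `T`. -/
theorem le_of_isPGroup (h : Fam p 𝒦) (T : Sylow p H) {E W : Subgroup H} (hE : E ∈ 𝒦)
    (hW : IsPGroup p W) (h1 : (T : Subgroup H) ⊓ (E ⊔ pCore p H) ≤ W) (h2 : W ≤ E ⊔ pCore p H) :
    W ≤ T := by
  have h3 := Subgroup.relIndex_mul_relIndex ((T : Subgroup H) ⊓ (E ⊔ pCore p H)) W (E ⊔ pCore p H) h1 h2
  have h4 : ¬ p ∣ ((T : Subgroup H) ⊓ (E ⊔ pCore p H)).relIndex W := by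
    intro hd
    apply h.not_dvd_relIndex T hE
    rw [← h3]
    exact hd.trans (Dvd.intro _ rfl)
  obtain ⟨n, hn⟩ := hW.index (((T : Subgroup H) ⊓ (E ⊔ pCore p H)).subgroupOf W)
  have h5 : ((T : Subgroup H) ⊓ (E ⊔ pCore p H)).relIndex W = 1 := by
    rw [Subgroup.relIndex, hn] at h4 ⊢
    rcases n with _ | n
    · simp
    · exact absurd (dvd_pow_self p n.succ_ne_zero) h4
  rw [Subgroup.relIndex_eq_one] at h5
  exact h5.trans inf_le_left

theorem mem_sup_O {A : Subgroup H} {x : H} :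
    x ∈ A ⊔ pCore p H ↔ ∃ a ∈ A, ∃ o ∈ pCore p H, a * o = x := by
  haveI := Cfsg.Agent.Lib.Nilpotent.Fitting.pCore_normal p (G := H)
  rw [← SetLike.mem_coe, Subgroup.mul_normal, Set.mem_mul]
  rfl

theorem T_isPGroup_subgroupOf (T : Sylow p H) (E : Subgroup H) :
    IsPGroup p ↥((T : Subgroup H).subgroupOf E) :=
  IsPGroup.comap_of_injective T.2 E.subtype E.subtype_injective

theorem O_isPGroup : IsPGroup p ↥(pCore p H) := Cfsg.Agent.Lib.Basic.PCore.pCore_isPGroup p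

/-- `T ∩ E` is a Sylow subgroup of `E`. -/
theorem exists_sylow_eq (h : Fam p 𝒦) (T : Sylow p H) {E : Subgroup H} (hE : E ∈ 𝒦) :
    ∃ T₁ : Sylow p ↥E, (T₁ : Subgroup ↥E) = (T : Subgroup H).subgroupOf E := by
  haveI := Cfsg.Agent.Lib.Nilpotent.Fitting.pCore_normal p (G := H)
  obtain ⟨T₁, hT₁⟩ := (T_isPGroup_subgroupOf T E).exists_le_sylow
  refine ⟨T₁, le_antisymm ?_ hT₁⟩
  have hW : IsPGroup p ↥((T₁ : Subgroup ↥E).map E.subtype ⊔ pCore p H) :=
    IsPGroup.to_sup_of_normal_right (T₁.2.map _) O_isPGroup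
  have h1 : (T : Subgroup H) ⊓ (E ⊔ pCore p H) ≤ (T₁ : Subgroup ↥E).map E.subtype ⊔ pCore p H := by
    rintro x ⟨hx1, hx2⟩
    obtain ⟨e, he, o, ho, rfl⟩ := mem_sup_O.mp hx2
    have h3 : e ∈ (T : Subgroup H) := by
      have : e = e * o * o⁻¹ := by group
      rw [this]
      exact mul_mem hx1 (inv_mem (O_le T ho))
    refine mul_mem (mem_sup_left ?_) (mem_sup_right ho)
    exact ⟨⟨e, he⟩, hT₁ (mem_subgroupOf.mpr h3), rfl⟩
  have h2 : (T₁ : Subgroup ↥E).map E.subtype ⊔ pCore p H ≤ E ⊔ pCore p H :=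
    sup_le_sup_right (map_subtype_le _) _
  have h3 := h.le_of_isPGroup T hE hW h1 h2
  intro x hx
  rw [mem_subgroupOf]
  exact h3 (mem_sup_left ⟨x, hx, rfl⟩)

/-- `V` is a proper subgroup of `A`. -/
theorem inf_ne_of_min (h : Fam p 𝒦) (T : Sylow p H) {E : Subgroup H} (hE : E ∈ 𝒦)
    (hmin : ∀ T : Sylow p ↥E, IsMinimalOver (T : Subgroup ↥E)) :
    (T : Subgroup H) ⊓ (E ⊔ pCore p H) ≠ E ⊔ pCore p H := by
  intro he
  obtain ⟨T₁, hT₁⟩ := h.exists_sylow_eq T hE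
  obtain ⟨M, ⟨hM1, hM2⟩, -⟩ := (hmin T₁).2
  apply hM1.1
  rw [eq_top_iff]
  refine le_trans ?_ hM2
  rw [hT₁]
  intro x _
  rw [mem_subgroupOf]
  have : (x : H) ∈ (T : Subgroup H) ⊓ (E ⊔ pCore p H) := by
    rw [he]
    exact mem_sup_left x.2
  exact this.1

/-- The join of the proper subgroups of `A` over `V` is proper. -/
theorem mm_ne (h : Fam p 𝒦) (T : Sylow p H) {E : Subgroup H} (hE : E ∈ 𝒦)
    (hmin : ∀ T : Sylow p ↥E, IsMinimalOver (T : Subgroup ↥E)) :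
    mm ((T : Subgroup H) ⊓ (E ⊔ pCore p H)) (E ⊔ pCore p H) ≠ E ⊔ pCore p H := by
  obtain ⟨T₁, hT₁⟩ := h.exists_sylow_eq T hE
  obtain ⟨M, ⟨hM1, hM2⟩, hMu⟩ := (hmin T₁).2
  have hle : mm ((T : Subgroup H) ⊓ (E ⊔ pCore p H)) (E ⊔ pCore p H) ≤ M.map E.subtype ⊔ pCore p H := by
    refine sSup_le ?_
    rintro W ⟨h1, h2, h3⟩ x hx
    obtain ⟨e, he, o, ho, rfl⟩ := mem_sup_O.mp (h2 hx)
    have hoW : o ∈ W := h1 ⟨O_le T ho, mem_sup_right ho⟩
    have heW : e ∈ W := by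
      have : e = e * o * o⁻¹ := by group
      rw [this]
      exact mul_mem hx (inv_mem hoW)
    refine mul_mem (mem_sup_left ?_) (mem_sup_right ho)
    have hW' : W.subgroupOf E ≠ ⊤ := by
      intro ht
      apply h3
      refine le_antisymm h2 (sup_le ?_ ?_)
      · intro y hy
        have : (⟨y, hy⟩ : ↥E) ∈ W.subgroupOf E := by rw [ht]; trivial
        exact mem_subgroupOf.mp this
      · intro y hy
        exact h1 ⟨O_le T hy, mem_sup_right hy⟩
    obtain (ht | ⟨M', hM', hle'⟩) := eq_top_or_exists_le_coatom (W.subgroupOf E)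
    · exact absurd ht hW'
    · have hM'e : M' = M := by
        refine hMu M' ⟨hM', le_trans ?_ hle'⟩
        rw [hT₁]
        intro y hy
        rw [mem_subgroupOf] at hy ⊢
        exact h1 ⟨hy, mem_sup_left y.2⟩
      refine ⟨⟨e, he⟩, ?_, rfl⟩
      rw [← hM'e]
      exact hle' (mem_subgroupOf.mpr heW)
  intro he
  apply hM1.1
  rw [eq_top_iff]
  intro y _
  have hy : (y : H) ∈ E ⊔ pCore p H := mem_sup_left y.2
  rw [← he] at hy
  obtain ⟨m, hm, o, ho, hmo⟩ := mem_sup_O.mp (hle hy)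
  obtain ⟨m', hm', rfl⟩ := hm
  have ho' : o ∈ E := by
    have : o = (m' : H)⁻¹ * y := by rw [← hmo]; simp
    rw [this]
    exact mul_mem (inv_mem m'.2) y.2
  have ho'' : (⟨o, ho'⟩ : ↥E) ∈ M := by
    apply hM2
    rw [hT₁, mem_subgroupOf]
    exact O_le T ho
  have : y = m' * ⟨o, ho'⟩ := by
    ext
    simpa using hmo.symm
  rw [this]
  exact mul_mem hm' ho''

/-- The subgroup `D`. -/
def DD (p : ℕ) (𝒦 : Set (Subgroup H)) (T : Subgroup H) : Subgroup H :=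
  (sSup 𝒦 ⊔ pCore p H) ⊓ ⨅ E ∈ 𝒦, normalizer
    ((mm (T ⊓ (E ⊔ pCore p H)) (E ⊔ pCore p H) : Subgroup H) : Set H)

theorem mem_DD {T : Subgroup H} {x : H} : x ∈ DD p 𝒦 T ↔ x ∈ sSup 𝒦 ⊔ pCore p H ∧
    ∀ E ∈ 𝒦, x ∈ normalizer ((mm (T ⊓ (E ⊔ pCore p H)) (E ⊔ pCore p H) : Subgroup H) : Set H) := by
  simp only [DD, mem_inf, mem_iInf]

theorem DD_le {T : Subgroup H} : DD p 𝒦 T ≤ sSup 𝒦 ⊔ pCore p H := inf_le_left

theorem cj_O (g : H) : cj g (pCore p H) = pCore p H :=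
  cj_normal g (Cfsg.Agent.Lib.Nilpotent.Fitting.pCore_normal p (G := H))

theorem cj_JJ {T : Subgroup H} {t : H} (ht : t ∈ T) (E : Subgroup H) :
    cj t (mm (T ⊓ (E ⊔ pCore p H)) (E ⊔ pCore p H)) =
      mm (T ⊓ (cj t E ⊔ pCore p H)) (cj t E ⊔ pCore p H) := by
  have hT : cj t T = T := cj_eq_of_mem_normalizer (le_normalizer ht)
  rw [cj_mm, cj_inf, cj_sup, cj_O, hT]

theorem sylow_normalizes_DD (h : Fam p 𝒦) {T : Subgroup H} :
    T ≤ normalizer ((DD p 𝒦 T : Subgroup H) : Set H) := by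
  intro t ht
  apply Cfsg.Agent.Lib.Coprime.Three.mem_normalizer_of_conj_mem
  intro x hx
  rw [mem_DD] at hx ⊢
  refine ⟨h.RO_normal.conj_mem _ hx.1 _, fun E hE => ?_⟩
  have h1 := hx.2 _ (h.hinv t⁻¹ E hE)
  have h2 := cj_JJ (p := p) (inv_mem ht) E
  rw [← h2] at h1
  apply mem_normalizer_of_cj_eq
  have h3 := cj_eq_of_mem_normalizer h1
  calc cj (t * x * t⁻¹) (mm (T ⊓ (E ⊔ pCore p H)) (E ⊔ pCore p H))
      = cj t (cj x (cj t⁻¹ (mm (T ⊓ (E ⊔ pCore p H)) (E ⊔ pCore p H)))) := by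
        rw [cj_mul', cj_mul']
    _ = _ := by rw [h3, cj_cj_inv]

theorem inf_le_DD (h : Fam p 𝒦) {T : Subgroup H} : T ⊓ (sSup 𝒦 ⊔ pCore p H) ≤ DD p 𝒦 T := by
  rintro x ⟨hx1, hx2⟩
  rw [mem_DD]
  refine ⟨hx2, fun E hE => ?_⟩
  have h1 : cj x (E ⊔ pCore p H) = E ⊔ pCore p H := cj_eq_of_mem_normalizer (h.hnorm E hE hx2)
  have h2 : cj x T = T := cj_eq_of_mem_normalizer (le_normalizer hx1)
  exact mem_normalizer_mm (by rw [cj_inf, h1, h2]) h1

/-- Sylow conjugacy for `p`-subgroups of `Y` of `p'`-index. -/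
theorem exists_conj_of_card {Y V V' : Subgroup H} (h1 : V ≤ Y) (h2 : V' ≤ Y) (hV : IsPGroup p V)
    (hV' : IsPGroup p V') (hi : ¬ p ∣ V.relIndex Y) (hc : Nat.card V' = Nat.card V) :
    ∃ y ∈ Y, V' = cj y V := by
  have a1 : IsPGroup p ↥(V.subgroupOf Y) := IsPGroup.comap_of_injective hV Y.subtype Y.subtype_injective
  have a2 : IsPGroup p ↥(V'.subgroupOf Y) := IsPGroup.comap_of_injective hV' Y.subtype Y.subtype_injective
  have c1 : Nat.card ↥(V.subgroupOf Y) = Nat.card V := by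
    rw [Nat.card_congr (subgroupOfEquivOfLe h1).toEquiv]
  have c2 : Nat.card ↥(V'.subgroupOf Y) = Nat.card V' := by
    rw [Nat.card_congr (subgroupOfEquivOfLe h2).toEquiv]
  have i1 : ¬ p ∣ (V.subgroupOf Y).index := hi
  have i2 : ¬ p ∣ (V'.subgroupOf Y).index := by
    have e1 := (V.subgroupOf Y).card_mul_index
    have e2 := (V'.subgroupOf Y).card_mul_index
    rw [c1] at e1
    rw [c2, hc] at e2
    have hpos : 0 < Nat.card V := Nat.card_pos
    have : (V.subgroupOf Y).index = (V'.subgroupOf Y).index :=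
      Nat.eq_of_mul_eq_mul_left hpos (e1.trans e2.symm)
    rwa [← this]
  let P : Sylow p ↥Y := a1.toSylow i1
  let P' : Sylow p ↥Y := a2.toSylow i2
  obtain ⟨y, hy⟩ := MulAction.exists_smul_eq Y P P'
  refine ⟨y, y.2, ?_⟩
  have hP : (P : Subgroup ↥Y) = V.subgroupOf Y := rfl
  have hP' : (P' : Subgroup ↥Y) = V'.subgroupOf Y := rfl
  have e : V'.subgroupOf Y = (V.subgroupOf Y).map (MulAut.conj y).toMonoidHom := by
    rw [← hP', ← hy, Sylow.coe_subgroup_smul, hP]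
    rfl
  ext x
  constructor
  · intro hx
    have hx' : (⟨x, h2 hx⟩ : ↥Y) ∈ V'.subgroupOf Y := mem_subgroupOf.mpr hx
    rw [e] at hx'
    obtain ⟨z, hz, hzx⟩ := hx'
    refine ⟨z, mem_subgroupOf.mp hz, ?_⟩
    have := congrArg Subtype.val hzx
    simpa using this
  · rintro ⟨v, hv, rfl⟩
    have hv' : (⟨v, h1 hv⟩ : ↥Y) ∈ V.subgroupOf Y := mem_subgroupOf.mpr hv
    have : MulAut.conj y (⟨v, h1 hv⟩ : ↥Y) ∈ V'.subgroupOf Y := by
      rw [e]
      exact ⟨_, hv', rfl⟩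
    exact mem_subgroupOf.mp this

/-- No member of `𝒦` lies in a proper overgroup of `T`. -/
theorem not_le_of_ne_top (h : Fam p 𝒦) (T : Sylow p H) {U : Subgroup H}
    (hTU : (T : Subgroup H) ≤ U) (hU : U ≠ ⊤) {E : Subgroup H} (hE : E ∈ 𝒦) : ¬ E ≤ U := by
  haveI := h.R_normal
  intro hEU
  apply hU
  rw [eq_top_iff, ← h.sylow_sup T]
  refine sup_le hTU (sSup_le fun K hK => ?_)
  obtain ⟨g, rfl⟩ := h.htr E hE K hK
  have hgt : g ∈ (T : Subgroup H) ⊔ sSup 𝒦 := by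
    rw [h.sylow_sup T]
    trivial
  rw [sup_comm] at hgt
  rw [← SetLike.mem_coe, Subgroup.normal_mul, Set.mem_mul] at hgt
  obtain ⟨r, hr, t, ht, rfl⟩ := hgt
  have hE' := h.hinv t E hE
  have h1 : cj r (cj t E ⊔ pCore p H) = cj t E ⊔ pCore p H :=
    cj_eq_of_mem_normalizer (h.hnorm _ hE' (mem_sup_left hr))
  intro x hx
  change x ∈ cj (r * t) E at hx
  rw [cj_mul'] at hx
  have h2 : x ∈ cj r (cj t E ⊔ pCore p H) :=
    (map_mono (f := (MulAut.conj r).toMonoidHom) (le_sup_left : cj t E ≤ cj t E ⊔ pCore p H)) hx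
  rw [h1] at h2
  have h3 : cj t E ≤ U := by
    rw [Subgroup.map_le_iff_le_comap]
    intro z hz
    exact mul_mem (mul_mem (hTU ht) (hEU hz)) (inv_mem (hTU ht))
  exact (sup_le h3 ((O_le T).trans hTU)) h2

/-- `U ∩ (R O) ≤ D`. -/
theorem inf_le_DD' (h : Fam p 𝒦) (T : Sylow p H) {U : Subgroup H}
    (hTU : (T : Subgroup H) ≤ U) (hU : U ≠ ⊤) : U ⊓ (sSup 𝒦 ⊔ pCore p H) ≤ DD p 𝒦 T := by
  rintro x ⟨hxU, hxR⟩
  rw [mem_DD]
  refine ⟨hxR, fun E hE => ?_⟩
  set A := E ⊔ pCore p H with hA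
  set V := (T : Subgroup H) ⊓ A with hV
  have hxA : cj x A = A := cj_eq_of_mem_normalizer (h.hnorm E hE hxR)
  have hxUU : cj x U = U := cj_eq_of_mem_normalizer (le_normalizer hxU)
  have hYne : U ⊓ A ≠ A := by
    intro he
    apply h.not_le_of_ne_top T hTU hU hE
    have : E ≤ A := le_sup_left
    rw [← he] at this
    exact this.trans inf_le_left
  have hVY : V ≤ U ⊓ A := inf_le_inf_right _ hTU
  have hYJ : U ⊓ A ≤ mm V A := le_sSup ⟨hVY, inf_le_right, hYne⟩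
  have hxY : cj x (U ⊓ A) = U ⊓ A := by rw [cj_inf, hxA, hxUU]
  have hVp : IsPGroup p V := T.2.to_le inf_le_left
  have hcj : cj x V ≤ U ⊓ A := by
    rw [← hxY]
    exact map_mono hVY
  have hVp' : IsPGroup p ↥(cj x V) := hVp.map _
  have hi : ¬ p ∣ V.relIndex (U ⊓ A) := by
    intro hd
    apply h.not_dvd_relIndex T hE
    rw [← Subgroup.relIndex_mul_relIndex V (U ⊓ A) A hVY inf_le_right]
    exact hd.trans (Dvd.intro _ rfl)
  obtain ⟨y, hy, hye⟩ := exists_conj_of_card hVY hcj hVp hVp' hi (card_cj x V)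
  have hg : y⁻¹ * x ∈ normalizer ((mm V A : Subgroup H) : Set H) := by
    have hyA : cj y A = A := cj_eq_of_mem_normalizer (le_normalizer hy.2)
    apply mem_normalizer_mm
    · rw [cj_mul', hye, cj_inv_cj]
    · rw [cj_mul', hxA]
      conv_lhs => rw [← hyA]
      rw [cj_inv_cj]
  have hy' : y ∈ normalizer ((mm V A : Subgroup H) : Set H) := le_normalizer (hYJ hy)
  have : x = y * (y⁻¹ * x) := by group
  rw [this]
  exact mul_mem hy' hg

theorem le_sup_DD (h : Fam p 𝒦) (T : Sylow p H) {U : Subgroup H}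
    (hTU : (T : Subgroup H) ≤ U) (hU : U ≠ ⊤) : U ≤ (T : Subgroup H) ⊔ DD p 𝒦 T := by
  haveI := h.RO_normal
  intro u hu
  have h1 : u ∈ (T : Subgroup H) ⊔ (sSup 𝒦 ⊔ pCore p H) := by
    rw [← sup_assoc, sup_eq_left.mpr (?_ : pCore p H ≤ (T : Subgroup H) ⊔ sSup 𝒦), h.sylow_sup T]
    · trivial
    · exact (O_le T).trans le_sup_left
  rw [← SetLike.mem_coe, Subgroup.mul_normal, Set.mem_mul] at h1
  obtain ⟨t, ht, r, hr, rfl⟩ := h1
  have hrU : r ∈ U := by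
    have : r = t⁻¹ * (t * r) := by group
    rw [this]
    exact mul_mem (inv_mem (hTU ht)) hu
  exact mul_mem (mem_sup_left ht) (mem_sup_right (h.inf_le_DD' T hTU hU ⟨hrU, hr⟩))

theorem sup_DD_ne_top (h : Fam p 𝒦) (T : Sylow p H)
    (hmin : ∀ E ∈ 𝒦, ∀ T : Sylow p ↥E, IsMinimalOver (T : Subgroup ↥E)) :
    (T : Subgroup H) ⊔ DD p 𝒦 T ≠ ⊤ := by
  intro htop
  obtain ⟨E, hE⟩ := h.hne
  have hEO : E ≤ sSup 𝒦 ⊔ pCore p H := le_sup_left.trans (h.EO_le hE)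
  have h1 : (↑((T : Subgroup H) ⊔ DD p 𝒦 T) : Set H) = (T : Subgroup H) * DD p 𝒦 T :=
    coe_mul_of_left_le_normalizer_right _ _ (h.sylow_normalizes_DD)
  have hED : E ≤ DD p 𝒦 T := by
    intro e he
    have h2 : e ∈ ((T : Subgroup H) ⊔ DD p 𝒦 T : Subgroup H) := by rw [htop]; trivial
    rw [← SetLike.mem_coe, h1, Set.mem_mul] at h2
    obtain ⟨t, ht, d, hd, rfl⟩ := h2
    have hd' : d ∈ sSup 𝒦 ⊔ pCore p H := DD_le hd
    have ht' : t ∈ sSup 𝒦 ⊔ pCore p H := by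
      have : t = t * d * d⁻¹ := by group
      rw [this]
      exact mul_mem (hEO he) (inv_mem hd')
    exact mul_mem (h.inf_le_DD ⟨ht, ht'⟩) hd
  set A := E ⊔ pCore p H with hA
  set V := (T : Subgroup H) ⊓ A with hV
  have hN : E ≤ normalizer ((mm V A : Subgroup H) : Set H) := fun e he => (mem_DD.mp (hED he)).2 E hE
  obtain ⟨T₁, hT₁⟩ := h.exists_sylow_eq T hE
  have hVJ : V ≤ mm V A := le_sSup ⟨le_rfl, inf_le_right, h.inf_ne_of_min T hE (hmin E hE)⟩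
  have hn : ((mm V A).subgroupOf E).Normal := by
    constructor
    intro x hx g
    rw [mem_subgroupOf] at hx ⊢
    exact (mem_normalizer_iff.mp (hN g.2) _).mp hx
  have h2 : (T₁ : Subgroup ↥E) ≤ (mm V A).subgroupOf E := by
    rw [hT₁]
    intro y hy
    rw [mem_subgroupOf] at hy ⊢
    exact hVJ ⟨hy, mem_sup_left y.2⟩
  have h3 : (⊤ : Subgroup ↥E) ≤ (mm V A).subgroupOf E := by
    rw [← (hmin E hE T₁).1]
    exact normalClosure_le_normal h2
  apply h.mm_ne T hE (hmin E hE)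
  refine le_antisymm (sSup_le fun W hW => hW.2.1) (sup_le ?_ ?_)
  · intro e he
    exact mem_subgroupOf.mp (h3 (mem_top (⟨e, he⟩ : ↥E)))
  · intro o ho
    exact hVJ ⟨O_le T ho, mem_sup_right ho⟩

theorem normalClosure_sylow (h : Fam p 𝒦) (T : Sylow p H)
    (hmin : ∀ E ∈ 𝒦, ∀ T : Sylow p ↥E, IsMinimalOver (T : Subgroup ↥E)) :
    normalClosure ((T : Subgroup H) : Set H) = ⊤ := by
  rw [eq_top_iff, ← h.sylow_sup T]
  refine sup_le (fun _ hx => subset_normalClosure hx) (sSup_le fun E hE => ?_)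
  obtain ⟨T₁, hT₁⟩ := h.exists_sylow_eq T hE
  have hn : ((normalClosure ((T : Subgroup H) : Set H)).subgroupOf E).Normal := by
    haveI : (normalClosure ((T : Subgroup H) : Set H)).Normal := normalClosure_normal
    infer_instance
  have h2 : (T₁ : Subgroup ↥E) ≤ (normalClosure ((T : Subgroup H) : Set H)).subgroupOf E := by
    rw [hT₁]
    intro y hy
    rw [mem_subgroupOf] at hy ⊢
    exact subset_normalClosure hy
  have h3 : (⊤ : Subgroup ↥E) ≤ (normalClosure ((T : Subgroup H) : Set H)).subgroupOf E := by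
    rw [← (hmin E hE T₁).1]
    exact normalClosure_le_normal h2
  intro e he
  exact mem_subgroupOf.mp (h3 (mem_top (⟨e, he⟩ : ↥E)))

/-- Part 1. -/
theorem part1 (h : Fam p 𝒦) (hmin : ∀ E ∈ 𝒦, ∀ T : Sylow p ↥E, IsMinimalOver (T : Subgroup ↥E))
    (T : Sylow p H) : IsMinimalOver (T : Subgroup H) := by
  refine ⟨h.normalClosure_sylow T hmin, ?_⟩
  obtain (ht | ⟨M, hM, hle⟩) := eq_top_or_exists_le_coatom ((T : Subgroup H) ⊔ DD p 𝒦 T)
  · exact absurd ht (h.sup_DD_ne_top T hmin)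
  refine ⟨M, ⟨hM, le_sup_left.trans hle⟩, ?_⟩
  rintro U ⟨hU, hTU⟩
  have h1 := (h.le_sup_DD T hTU hU.1).trans hle
  exact ((hU.le_iff_eq hM.1).mp h1).symm

/-! ### Part 2 -/

theorem isPClosed_of_normal {G : Type*} [Group G] [Finite G] (Q : Sylow p G)
    (hQ : (Q : Subgroup G).Normal) : IsPClosed p G := by
  intro P
  haveI := Sylow.unique_of_normal Q hQ
  rw [Subsingleton.elim P Q]
  exact hQ

theorem residual_le_sup (h : Fam p 𝒦) (T : Sylow p H) {K : Subgroup H} (hK : K ∈ 𝒦) :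
    K ≤ ((T : Subgroup H) ⊓ K) ⊔ rP p K := by
  obtain ⟨T₁, hT₁⟩ := h.exists_sylow_eq T hK
  have h1 := pResidual_sup_sylow T₁
  intro x hx
  have h2 : (⟨x, hx⟩ : ↥K) ∈ (T₁ : Subgroup ↥K) ⊔ pResidual p ↥K := by rw [h1]; trivial
  have h3 := Subgroup.mem_map_of_mem K.subtype h2
  rw [Subgroup.map_sup] at h3
  have h4 : (T₁ : Subgroup ↥K).map K.subtype ≤ (T : Subgroup H) ⊓ K := by
    rw [hT₁]
    rintro _ ⟨y, hy, rfl⟩
    exact ⟨mem_subgroupOf.mp hy, y.2⟩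
  exact (sup_le_sup_right h4 _ : _ ≤ (T : Subgroup H) ⊓ K ⊔ rP p K) h3

theorem sup_eq_top_of_rP_le (h : Fam p 𝒦) (T : Sylow p H) {Y : Subgroup H}
    (hY : ∀ K ∈ 𝒦, rP p K ≤ Y) : (T : Subgroup H) ⊔ Y = ⊤ := by
  rw [eq_top_iff, ← h.sylow_sup T]
  refine sup_le le_sup_left (sSup_le fun K hK => (h.residual_le_sup T hK).trans ?_)
  exact sup_le_sup inf_le_left (hY K hK)

theorem qL_le_O (h : Fam p 𝒦) {E : Subgroup H} (hE : E ∈ 𝒦) : qL p E ≤ pCore p H := by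
  haveI := Cfsg.Agent.Lib.Nilpotent.Fitting.pCore_normal p (G := H)
  have hX : IsPGroup p ↥(qL p E) := Iso.oY_isPGroup E
  have hN : E ≤ normalizer ((qL p E : Subgroup H) : Set H) := qL_normalizer E
  have hp : IsPGroup p ↥(qL p E ⊔ pCore p H) := IsPGroup.to_sup_of_normal_right hX O_isPGroup
  have hA : E ⊔ pCore p H ≤ normalizer ((qL p E ⊔ pCore p H : Subgroup H) : Set H) := by
    refine sup_le (fun e he => mem_normalizer_of_cj_eq ?_) (fun o ho => le_normalizer (mem_sup_right ho))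
    rw [cj_sup, cj_O, cj_eq_of_mem_normalizer (hN he)]
  have hle : qL p E ⊔ pCore p H ≤ E ⊔ pCore p H := sup_le_sup_right (map_subtype_le _) _
  have := Cfsg.Agent.Lib.Basic.PCore.le_pCore_of_subnormal (sn_step hle hA (h.EO_subnormal hE)) hp
  exact le_sup_left.trans this

theorem si_le (h : Fam p 𝒦) {E : Subgroup H} (hE : E ∈ 𝒦) (hsi : IsStronglyPIrreducible p ↥E)
    {N : Subgroup H} (hO : pCore p H ≤ N) (hn : E ≤ normalizer (N : Set H))
    (hnot : ¬ ⁅N ⊓ (E ⊔ pCore p H), E⁆ ≤ pCore p H) : rP p E ≤ N := by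
  haveI hOn := Cfsg.Agent.Lib.Nilpotent.Fitting.pCore_normal p (G := H)
  have hN : (N.subgroupOf E).Normal := ⟨fun x hx g => by
    rw [mem_subgroupOf] at hx ⊢
    exact (mem_normalizer_iff.mp (hn g.2) _).mp hx⟩
  have hsub := hsi.2 _ hN ?_
  · rintro _ ⟨x, hx, rfl⟩
    exact mem_subgroupOf.mp (hsub hx)
  · intro hc
    apply hnot
    rw [commutator_le]
    rintro x ⟨hx1, hx2⟩ e he
    obtain ⟨e', he', o, ho, rfl⟩ := mem_sup_O.mp hx2
    have he'N : e' ∈ N := by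
      have : e' = e' * o * o⁻¹ := by group
      rw [this]
      exact mul_mem hx1 (inv_mem (hO ho))
    have h1 : ⁅(⟨e', he'⟩ : ↥E), (⟨e, he⟩ : ↥E)⁆ ∈ pCore p ↥E :=
      hc (commutator_mem_commutator (mem_subgroupOf.mpr he'N) (mem_top _))
    have h2 : ⁅e', e⁆ ∈ pCore p H := h.qL_le_O hE ⟨_, h1, rfl⟩
    have h3 : ⁅o, e⁆ ∈ pCore p H := by
      rw [commutatorElement_def]
      exact mul_mem (mul_mem (mul_mem ho (by
        have := hOn.conj_mem o⁻¹ (inv_mem ho) e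
        exact (by simpa using this : e * o⁻¹ * e⁻¹ ∈ pCore p H)) |> fun z => z) (one_mem _)) (one_mem _) |> fun z => by
          simpa [mul_assoc] using z
    have h4 : ⁅e' * o, e⁆ = e' * ⁅o, e⁆ * e'⁻¹ * ⁅e', e⁆ := by
      simp only [commutatorElement_def]
      group
    rw [h4]
    exact mul_mem (hOn.conj_mem _ h3 _) h2

/-- Commutation modulo `O_p(H)`. -/
def cc (p : ℕ) [Fact p.Prime] (Z : Subgroup H) : Subgroup H where
  carrier := {x | ∀ z ∈ Z, ⁅x, z⁆ ∈ pCore p H}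
  mul_mem' := by
    intro a b ha hb z hz
    haveI hOn := Cfsg.Agent.Lib.Nilpotent.Fitting.pCore_normal p (G := H)
    have h4 : ⁅a * b, z⁆ = a * ⁅b, z⁆ * a⁻¹ * ⁅a, z⁆ := by
      simp only [commutatorElement_def]
      group
    rw [h4]
    exact mul_mem (hOn.conj_mem _ (hb z hz) _) (ha z hz)
  one_mem' := by
    intro z _
    simp [one_mem]
  inv_mem' := by
    intro a ha z hz
    haveI hOn := Cfsg.Agent.Lib.Nilpotent.Fitting.pCore_normal p (G := H)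
    have h4 : ⁅a⁻¹, z⁆ = a⁻¹ * ⁅a, z⁆⁻¹ * a⁻¹⁻¹ := by
      simp only [commutatorElement_def]
      group
    rw [h4]
    exact hOn.conj_mem _ (inv_mem (ha z hz)) _

theorem O_le_cc {Z : Subgroup H} : pCore p H ≤ cc p Z := by
  intro o ho z _
  haveI hOn := Cfsg.Agent.Lib.Nilpotent.Fitting.pCore_normal p (G := H)
  have : ⁅o, z⁆ = o * (z * o⁻¹ * z⁻¹) := by
    simp only [commutatorElement_def]
    group
  rw [this]
  exact mul_mem ho (hOn.conj_mem _ (inv_mem ho) _)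

theorem comm_O_mem (x : H) {o : H} (ho : o ∈ pCore p H) : ⁅x, o⁆ ∈ pCore p H := by
  haveI hOn := Cfsg.Agent.Lib.Nilpotent.Fitting.pCore_normal p (G := H)
  rw [commutatorElement_def]
  exact mul_mem (hOn.conj_mem _ ho _) (inv_mem ho)

theorem cc_le_cc_sup {Z : Subgroup H} : cc p Z ≤ cc p (Z ⊔ pCore p H) := by
  intro x hx y hy
  haveI hOn := Cfsg.Agent.Lib.Nilpotent.Fitting.pCore_normal p (G := H)
  obtain ⟨z, hz, o, ho, rfl⟩ := mem_sup_O.mp hy
  have h4 : ⁅x, z * o⁆ = ⁅x, z⁆ * (z * ⁅x, o⁆ * z⁻¹) := by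
    simp only [commutatorElement_def]
    group
  rw [h4]
  exact mul_mem (hx z hz) (hOn.conj_mem _ (comm_O_mem x ho) _)

theorem cc_normalizes {Z : Subgroup H} {g : H} (hg : g ∈ normalizer ((Z ⊔ pCore p H : Subgroup H) : Set H)) :
    g ∈ normalizer ((cc p Z : Subgroup H) : Set H) := by
  haveI hOn := Cfsg.Agent.Lib.Nilpotent.Fitting.pCore_normal p (G := H)
  apply Cfsg.Agent.Lib.Coprime.Three.mem_normalizer_of_conj_mem
  intro x hx z hz
  have h1 : g⁻¹ * z * g ∈ Z ⊔ pCore p H := by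
    have := (mem_normalizer_iff.mp (inv_mem hg) z).mp (mem_sup_left hz)
    simpa using this
  have h2 := cc_le_cc_sup hx _ h1
  have h3 : ⁅g * x * g⁻¹, z⁆ = g * ⁅x, g⁻¹ * z * g⁆ * g⁻¹ := by
    simp only [commutatorElement_def]
    group
  rw [h3]
  exact hOn.conj_mem _ h2 _

theorem three_mod {G : Type*} [Group G] {N : Subgroup G} [hN : N.Normal] {X Y Z : Subgroup G}
    (h1 : ⁅⁅Y, Z⁆, X⁆ ≤ N) (h2 : ⁅⁅Z, X⁆, Y⁆ ≤ N) : ⁅⁅X, Y⁆, Z⁆ ≤ N := by
  have key : ∀ A : Subgroup G, A.map (QuotientGroup.mk' N) = ⊥ ↔ A ≤ N := by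
    intro A
    rw [Subgroup.map_eq_bot_iff, QuotientGroup.ker_mk']
  rw [← key] at h1 h2 ⊢
  simp only [Subgroup.map_commutator] at h1 h2 ⊢
  exact Subgroup.commutator_commutator_eq_bot_of_rotate h1 h2

theorem comm_pow {G : Type*} [Group G] {a b : G} (h : Commute a ⁅a, b⁆) (m : ℕ) :
    ⁅a ^ m, b⁆ = ⁅a, b⁆ ^ m := by
  induction m with
  | zero => simp
  | succ m ih =>
    have h1 : a * ⁅a, b⁆ ^ m = ⁅a, b⁆ ^ m * a := (h.pow_right m).eq
    have h2 : ⁅a ^ (m + 1), b⁆ = a * ⁅a ^ m, b⁆ * (b * a⁻¹ * b⁻¹) := by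
      simp only [commutatorElement_def, pow_succ']
      group
    rw [h2, ih, h1, pow_succ]
    simp only [commutatorElement_def]
    group

theorem pow_comm_mem {G : Type*} [Group G] {N : Subgroup G} [hN : N.Normal] {a b : G}
    (h : ⁅⁅a, b⁆, a⁆ ∈ N) {m : ℕ} (hm : ⁅a ^ m, b⁆ ∈ N) : ⁅a, b⁆ ^ m ∈ N := by
  rw [← QuotientGroup.eq_one_iff] at h hm ⊢
  have hc : Commute (a : G ⧸ N) ⁅(a : G ⧸ N), (b : G ⧸ N)⁆ := by
    have : ⁅⁅(a : G ⧸ N), (b : G ⧸ N)⁆, (a : G ⧸ N)⁆ = 1 := h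
    exact (commutatorElement_eq_one_iff_commute.mp this).symm
  have h2 := comm_pow hc m
  have h3 : ⁅(a : G ⧸ N) ^ m, (b : G ⧸ N)⁆ = 1 := hm
  rw [h3] at h2
  exact h2.symm

theorem comm_mem_of {W : Subgroup H} (hW : W.IsSubnormal) (hOW : pCore p H ≤ W)
    (hc : ∀ u ∈ W, ∀ v ∈ W, ⁅u, v⁆ ∈ pCore p H) {x : H} (hx : x ∈ W) {n : ℕ}
    (hn : x ^ (p ^ n) ∈ pCore p H) : x ∈ pCore p H := by
  haveI hOn := Cfsg.Agent.Lib.Nilpotent.Fitting.pCore_normal p (G := H)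
  have hxp : IsPGroup p ↥(zpowers x) := by
    obtain ⟨m, hm⟩ := (O_isPGroup (p := p) (H := H)) ⟨x ^ (p ^ n), hn⟩
    have hm' : x ^ (p ^ (n + m)) = 1 := by
      have := congrArg Subtype.val hm
      simp only [SubgroupClass.coe_pow, OneMemClass.coe_one] at this
      rw [pow_add, pow_mul]
      exact this
    obtain ⟨j, -, hj⟩ := (Nat.dvd_prime_pow (Fact.out : p.Prime)).mp (orderOf_dvd_of_pow_eq_one hm')
    apply IsPGroup.of_card (n := j)
    rw [Nat.card_zpowers, hj]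
  have hp : IsPGroup p ↥(zpowers x ⊔ pCore p H) := IsPGroup.to_sup_of_normal_right hxp O_isPGroup
  have hle : zpowers x ⊔ pCore p H ≤ W := sup_le (zpowers_le.mpr hx) hOW
  have hN : W ≤ normalizer ((zpowers x ⊔ pCore p H : Subgroup H) : Set H) := by
    intro w hw
    apply Cfsg.Agent.Lib.Coprime.Three.mem_normalizer_of_conj_mem
    have h1 : zpowers x ⊔ pCore p H ≤ (zpowers x ⊔ pCore p H).comap (MulAut.conj w).toMonoidHom := by
      refine sup_le (zpowers_le.mpr ?_) ?_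
      · show w * x * w⁻¹ ∈ zpowers x ⊔ pCore p H
        have : w * x * w⁻¹ = ⁅w, x⁆ * x := by
          simp only [commutatorElement_def]
          group
        rw [this]
        exact mul_mem (mem_sup_right (hc w hw x hx)) (mem_sup_left (mem_zpowers x))
      · intro o ho
        exact mem_sup_right (hOn.conj_mem o ho w)
    intro y hy
    exact h1 hy
  exact Cfsg.Agent.Lib.Basic.PCore.le_pCore_of_subnormal (sn_step hle hN hW) hp
    (mem_sup_left (mem_zpowers x))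

/-- A subgroup of class two modulo `O_p(H)` is `p`-closed. -/
theorem not_class_two (h : Fam p 𝒦) {E : Subgroup H} (hE : E ∈ 𝒦) (hc : ¬ IsPClosed p ↥E) :
    ¬ ⁅⁅E, E⁆, E⁆ ≤ pCore p H := by
  haveI hOn := Cfsg.Agent.Lib.Nilpotent.Fitting.pCore_normal p (G := H)
  intro hle
  apply hc
  obtain ⟨T⟩ : Nonempty (Sylow p H) := inferInstance
  obtain ⟨T₁, hT₁⟩ := h.exists_sylow_eq T hE
  let π := QuotientGroup.mk' (pCore p H)
  let Eb : Subgroup (H ⧸ pCore p H) := E.map π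
  have hkey : ∀ A : Subgroup H, A.map π = ⊥ ↔ A ≤ pCore p H := by
    intro A
    rw [Subgroup.map_eq_bot_iff, QuotientGroup.ker_mk']
  have hn : ⁅⁅Eb, Eb⁆, Eb⁆ = ⊥ := by
    have := (hkey _).mpr hle
    simpa only [Subgroup.map_commutator] using this
  have hnil : Group.IsNilpotent ↥Eb := by
    apply Cfsg.Agent.Lib.Components.Fitting.isNilpotent_subgroup_of_commutator_central
    intro a ha b hb
    have h1 : ⁅a, b⁆ ∈ (⊥ : Subgroup (H ⧸ pCore p H)) := by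
      rw [← hn]
      exact commutator_mem_commutator ha hb
    exact commutatorElement_eq_one_iff_mul_comm.mp (by simpa using h1)
  have hsub : Eb.IsSubnormal := by
    have h1 := (h.EO_subnormal hE).map (f := π) (QuotientGroup.mk'_surjective _)
    have h2 : (E ⊔ pCore p H).map π = Eb := by
      rw [Subgroup.map_sup, (hkey _).mpr le_rfl, sup_bot_eq]
    rwa [h2] at h1
  have hq : qL p Eb ≤ pCore p (H ⧸ pCore p H) :=
    Cfsg.Agent.Lib.Basic.PCore.le_pCore_of_subnormal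
      (sn_step (map_subtype_le _) (qL_normalizer Eb) hsub) (Iso.oY_isPGroup Eb)
  rw [Cfsg.Agent.Lib.Basic.PCore.pCore_quotient_eq_bot] at hq
  have hTE : ∀ t : H, t ∈ (T : Subgroup H) → t ∈ E → t ∈ pCore p H := by
    intro t ht hte
    obtain ⟨k, hk⟩ := T.2 ⟨t, ht⟩
    have hk' : t ^ (p ^ k) = 1 := by
      have := congrArg Subtype.val hk
      simpa using this
    let y : ↥Eb := ⟨π t, mem_map_of_mem _ hte⟩
    have hy : y ^ (p ^ k) = 1 := by
      ext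
      show (π t) ^ (p ^ k) = 1
      rw [← map_pow, hk', map_one]
    obtain ⟨j, -, hj⟩ := (Nat.dvd_prime_pow (Fact.out : p.Prime)).mp (orderOf_dvd_of_pow_eq_one hy)
    have hmem : y ∈ pCore p ↥Eb :=
      Cfsg.Agent.Lib.Basic.PCore.mem_pCore_of_normal_nilpotent (N := ⊤) inferInstance
        ((Group.isNilpotent_congr Subgroup.topEquiv).mpr hnil) (mem_top _) Fact.out hj
    have h1 : π t ∈ qL p Eb := ⟨y, hmem, rfl⟩
    have h2 := hq h1
    rw [mem_bot] at h2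
    exact (QuotientGroup.eq_one_iff t).mp h2
  have hT₁n : (T₁ : Subgroup ↥E).Normal := by
    have e : (T₁ : Subgroup ↥E) = (pCore p H).subgroupOf E := by
      rw [hT₁]
      ext y
      rw [mem_subgroupOf, mem_subgroupOf]
      exact ⟨fun hy => hTE y hy y.2, fun hy => O_le T hy⟩
    rw [e]
    infer_instance
  exact isPClosed_of_normal T₁ hT₁n

/-- The main commutation lemma. -/
theorem comm_le_of (h : Fam p 𝒦) {E : Subgroup H} (hE : E ∈ 𝒦) (hsi : IsStronglyPIrreducible p ↥E)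
    {W Z : Subgroup H} (hW : W.IsSubnormal) (hOW : pCore p H ≤ W)
    (hWW : ∀ u ∈ W, ∀ v ∈ W, ⁅u, v⁆ ∈ pCore p H) (hWE : ∀ u ∈ W, ∀ e ∈ E, ⁅u, e⁆ ∈ pCore p H)
    (hZ : ∀ e ∈ E, ∀ z ∈ Z, ⁅e, z⁆ ∈ W)
    (hnZ : E ≤ normalizer ((Z ⊔ pCore p H : Subgroup H) : Set H)) : ⁅E, Z⁆ ≤ pCore p H := by
  haveI hOn := Cfsg.Agent.Lib.Nilpotent.Fitting.pCore_normal p (G := H)
  have hc : ⁅E, Z⁆ ≤ W := commutator_le.mpr hZ
  have h1 : ⁅⁅E, Z⁆, E⁆ ≤ pCore p H := commutator_le.mpr fun x hx e he => hWE x (hc hx) e he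
  have h2 : ⁅⁅Z, E⁆, E⁆ ≤ pCore p H := by rw [commutator_comm Z E]; exact h1
  have h3 : ⁅⁅E, E⁆, Z⁆ ≤ pCore p H := three_mod h1 h2
  have h4 : ⁅E, E⁆ ≤ cc p Z := fun x hx z hz => h3 (commutator_mem_commutator hx hz)
  have h5 : E ≤ normalizer ((cc p Z : Subgroup H) : Set H) := fun e he => cc_normalizes (hnZ he)
  have h6 : ¬ ⁅cc p Z ⊓ (E ⊔ pCore p H), E⁆ ≤ pCore p H := by
    intro hc'
    apply h.not_class_two hE hsi.1
    refine (commutator_mono (le_inf h4 ?_) le_rfl).trans hc'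
    exact (commutator_le.mpr fun a ha b hb => by
      rw [commutatorElement_def]
      exact mul_mem (mul_mem (mul_mem ha hb) (inv_mem ha)) (inv_mem hb)).trans le_sup_left
  have h7 : rP p E ≤ cc p Z := h.si_le hE hsi O_le_cc h5 h6
  rw [commutator_le]
  intro e he z hz
  obtain ⟨n, hn⟩ := Cfsg.Agent.Lib.Transfer.Basic.isPGroup_quotient_pResidual (p := p) (G := ↥E)
    ((⟨e, he⟩ : ↥E) : ↥E ⧸ pResidual p ↥E)
  have hn' : (⟨e, he⟩ : ↥E) ^ (p ^ n) ∈ pResidual p ↥E := by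
    rw [← QuotientGroup.eq_one_iff]
    exact hn
  have h8 : e ^ (p ^ n) ∈ rP p E := ⟨_, hn', rfl⟩
  have h9 := h7 h8 z hz
  have h10 : ⁅⁅e, z⁆, e⁆ ∈ pCore p H := hWE _ (hZ e he z hz) e he
  exact comm_mem_of hW hOW hWW (hZ e he z hz) (pow_comm_mem h10 h9)

theorem rP_le_rP (h : Fam p 𝒦) {E K : Subgroup H} (hE : E ∈ 𝒦) (hK : K ∈ 𝒦)
    (h1 : rP p E ≤ K ⊔ pCore p H) : rP p (E ⊔ pCore p H) ≤ rP p (K ⊔ pCore p H) := by
  obtain ⟨T⟩ : Nonempty (Sylow p H) := inferInstance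
  apply rP_le_of_le_sup (D := (T : Subgroup H) ⊓ (sSup 𝒦 ⊔ pCore p H)) (T.2.to_le inf_le_left)
  · exact fun x hx => normalizes_rP (h.hnorm K hK hx.2)
  · refine sup_le ((h.residual_le_sup T hE).trans (sup_le ?_ ?_)) ?_
    · refine le_trans ?_ le_sup_right
      exact inf_le_inf_left _ (le_sup_left.trans (h.EO_le hE))
    · refine le_trans ?_ le_sup_left
      conv_lhs => rw [rP_eq_closure]
      rw [closure_le]
      rintro x ⟨hx, hc⟩
      exact mem_rP (h1 (mem_rP hx hc)) hc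
    · intro o ho
      exact mem_sup_right ⟨O_le T ho, mem_sup_right ho⟩

theorem rP_cj_le (g : H) (A : Subgroup H) : cj g (rP p A) ≤ rP p (cj g A) := by
  rw [Subgroup.map_le_iff_le_comap, rP_eq_closure, closure_le]
  rintro x ⟨hx, hc⟩
  refine mem_rP ⟨x, hx, rfl⟩ ?_
  show (orderOf (g * x * g⁻¹)).Coprime p
  rw [Cfsg.Agent.Lib.Transfer.Basic.orderOf_conj_eq]
  exact hc

theorem rP_eq_of_le {E K : Subgroup H} {g : H} (hg : K = cj g E)
    (h1 : rP p (E ⊔ pCore p H) ≤ rP p (K ⊔ pCore p H)) :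
    rP p (E ⊔ pCore p H) = rP p (K ⊔ pCore p H) := by
  have hKO : K ⊔ pCore p H = cj g (E ⊔ pCore p H) := by rw [cj_sup, cj_O, hg]
  have h2 := rP_cj_le (p := p) g⁻¹ (K ⊔ pCore p H)
  have h3 : cj g⁻¹ (K ⊔ pCore p H) = E ⊔ pCore p H := by rw [hKO, cj_inv_cj]
  rw [h3] at h2
  refine Subgroup.eq_of_le_of_card_ge h1 ?_
  rw [← card_cj g⁻¹ (rP p (K ⊔ pCore p H))]
  exact Subgroup.card_le_of_le h2

theorem part2c (h : Fam p 𝒦) (hsi : ∀ E ∈ 𝒦, IsStronglyPIrreducible p ↥E) {E K : Subgroup H}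
    (hE : E ∈ 𝒦) (hK : K ∈ 𝒦) :
    rP p (E ⊔ pCore p H) = rP p (K ⊔ pCore p H) ∨ ⁅E, K⁆ ≤ pCore p H := by
  haveI hOn := Cfsg.Agent.Lib.Nilpotent.Fitting.pCore_normal p (G := H)
  have hEK : E ≤ normalizer ((K ⊔ pCore p H : Subgroup H) : Set H) :=
    (le_sup_left.trans (h.EO_le hE)).trans (h.hnorm K hK)
  by_cases c : ⁅(K ⊔ pCore p H) ⊓ (E ⊔ pCore p H), E⁆ ≤ pCore p H
  · right
    have hW : ∀ u ∈ (K ⊔ pCore p H) ⊓ (E ⊔ pCore p H), ∀ e ∈ E, ⁅u, e⁆ ∈ pCore p H :=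
      fun u hu e he => c (commutator_mem_commutator hu he)
    refine h.comm_le_of hE (hsi E hE) (W := (K ⊔ pCore p H) ⊓ (E ⊔ pCore p H))
      (sn_step (inf_le_right.trans (h.EO_le hE)) ?_ h.RO_normal.isSubnormal) (le_inf le_sup_right le_sup_right)
      ?_ hW ?_ hEK
    · intro r hr
      apply mem_normalizer_of_cj_eq
      rw [cj_inf, cj_eq_of_mem_normalizer (h.hnorm K hK hr), cj_eq_of_mem_normalizer (h.hnorm E hE hr)]
    · intro u hu v hv
      exact cc_le_cc_sup (Z := E) (fun e he => hW u hu e he) v hv.2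
    · intro e he k hk
      have h2 := (mem_normalizer_iff.mp (h.hnorm E hE (mem_sup_left ((le_sSup hK : K ≤ sSup 𝒦) hk))) _).mp
        (inv_mem (mem_sup_left he) : e⁻¹ ∈ E ⊔ pCore p H)
      refine mem_inf.mpr ⟨?_, ?_⟩
      · rw [commutatorElement_def]
        have e1 : e * k * e⁻¹ * k⁻¹ = (e * k * e⁻¹) * k⁻¹ := rfl
        have h1' : e * k * e⁻¹ ∈ K ⊔ pCore p H := by
          have := (mem_normalizer_iff.mp (hEK he) _).mp (mem_sup_left hk : k ∈ K ⊔ pCore p H)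
          exact this
        exact mul_mem h1' (inv_mem (mem_sup_left hk))
      · rw [commutatorElement_def]
        have e1 : e * k * e⁻¹ * k⁻¹ = e * (k * e⁻¹ * k⁻¹) := by group
        rw [e1]
        exact mul_mem (mem_sup_left he) h2
  · left
    have h1 : rP p E ≤ K ⊔ pCore p H := h.si_le hE (hsi E hE) le_sup_right hEK c
    obtain ⟨g, hg⟩ := h.htr E hE K hK
    exact rP_eq_of_le hg (h.rP_le_rP hE hK h1)

theorem part2d (h : Fam p 𝒦) (hsi : ∀ E ∈ 𝒦, IsStronglyPIrreducible p ↥E) {N : Subgroup H}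
    (hN : N.Normal) (hc : ¬ IsPClosed p ↥N) : pResidual p H ≤ N := by
  haveI hOn := Cfsg.Agent.Lib.Nilpotent.Fitting.pCore_normal p (G := H)
  haveI := hN
  haveI hRO := h.RO_normal
  obtain ⟨T⟩ : Nonempty (Sylow p H) := inferInstance
  by_cases hB : ∀ E ∈ 𝒦, ⁅(N ⊔ pCore p H) ⊓ (E ⊔ pCore p H), E⁆ ≤ pCore p H
  · exfalso
    apply hc
    have hN₀n : ((N ⊔ pCore p H) ⊓ (sSup 𝒦 ⊔ pCore p H)).Normal := inferInstance
    have hNOn : (N ⊔ pCore p H).Normal := inferInstance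
    have hO₀ : pCore p H ≤ (N ⊔ pCore p H) ⊓ (sSup 𝒦 ⊔ pCore p H) := le_inf le_sup_right le_sup_right
    have h1 : ∀ E ∈ 𝒦, ⁅E, (N ⊔ pCore p H) ⊓ (sSup 𝒦 ⊔ pCore p H)⁆ ≤ pCore p H := by
      intro E hE
      have hW : ∀ u ∈ (N ⊔ pCore p H) ⊓ (E ⊔ pCore p H), ∀ e ∈ E, ⁅u, e⁆ ∈ pCore p H :=
        fun u hu e he => hB E hE (commutator_mem_commutator hu he)
      refine h.comm_le_of hE (hsi E hE) (W := (N ⊔ pCore p H) ⊓ (E ⊔ pCore p H))
        (sn_step (inf_le_right.trans (h.EO_le hE)) ?_ h.RO_normal.isSubnormal)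
        (le_inf le_sup_right le_sup_right) ?_ hW ?_ ?_
      · intro r hr
        apply mem_normalizer_of_cj_eq
        rw [cj_inf, cj_normal r hNOn, cj_eq_of_mem_normalizer (h.hnorm E hE hr)]
      · intro u hu v hv
        exact cc_le_cc_sup (Z := E) (fun e he => hW u hu e he) v hv.2
      · intro e he z hz
        have he' : e ∈ E ⊔ pCore p H := mem_sup_left he
        have h2 := (mem_normalizer_iff.mp (h.hnorm E hE hz.2) _).mp (inv_mem he')
        have hz1 : z ∈ N ⊔ pCore p H := hz.1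
        refine mem_inf.mpr ⟨?_, ?_⟩
        · rw [commutatorElement_def]
          exact mul_mem (hNOn.conj_mem _ hz1 _) (inv_mem hz1)
        · rw [commutatorElement_def]
          have e1 : e * z * e⁻¹ * z⁻¹ = e * (z * e⁻¹ * z⁻¹) := by group
          rw [e1]
          exact mul_mem he' h2
      · exact Ab.normal_le_normalizer (by
          rw [sup_eq_left.mpr hO₀]; exact hN₀n) _
    have h2 : sSup 𝒦 ⊔ pCore p H ≤ cc p ((N ⊔ pCore p H) ⊓ (sSup 𝒦 ⊔ pCore p H)) :=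
      sup_le (sSup_le fun E hE e he z hz => h1 E hE (commutator_mem_commutator he hz)) O_le_cc
    have h3 : ∀ E ∈ 𝒦, ⁅E, N⁆ ≤ pCore p H := by
      intro E hE
      have hWE : ∀ u ∈ (N ⊔ pCore p H) ⊓ (sSup 𝒦 ⊔ pCore p H), ∀ e ∈ E, ⁅u, e⁆ ∈ pCore p H := by
        intro u hu e he
        rw [← commutatorElement_inv]
        exact inv_mem (h1 E hE (commutator_mem_commutator he hu))
      refine h.comm_le_of hE (hsi E hE) (W := (N ⊔ pCore p H) ⊓ (sSup 𝒦 ⊔ pCore p H))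
        hN₀n.isSubnormal hO₀ ?_ hWE ?_ ?_
      · intro u hu v hv
        rw [← commutatorElement_inv]
        exact inv_mem (h2 hv.2 u hu)
      · intro e he n hn
        have he' : e ∈ sSup 𝒦 ⊔ pCore p H := mem_sup_left (le_sSup hE he)
        refine mem_inf.mpr ⟨mem_sup_left ?_, ?_⟩
        · rw [commutatorElement_def]
          have e1 : e * n * e⁻¹ * n⁻¹ = (e * n * e⁻¹) * n⁻¹ := rfl
          exact mul_mem (hN.conj_mem _ hn _) (inv_mem hn)
        · rw [commutatorElement_def]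
          have e1 : e * n * e⁻¹ * n⁻¹ = e * (n * e⁻¹ * n⁻¹) := by group
          rw [e1]
          exact mul_mem he' (hRO.conj_mem _ (inv_mem he') _)
      · exact Ab.normal_le_normalizer hNOn _
    have h4 : sSup 𝒦 ≤ cc p N := sSup_le fun E hE e he n hn => h3 E hE (commutator_mem_commutator he hn)
    have hQ : ((T : Subgroup H) ⊓ (N ⊔ pCore p H)).Normal := by
      rw [← normalizer_eq_top_iff, eq_top_iff, ← h.sylow_sup T]
      refine sup_le ?_ ?_
      · intro t ht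
        apply mem_normalizer_of_cj_eq
        rw [cj_inf, cj_normal t hNOn, cj_eq_of_mem_normalizer (le_normalizer ht)]
      · intro r hr
        apply Cfsg.Agent.Lib.Coprime.Three.mem_normalizer_of_conj_mem
        rintro y ⟨hy1, hy2⟩
        have h5 : ⁅r, y⁆ ∈ pCore p H := cc_le_cc_sup (h4 hr) y hy2
        have : r * y * r⁻¹ = ⁅r, y⁆ * y := by
          simp only [commutatorElement_def]
          group
        rw [this]
        exact mul_mem ⟨O_le T h5, mem_sup_right h5⟩ ⟨hy1, hy2⟩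
    have hQO : (T : Subgroup H) ⊓ (N ⊔ pCore p H) ≤ pCore p H :=
      Cfsg.Agent.Lib.Basic.PCore.le_pCore hQ (T.2.to_le inf_le_left)
    obtain ⟨Q, hQ'⟩ := Cfsg.Agent.Lib.Basic.SylowUtil.exists_sylow_inf_normal T N
    refine isPClosed_of_normal Q ?_
    have e : (Q : Subgroup ↥N) = (pCore p H).subgroupOf N := by
      ext y
      rw [mem_subgroupOf]
      constructor
      · intro hy
        have : (y : H) ∈ (T : Subgroup H) ⊓ N := by
          rw [← hQ']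
          exact ⟨y, hy, rfl⟩
        exact hQO ⟨this.1, mem_sup_left this.2⟩
      · intro hy
        have : (y : H) ∈ (Q : Subgroup ↥N).map N.subtype := by
          rw [hQ']
          exact ⟨O_le T hy, y.2⟩
        obtain ⟨z, hz, hzy⟩ := this
        have : z = y := Subtype.ext hzy
        rwa [← this]
    rw [e]
    infer_instance
  · push Not at hB
    obtain ⟨E, hE, hne⟩ := hB
    have h1 : rP p E ≤ N ⊔ pCore p H :=
      h.si_le hE (hsi E hE) le_sup_right (Ab.normal_le_normalizer inferInstance _) hne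
    have h2 : ∀ K ∈ 𝒦, rP p K ≤ N ⊔ pCore p H := by
      intro K hK
      obtain ⟨g, rfl⟩ := h.htr E hE K hK
      conv_lhs => rw [rP_eq_closure]
      rw [closure_le]
      rintro x ⟨hx, hc'⟩
      rw [mem_cj] at hx
      have h4 : g⁻¹ * x * g ∈ N ⊔ pCore p H := by
        refine h1 (mem_rP hx ?_)
        have : g⁻¹ * x * g = g⁻¹ * x * (g⁻¹)⁻¹ := by group
        rw [this, Cfsg.Agent.Lib.Transfer.Basic.orderOf_conj_eq]
        exact hc'
      have h5 := (inferInstance : (N ⊔ pCore p H).Normal).conj_mem _ h4 g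
      have : x = g * (g⁻¹ * x * g) * g⁻¹ := by group
      rw [this]
      exact h5
    have h3 := h.sup_eq_top_of_rP_le T h2
    have h4 : N ⊔ (T : Subgroup H) = ⊤ := by
      rw [eq_top_iff, ← h3]
      exact sup_le le_sup_right (sup_le le_sup_left ((O_le T).trans le_sup_right))
    rw [pResidual, closure_le]
    intro x hx
    refine mem_of_coprime_mem_sup T.2 (Ab.normal_le_normalizer hN _) ?_ hx
    rw [h4]
    trivial

/-- Part 2. -/
theorem part2 (h : Fam p 𝒦) (hsi : ∀ E ∈ 𝒦, IsStronglyPIrreducible p ↥E) :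
    IsPIrreducible p H ∧ ∀ E ∈ 𝒦, ∀ K ∈ 𝒦,
      rP p (E ⊔ pCore p H) = rP p (K ⊔ pCore p H) ∨ ⁅E, K⁆ ≤ pCore p H := by
  refine ⟨⟨?_, fun N hN hc => h.part2d hsi hN hc⟩, fun E hE K hK => h.part2c hsi hE hK⟩
  intro hc
  obtain ⟨E, hE⟩ := h.hne
  apply (hsi E hE).1
  obtain ⟨T⟩ : Nonempty (Sylow p H) := inferInstance
  obtain ⟨T₁, hT₁⟩ := h.exists_sylow_eq T hE
  refine isPClosed_of_normal T₁ ?_
  rw [hT₁]
  haveI := hc T
  infer_instance

end Fam

end Cfsg.Agent.Lib.Components.PMinFamily
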