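import Mathlib
import Cfsg.Prelude.Def_SolvableStructure
import Cfsg.Agent.Lib.Coprime.AutAction
import Cfsg.Agent.Lib.PGroup.Basic
import Cfsg.Agent.Lib.Nilpotent.MinNonNilpotent
import Cfsg.Agent.Lib.Nilpotent.Fitting
import Cfsg.Agent.Lib.Nilpotent.Elements

set_option autoImplicit false
set_option linter.unusedSectionVars false
set_option linter.style.haveILetI false

/-!
# Semi-extraspecial `p`-groups from minimal non-nilpotent groups
-/

namespace Cfsg.Agent.Lib.Components.SEGroup

open scoped commutatorElement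
open Cfsg.Agent.Lib.Coprime.AutAction

/-- The abstract properties of the normal Sylow subgroup of a minimal non-nilpotent group. -/
structure SEGroup (p : ℕ) (P : Type*) [Group P] : Prop where
  cent : ∀ x y : P, ⁅x, y⁆ ∈ Subgroup.center P
  powc : ∀ x : P, x ^ p ∈ Subgroup.center P
  se : ∀ x, x ∉ Subgroup.center P → ∀ z ∈ Subgroup.center P, ∃ u : P, ⁅u, x⁆ = z
  fin : p ≤ 3 → Nat.card P = p ^ 2 * Nat.card (Subgroup.center P) →
    ∀ x, x ∉ Subgroup.center P → ∀ z ∈ Subgroup.center P, z ∈ Subgroup.zpowers x

theorem mem_center_map {P Q : Type*} [Group P] [Group Q] (e : P ≃* Q) (x : P) :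
    e x ∈ Subgroup.center Q ↔ x ∈ Subgroup.center P := by
  constructor
  · intro h
    rw [Subgroup.mem_center_iff] at h ⊢
    intro g
    apply e.injective
    rw [map_mul, map_mul]
    exact h (e g)
  · intro h
    rw [Subgroup.mem_center_iff] at h ⊢
    intro g
    have := h (e.symm g)
    have h2 := congrArg e this
    simpa using h2

/-- Transport along isomorphisms. -/
theorem SEGroup.of_mulEquiv {p : ℕ} {P Q : Type*} [Group P] [Group Q] (e : P ≃* Q)
    (h : SEGroup p Q) : SEGroup p P where
  cent := by
    intro x y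
    rw [← mem_center_map e, map_commutatorElement]
    exact h.cent _ _
  powc := by
    intro x
    rw [← mem_center_map e, map_pow]
    exact h.powc _
  se := by
    intro x hx z hz
    rw [← mem_center_map e] at hx hz
    obtain ⟨u, hu⟩ := h.se _ hx _ hz
    refine ⟨e.symm u, ?_⟩
    apply e.injective
    rw [map_commutatorElement, e.apply_symm_apply, hu]
  fin := by
    intro hp hc x hx z hz
    have h1 : Nat.card (Subgroup.center P) = Nat.card (Subgroup.center Q) :=
      Nat.card_congr (Subgroup.centerCongr e).toEquiv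
    rw [Nat.card_congr e.toEquiv, h1] at hc
    rw [← mem_center_map e] at hx hz
    have h2 := h.fin hp hc _ hx _ hz
    rw [Subgroup.mem_zpowers_iff] at h2 ⊢
    obtain ⟨k, hk⟩ := h2
    refine ⟨k, ?_⟩
    apply e.injective
    rw [map_zpow, hk]

section Action

variable {P : Type*} [Group P] [Finite P] {p : ℕ} [hp : Fact p.Prime]

/-- Elements outside the centre move their cyclic subgroups modulo the centre. -/
theorem not_mem_zpowers_of_star (hP : IsPGroup p P) (hpowc : ∀ x : P, x ^ p ∈ Subgroup.center P)
    (hcard : Nat.card P = p ^ 2 * Nat.card (Subgroup.center P))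
    (θ : MulAut P)
    (hstar : ∀ K : Subgroup P, K ≠ ⊤ → (∀ u ∈ K, θ u ∈ K) → ∀ u ∈ K, θ u = u)
    (hZθ : ∀ u ∈ Subgroup.center P, θ u ∈ Subgroup.center P)
    (hfix : ∀ u, θ u = u → u ∈ Subgroup.center P)
    (a : P) (ha : a ∉ Subgroup.center P) :
    ((θ a : P) : P ⧸ Subgroup.center P) ∉ Subgroup.zpowers ((a : P) : P ⧸ Subgroup.center P) := by
  classical
  intro hmem
  set Z := Subgroup.center P with hZ
  set K : Subgroup P := (Subgroup.zpowers ((a : P) : P ⧸ Z)).comap (QuotientGroup.mk' Z) with hK
  have haK : a ∈ K := by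
    rw [hK, Subgroup.mem_comap]
    exact Subgroup.mem_zpowers _
  have hKne : K ≠ ⊤ := by
    intro htop
    have h1 : (Subgroup.zpowers ((a : P) : P ⧸ Z)).index = K.index := by
      rw [hK, Subgroup.index_comap_of_surjective _ (QuotientGroup.mk'_surjective Z)]
    rw [htop, Subgroup.index_top] at h1
    have h2 : Nat.card (P ⧸ Z) = Nat.card (Subgroup.zpowers ((a : P) : P ⧸ Z)) := by
      have h3 := Subgroup.card_mul_index (Subgroup.zpowers ((a : P) : P ⧸ Z))
      rw [h1, mul_one] at h3
      exact h3.symm
    have h4 : Nat.card (Subgroup.zpowers ((a : P) : P ⧸ Z)) ∣ p := by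
      rw [Nat.card_zpowers]
      apply orderOf_dvd_of_pow_eq_one
      rw [← QuotientGroup.mk_pow]
      exact (QuotientGroup.eq_one_iff _).2 (hpowc a)
    have h5 : Nat.card (P ⧸ Z) = p ^ 2 := by
      have h6 := Subgroup.card_mul_index Z
      have h7 : Nat.card (P ⧸ Z) = Z.index := rfl
      rw [h7]
      rw [hcard, mul_comm] at h6
      exact Nat.eq_of_mul_eq_mul_right Nat.card_pos h6
    rw [h5] at h2
    rw [← h2] at h4
    have hpp := hp.out
    have h8 := Nat.le_of_dvd hpp.pos h4
    nlinarith [hpp.two_le]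
  have hinv : ∀ u ∈ K, θ u ∈ K := by
    intro u hu
    rw [hK, Subgroup.mem_comap] at hu ⊢
    obtain ⟨k, hk⟩ := hu
    have hk' : (QuotientGroup.mk' Z) u = ((a : P) : P ⧸ Z) ^ k := hk.symm
    have h1 : ((a ^ k)⁻¹ * u) ∈ Z := by
      rw [← QuotientGroup.eq_one_iff, QuotientGroup.mk_mul, QuotientGroup.mk_inv, QuotientGroup.mk_zpow]
      rw [show ((u : P) : P ⧸ Z) = ((a : P) : P ⧸ Z) ^ k from hk', inv_mul_cancel]
    have h2 : θ ((a ^ k)⁻¹ * u) ∈ Z := hZθ _ h1
    have h3 : ((θ u : P) : P ⧸ Z) = ((θ a : P) : P ⧸ Z) ^ k := by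
      have h4 : θ u = θ (a ^ k) * θ ((a ^ k)⁻¹ * u) := by
        rw [← map_mul]; group
      rw [h4, QuotientGroup.mk_mul, (QuotientGroup.eq_one_iff _).2 h2, mul_one, map_zpow,
        QuotientGroup.mk_zpow]
    show ((θ u : P) : P ⧸ Z) ∈ Subgroup.zpowers ((a : P) : P ⧸ Z)
    rw [h3]
    exact Subgroup.zpow_mem _ hmem k
  exact ha (hfix a (hstar K hKne hinv a haK))

theorem seGroup_of_action [Nontrivial P] (hP : IsPGroup p P) (θ : MulAut P)
    (hθc : (orderOf θ).Coprime p) (hθ1 : θ ≠ 1)
    (hstar : ∀ K : Subgroup P, K ≠ ⊤ → (∀ u ∈ K, θ u ∈ K) → ∀ u ∈ K, θ u = u)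
    (r : ℕ) (hr : r.Prime) (hθr : θ ^ r = 1) : SEGroup p P := by
  classical
  have hpp : p.Prime := hp.out
  by_cases hab : Subgroup.center P = ⊤
  · refine ⟨fun _ _ => by rw [hab]; trivial, fun _ => by rw [hab]; trivial, ?_, ?_⟩
    · intro x hx
      exact absurd (by rw [hab]; trivial) hx
    · intro _ _ x hx
      exact absurd (by rw [hab]; trivial) hx
  set Γ : Subgroup (MulAut P) := Subgroup.zpowers θ with hΓ
  let ρ : Γ →* MulAut P := Γ.subtype
  have hc : (Nat.card Γ).Coprime p := by
    rw [hΓ, Nat.card_zpowers]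
    exact hθc
  have hρθ : ∀ b : Γ, ∃ k : ℤ, ρ b = θ ^ k := by
    rintro ⟨b, k, hk⟩
    exact ⟨k, hk.symm⟩
  have hpowfix : ∀ (u : P), θ u = u → ∀ k : ℤ, (θ ^ k) u = u := by
    intro u hu k
    have hinv : θ⁻¹ u = u := by
      conv_lhs => rw [← hu]
      exact θ.symm_apply_apply u
    have hnat : ∀ (α : MulAut P), α u = u → ∀ n : ℕ, (α ^ n) u = u := by
      intro α hα n
      induction n with
      | zero => rfl
      | succ n ih =>
        rw [pow_succ]
        show (α ^ n) (α u) = u
        rw [hα, ih]
    obtain ⟨n, rfl | rfl⟩ := k.eq_nat_or_neg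
    · rw [zpow_natCast]; exact hnat θ hu n
    · rw [zpow_neg, zpow_natCast, ← inv_pow]; exact hnat _ hinv n
  have hfixΓ : ∀ u, θ u = u → ∀ b, ρ b u = u := by
    intro u hu b
    obtain ⟨k, hk⟩ := hρθ b
    rw [hk]
    exact hpowfix u hu k
  let θ' : Γ := ⟨θ, Subgroup.mem_zpowers θ⟩
  have hθ'c : (orderOf θ').Coprime p := by
    rw [Subgroup.orderOf_mk]
    exact hθc
  -- `[P, Γ] = P`
  have hgen : commClosure ρ = ⊤ := by
    by_contra hne
    have hinv : ∀ u ∈ commClosure ρ, θ u ∈ commClosure ρ := by
      intro u hu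
      have hle : commClosure ρ ≤ (commClosure ρ).comap θ.toMonoidHom := by
        rw [commClosure, Subgroup.closure_le]
        rintro _ ⟨g, b, rfl⟩
        show θ (g⁻¹ * ρ b g) ∈ commClosure ρ
        obtain ⟨k, hk⟩ := hρθ b
        have h1 : θ (ρ b g) = ρ b (θ g) := by
          rw [hk]
          have h2 : θ * θ ^ k = θ ^ k * θ := (Commute.zpow_right (Commute.refl θ) k).eq
          exact DFunLike.congr_fun h2 g
        rw [map_mul, map_inv, h1]
        exact Subgroup.subset_closure ⟨θ g, b, rfl⟩
      exact hle hu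
    apply hθ1
    ext g
    have hf := hstar _ hne hinv (g⁻¹ * θ g) (Subgroup.subset_closure ⟨g, θ', rfl⟩)
    exact fixed_of_diff_fixed hP ρ θ' hθ'c g hf
  have hZθ : ∀ u ∈ Subgroup.center P, θ u ∈ Subgroup.center P := by
    intro u hu
    exact (mem_center_map θ u).mpr hu
  have hZfix : ∀ u ∈ Subgroup.center P, θ u = u := hstar _ hab hZθ
  have hmin : ∀ U : Subgroup P, U.Characteristic → U ≠ ⊤ → ∀ u ∈ U, ∀ b, ρ b u = u := by
    intro U hUc hU u hu b
    refine hfixΓ u (hstar U hU ?_ u hu) b
    intro v hv
    have h := hUc.fixed θ.symm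
    have h2 : θ v ∈ U.comap θ.symm.toMonoidHom := by
      simpa [Subgroup.mem_comap] using hv
    rwa [h] at h2
  obtain ⟨hΦ1, hΦ2⟩ := frattini_eq_commutator_of_min hP ρ hc hgen hmin
  have hcomm_center : commutator P ≤ Subgroup.center P := by
    rw [← hΦ1]; exact hΦ2
  have hfix : ∀ u, θ u = u → u ∈ Subgroup.center P := fun u hu =>
    hcomm_center (mem_commutator_of_fixed hP ρ hc hgen (hfixΓ u hu))
  have hZcomm : Subgroup.center P ≤ commutator P := fun u hu =>
    mem_commutator_of_fixed hP ρ hc hgen (hfixΓ u (hZfix u hu))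
  have hcent : ∀ x y : P, ⁅x, y⁆ ∈ Subgroup.center P := fun x y =>
    hΦ2 (Cfsg.Agent.Lib.PGroup.Basic.commutatorElement_mem_frattini hP x y)
  have hpowc : ∀ x : P, x ^ p ∈ Subgroup.center P := fun x =>
    hΦ2 (Cfsg.Agent.Lib.PGroup.Basic.pow_mem_frattini hP x)
  have hcc : ∀ (c : P), c ∈ Subgroup.center P → ∀ g : P, g * c = c * g := fun c hc g =>
    Subgroup.mem_center_iff.mp hc g
  have hmulL : ∀ u v x : P, ⁅u * v, x⁆ = ⁅u, x⁆ * ⁅v, x⁆ := by
    intro u v x
    have h1 := hcc _ (hcent v x) u
    have h2 := hcc _ (hcent u x) ⁅v, x⁆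
    calc ⁅u * v, x⁆ = u * ⁅v, x⁆ * x * u⁻¹ * x⁻¹ := by
          simp only [commutatorElement_def]; group
      _ = ⁅v, x⁆ * u * x * u⁻¹ * x⁻¹ := by rw [h1]
      _ = ⁅v, x⁆ * ⁅u, x⁆ := by simp only [commutatorElement_def]; group
      _ = ⁅u, x⁆ * ⁅v, x⁆ := h2
  have hmulR : ∀ u a b : P, ⁅u, a * b⁆ = ⁅u, a⁆ * ⁅u, b⁆ := by
    intro u a b
    have h1 := hcc _ (hcent u b) a
    calc ⁅u, a * b⁆ = ⁅u, a⁆ * (a * ⁅u, b⁆ * a⁻¹) := by
          simp only [commutatorElement_def]; group
      _ = ⁅u, a⁆ * ⁅u, b⁆ := by rw [h1]; group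
  let φ : P → P →* P := fun x =>
    { toFun := fun u => ⁅u, x⁆
      map_one' := by simp [commutatorElement_def]
      map_mul' := fun u v => hmulL u v x }
  have hφ : ∀ x u, φ x u = ⁅u, x⁆ := fun _ _ => rfl
  have hse : ∀ x, x ∉ Subgroup.center P → ∀ z ∈ Subgroup.center P, ∃ u : P, ⁅u, x⁆ = z := by
    intro x hx z hz
    let R : Subgroup P :=
      { carrier := {a | ∀ u, ⁅u, a⁆ ∈ (φ x).range}
        one_mem' := by
          intro u
          have : ⁅u, (1 : P)⁆ = 1 := by simp [commutatorElement_def]
          rw [this]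
          exact Subgroup.one_mem _
        mul_mem' := by
          intro a b ha hb u
          rw [hmulR]
          exact Subgroup.mul_mem _ (ha u) (hb u)
        inv_mem' := by
          intro a ha u
          have h1 : ⁅u, a⁆ * ⁅u, a⁻¹⁆ = 1 := by
            rw [← hmulR, mul_inv_cancel]
            simp [commutatorElement_def]
          have h2 : ⁅u, a⁻¹⁆ = ⁅u, a⁆⁻¹ := eq_inv_of_mul_eq_one_right h1
          rw [h2]
          exact Subgroup.inv_mem _ (ha u) }
    have hxR : x ∈ R := fun u => ⟨u, rfl⟩
    have hRinv : ∀ a ∈ R, θ a ∈ R := by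
      intro a ha u
      have h1 : ⁅u, θ a⁆ = θ ⁅θ.symm u, a⁆ := by
        rw [map_commutatorElement]
        simp
      rw [h1, hZfix _ (hcent _ _)]
      exact ha _
    have hRtop : R = ⊤ := by
      by_contra hne
      exact hx (hfix x (hstar R hne hRinv x hxR))
    have hle : commutator P ≤ (φ x).range := by
      rw [commutator_def, Subgroup.commutator_le]
      intro a _ b _
      have : b ∈ R := by rw [hRtop]; trivial
      exact this a
    obtain ⟨u, hu⟩ := hle (hZcomm hz)
    exact ⟨u, hu⟩
  refine ⟨hcent, hpowc, hse, ?_⟩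
  intro hp3 hcard x hx z hz
  have hnm := not_mem_zpowers_of_star hP hpowc hcard θ hstar hZθ hfix
  have hqc : ∀ a b : P, ((a : P) : P ⧸ Subgroup.center P) * (b : P) = (b : P) * (a : P) := by
    intro a b
    rw [← QuotientGroup.mk_mul, ← QuotientGroup.mk_mul, QuotientGroup.eq]
    have : (a * b)⁻¹ * (b * a) = ⁅b⁻¹, a⁻¹⁆ := by
      simp only [commutatorElement_def]; group
    rw [this]
    exact hcent _ _
  have hp23 : p = 2 ∨ p = 3 := by
    have := hpp.two_le
    omega
  have hcardq : Nat.card (P ⧸ Subgroup.center P) = p ^ 2 := by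
    have h6 := Subgroup.card_mul_index (Subgroup.center P)
    have h7 : Nat.card (P ⧸ Subgroup.center P) = (Subgroup.center P).index := rfl
    rw [h7]
    rw [hcard, mul_comm] at h6
    exact Nat.eq_of_mul_eq_mul_right Nat.card_pos h6
  rcases hp23 with h2 | h3
  · -- `p = 2`
    subst h2
    by_cases hz1 : z = 1
    · rw [hz1]
      exact Subgroup.one_mem _
    -- the centre has at most two elements
    have hq1 : ((x : P) : P ⧸ Subgroup.center P) ≠ 1 := by
      intro h
      exact hx ((QuotientGroup.eq_one_iff _).1 h)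
    have hq2 : ∀ a : P, ((a : P) : P ⧸ Subgroup.center P) ^ 2 = 1 := by
      intro a
      rw [← QuotientGroup.mk_pow]
      exact (QuotientGroup.eq_one_iff _).2 (hpowc a)
    have hZ2 : Nat.card (Subgroup.center P) ≤ 2 := by
      set K : Subgroup P := (Subgroup.zpowers ((x : P) : P ⧸ Subgroup.center P)).comap
        (QuotientGroup.mk' (Subgroup.center P)) with hK
      have hKidx : K.index = 2 := by
        rw [hK, Subgroup.index_comap_of_surjective _ (QuotientGroup.mk'_surjective _)]
        have h1 := Subgroup.card_mul_index (Subgroup.zpowers ((x : P) : P ⧸ Subgroup.center P))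
        rw [hcardq, Nat.card_zpowers, orderOf_eq_prime (hq2 x) hq1] at h1
        omega
      have hkerle : K ≤ (φ x).ker := by
        intro u hu
        rw [hK, Subgroup.mem_comap] at hu
        obtain ⟨k, hk⟩ := hu
        have hk' : ((u : P) : P ⧸ Subgroup.center P) = ((x : P) : P ⧸ Subgroup.center P) ^ k := hk.symm
        rw [MonoidHom.mem_ker, hφ]
        have h1 : (x ^ k)⁻¹ * u ∈ Subgroup.center P := by
          rw [← QuotientGroup.eq_one_iff, QuotientGroup.mk_mul, QuotientGroup.mk_inv,
            QuotientGroup.mk_zpow, hk', inv_mul_cancel]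
        have h2 : u = x ^ k * ((x ^ k)⁻¹ * u) := by group
        rw [h2, hmulL]
        have h3 : ⁅(x ^ k)⁻¹ * u, x⁆ = 1 := by
          rw [commutatorElement_eq_one_iff_mul_comm]
          exact (hcc _ h1 x).symm
        have h4 : ⁅x ^ k, x⁆ = 1 := by
          rw [commutatorElement_eq_one_iff_mul_comm]
          exact (Commute.zpow_left (Commute.refl x) k).eq
        rw [h3, h4, mul_one]
      have h1 : Nat.card (φ x).range = (φ x).ker.index := (Subgroup.index_ker _).symm
      have h2 : (φ x).ker.index ∣ K.index := Subgroup.index_dvd_of_le hkerle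
      have h3 : Subgroup.center P ≤ (φ x).range := by
        intro w hw
        obtain ⟨u, hu⟩ := hse x hx w hw
        exact ⟨u, hu⟩
      have h4 : Nat.card (Subgroup.center P) ≤ Nat.card (φ x).range :=
        Subgroup.card_le_of_le h3
      rw [hKidx] at h2
      have h5 := Nat.le_of_dvd (by norm_num) h2
      omega
    have hZval : ∀ w ∈ Subgroup.center P, w = 1 ∨ w = z := by
      intro w hw
      by_contra hcon
      push Not at hcon
      let f : Fin 3 → Subgroup.center P := ![1, ⟨z, hz⟩, ⟨w, hw⟩]
      have hf : Function.Injective f := by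
        intro i j hij
        have hv : (f i : P) = f j := congrArg Subtype.val hij
        fin_cases i <;> fin_cases j <;> simp [f] at hv ⊢
        · exact absurd hv.symm hz1
        · exact absurd hv.symm hcon.1
        · exact absurd hv hz1
        · exact absurd hv.symm hcon.2
        · exact absurd hv hcon.1
        · exact absurd hv hcon.2
      have := Nat.card_le_card_of_injective f hf
      simp at this
      omega
    have hZsq : ∀ w ∈ Subgroup.center P, w ^ 2 = 1 := by
      intro w hw
      rcases hZval w hw with rfl | rfl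
      · simp
      · rcases hZval _ (Subgroup.pow_mem _ hw 2) with h | h
        · exact h
        · exfalso
          apply hz1
          have : w * w = w * 1 := by rw [mul_one, ← pow_two, h]
          exact mul_left_cancel this
    rcases hZval _ (hpowc x) with hx2 | hx2
    · -- all squares would be trivial
      exfalso
      set q : P → P ⧸ Subgroup.center P := fun a => ((a : P) : P ⧸ Subgroup.center P) with hq
      set b := θ x with hb
      set c := θ b with hc
      have hb1 : q b ∉ Subgroup.zpowers (q x) := hnm x hx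
      have hbZ : b ∉ Subgroup.center P := fun h => hx (by
        have := (mem_center_map θ x).mp h
        exact this)
      have hc1 : q c ∉ Subgroup.zpowers (q b) := hnm b hbZ
      have hqb1 : q b ≠ 1 := fun h => hb1 (by rw [h]; exact Subgroup.one_mem _)
      have hqbx : q b ≠ q x := fun h => hb1 (by rw [h]; exact Subgroup.mem_zpowers _)
      have hqc1 : q c ≠ 1 := fun h => hc1 (by rw [h]; exact Subgroup.one_mem _)
      have hqcb : q c ≠ q b := fun h => hc1 (by rw [h]; exact Subgroup.mem_zpowers _)
      have hqcx : q c ≠ q x := by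
        intro hcx
        have hd : x * b ∈ Subgroup.center P := by
          by_contra hd
          apply hnm _ hd
          have h1 : q (θ (x * b)) = q (x * b) := by
            rw [map_mul]
            show q (b * c) = _
            show ((b * c : P) : P ⧸ Subgroup.center P) = ((x * b : P) : P ⧸ Subgroup.center P)
            rw [QuotientGroup.mk_mul, QuotientGroup.mk_mul]
            show q b * q c = q x * q b
            rw [hcx]
            exact hqc b x
          show q (θ (x * b)) ∈ _
          rw [h1]
          exact Subgroup.mem_zpowers _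
        have h1 : q x * q b = 1 := by
          show ((x : P) : P ⧸ Subgroup.center P) * (b : P) = 1
          rw [← QuotientGroup.mk_mul]
          exact (QuotientGroup.eq_one_iff _).2 hd
        apply hb1
        rw [eq_inv_of_mul_eq_one_right h1]
        exact Subgroup.inv_mem _ (Subgroup.mem_zpowers _)
      have hall : ∀ u : P, u ^ 2 = 1 := by
        intro u
        -- the four cosets
        have hcov : ∀ v : P ⧸ Subgroup.center P, v = 1 ∨ v = q x ∨ v = q b ∨ v = q c := by
          intro v
          by_contra hcon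
          push Not at hcon
          let f : Fin 5 → P ⧸ Subgroup.center P := ![1, q x, q b, q c, v]
          have hf : Function.Injective f := by
            intro i j hij
            fin_cases i <;> fin_cases j <;> simp [f] at hij ⊢
            all_goals first
              | exact absurd hij hq1
              | exact absurd hij.symm hq1
              | exact absurd hij hqb1
              | exact absurd hij.symm hqb1
              | exact absurd hij hqc1
              | exact absurd hij.symm hqc1
              | exact absurd hij hqbx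
              | exact absurd hij.symm hqbx
              | exact absurd hij hqcx
              | exact absurd hij.symm hqcx
              | exact absurd hij hqcb
              | exact absurd hij.symm hqcb
              | exact absurd hij hcon.1
              | exact absurd hij.symm hcon.1
              | exact absurd hij hcon.2.1
              | exact absurd hij.symm hcon.2.1
              | exact absurd hij hcon.2.2.1
              | exact absurd hij.symm hcon.2.2.1
              | exact absurd hij hcon.2.2.2
              | exact absurd hij.symm hcon.2.2.2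
          have := Nat.card_le_card_of_injective f hf
          rw [hcardq] at this
          simp at this
        have hsq : ∀ w w' : P, ((u : P) : P ⧸ Subgroup.center P) = (w : P) → w ^ 2 = 1 → u ^ 2 = 1 := by
          intro w w' huw hw2
          have h1 : w⁻¹ * u ∈ Subgroup.center P := by
            rw [← QuotientGroup.eq_one_iff, QuotientGroup.mk_mul, QuotientGroup.mk_inv, huw,
              inv_mul_cancel]
          have h2 : u = w * (w⁻¹ * u) := by group
          have h3 := hZsq _ h1
          rw [h2, pow_two, show w * (w⁻¹ * u) * (w * (w⁻¹ * u)) = w * w * ((w⁻¹ * u) * (w⁻¹ * u)) by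
            have := hcc _ h1 w
            calc w * (w⁻¹ * u) * (w * (w⁻¹ * u)) = w * ((w⁻¹ * u) * w) * (w⁻¹ * u) := by group
              _ = w * (w * (w⁻¹ * u)) * (w⁻¹ * u) := by rw [← this]
              _ = _ := by group]
          rw [← pow_two, ← pow_two, hw2, h3, one_mul]
        have hb2 : b ^ 2 = 1 := by
          show (θ x) ^ 2 = 1
          rw [← map_pow, hx2, map_one]
        have hc2 : c ^ 2 = 1 := by
          show (θ b) ^ 2 = 1
          rw [← map_pow, hb2, map_one]
        rcases hcov ((u : P) : P ⧸ Subgroup.center P) with h | h | h | h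
        · exact hsq 1 1 (by rw [h]; rfl) (by simp)
        · exact hsq x 1 h hx2
        · exact hsq b 1 h hb2
        · exact hsq c 1 h hc2
      apply hab
      rw [eq_top_iff]
      intro u _
      rw [Subgroup.mem_center_iff]
      intro g
      have h1 := hall (g * u)
      have h2 := hall g
      have h3 := hall u
      rw [pow_two] at h1 h2 h3
      calc g * u = g * (g * u * (g * u)) * u := by rw [h1]; group
        _ = (g * g) * u * g * (u * u) := by group
        _ = u * g := by rw [h2, h3]; group
    · rw [← hx2]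
      exact Subgroup.npow_mem_zpowers x 2
  · -- `p = 3`
    subst h3
    exfalso
    haveI : Fact r.Prime := ⟨hr⟩
    have hΓr : IsPGroup r Γ := by
      rintro ⟨b, k, hk⟩
      refine ⟨1, ?_⟩
      apply Subtype.ext
      show b ^ r ^ 1 = 1
      rw [pow_one, ← hk]
      show (θ ^ k) ^ r = 1
      rw [← zpow_natCast, ← zpow_mul, mul_comm, zpow_mul, zpow_natCast, hθr, one_zpow]
    letI : MulAction Γ P := MulAction.compHom P ρ
    have hsm : ∀ (b : Γ) (u : P), b • u = ρ b u := fun _ _ => rfl
    have hmod := hΓr.card_modEq_card_fixedPoints P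
    have hfp : MulAction.fixedPoints Γ P = (Subgroup.center P : Set P) := by
      ext u
      constructor
      · intro hu
        exact hfix u (hu θ')
      · intro hu b
        exact hfixΓ u (hZfix u hu) b
    have hcz : Nat.card (MulAction.fixedPoints Γ P) = Nat.card (Subgroup.center P) := by
      rw [hfp]
      rfl
    rw [hcz, hcard] at hmod
    have hθord : orderOf θ = r := orderOf_eq_prime hθr hθ1
    have hr3 : r.Coprime 3 := by rw [← hθord]; exact hθc
    have hZp : ∃ n, Nat.card (Subgroup.center P) = 3 ^ n :=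
      IsPGroup.iff_card.mp (hP.to_subgroup _)
    obtain ⟨n, hn⟩ := hZp
    have hdvd : r ∣ 8 * Nat.card (Subgroup.center P) := by
      have h1 := (Nat.modEq_iff_dvd' (by
        have : 0 < Nat.card (Subgroup.center P) := Nat.card_pos
        nlinarith)).mp hmod.symm
      have h2 : 3 ^ 2 * Nat.card (Subgroup.center P) - Nat.card (Subgroup.center P) =
          8 * Nat.card (Subgroup.center P) := by
        have : 0 < Nat.card (Subgroup.center P) := Nat.card_pos
        omega
      rwa [h2] at h1
    have hr8 : r ∣ 8 := by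
      refine (Nat.Coprime.dvd_of_dvd_mul_right ?_ hdvd)
      rw [hn]
      exact hr3.pow_right n
    have hr2 : r = 2 := by
      have : r ∣ 2 ^ 3 := by norm_num; exact hr8
      exact (Nat.prime_dvd_prime_iff_eq hr Nat.prime_two).mp (hr.dvd_of_dvd_pow this)
    subst hr2
    have hθθ : ∀ u, θ (θ u) = u := by
      intro u
      have : (θ ^ 2) u = u := by rw [hθr]; rfl
      rwa [pow_two] at this
    obtain ⟨a, ha⟩ : ∃ a : P, a ∉ Subgroup.center P := by
      by_contra hcon
      push Not at hcon
      exact hab (eq_top_iff.mpr fun u _ => hcon u)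
    have hc : a * θ a ∈ Subgroup.center P := by
      by_contra hc
      apply hnm _ hc
      rw [map_mul, hθθ, QuotientGroup.mk_mul, hqc, ← QuotientGroup.mk_mul]
      exact Subgroup.mem_zpowers _
    apply hnm a ha
    have h1 : ((a : P) : P ⧸ Subgroup.center P) * (θ a : P) = 1 := by
      rw [← QuotientGroup.mk_mul]
      exact (QuotientGroup.eq_one_iff _).2 hc
    rw [eq_inv_of_mul_eq_one_right h1]
    exact Subgroup.inv_mem _ (Subgroup.mem_zpowers _)

end Action

section Schmidt

variable {X : Type*} [Group X] [Finite X] {p : ℕ} [hp : Fact p.Prime]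

/-- The normal Sylow subgroup of a minimal non-nilpotent group. -/
theorem seGroup_of_schmidt (hX : Cfsg.IsMinimalNonNilpotent X) (P : Sylow p X)
    (hPn : (P : Subgroup X).Normal) (hP1 : (P : Subgroup X) ≠ ⊥) : SEGroup p (P : Subgroup X) := by
  classical
  have hpp : p.Prime := hp.out
  obtain ⟨hnot, hprop⟩ := hX
  obtain ⟨r, q', hr, hq', hrq, R, Q', hcyc, hQ'n, hsup⟩ :=
    Cfsg.Agent.Lib.Nilpotent.MinNonNilpotent.exists_structure hnot hprop
  haveI : Fact r.Prime := ⟨hr⟩
  haveI : Fact q'.Prime := ⟨hq'⟩
  -- the order of `X` divides `|R||Q'|`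
  have hidx' : (Q' : Subgroup X).index ∣ Nat.card R := by
    have h1 := Subgroup.relIndex_sup_right (R : Subgroup X) (Q' : Subgroup X)
    rw [hsup, Subgroup.relIndex_top_right] at h1
    rw [h1]
    exact Subgroup.relIndex_dvd_card _ _
  have hcard : Nat.card X ∣ Nat.card Q' * Nat.card R := by
    rw [← Subgroup.card_mul_index (Q' : Subgroup X)]
    exact mul_dvd_mul_left _ hidx'
  have hRnot : ¬ (R : Subgroup X).Normal := by
    intro hRn
    apply hnot
    have hRnil : Group.IsNilpotent (R : Subgroup X) := R.isPGroup'.isNilpotent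
    have hQnil : Group.IsNilpotent (Q' : Subgroup X) := Q'.isPGroup'.isNilpotent
    have := Cfsg.Agent.Lib.Nilpotent.Fitting.isNilpotent_sup_of_normal hRnil hQnil
    rw [hsup] at this
    exact Group.isNilpotent_top.mp this
  have hPp : IsPGroup p (P : Subgroup X) := P.isPGroup'
  have hPcard : p ∣ Nat.card (P : Subgroup X) := by
    obtain ⟨n, hn⟩ := IsPGroup.iff_card.mp hPp
    rw [hn]
    have hn0 : n ≠ 0 := by
      rintro rfl
      apply hP1
      exact (Subgroup.card_eq_one).mp (by rw [hn, pow_zero])
    exact dvd_pow_self p hn0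
  have hpdvd : p ∣ Nat.card X := hPcard.trans (Subgroup.card_subgroup_dvd_card _)
  have hpq : p = q' := by
    have h1 := hpdvd.trans hcard
    rcases (Nat.Prime.dvd_mul hpp).mp h1 with h2 | h2
    · obtain ⟨n, hn⟩ := IsPGroup.iff_card.mp Q'.isPGroup'
      rw [show Nat.card Q' = q' ^ n from hn] at h2
      exact (Nat.prime_dvd_prime_iff_eq hpp hq').mp (hpp.dvd_of_dvd_pow h2)
    · exfalso
      obtain ⟨n, hn⟩ := IsPGroup.iff_card.mp R.isPGroup'
      rw [show Nat.card R = r ^ n from hn] at h2
      have hpr : p = r := (Nat.prime_dvd_prime_iff_eq hpp hr).mp (hpp.dvd_of_dvd_pow h2)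
      subst hpr
      apply hRnot
      have := Sylow.unique_of_normal P hPn
      rw [Subsingleton.elim R P]
      exact hPn
  subst hpq
  have hQP : Q' = P := by
    have := Sylow.unique_of_normal P hPn
    exact Subsingleton.elim _ _
  subst hQP
  have hrp : r.Coprime p := (Nat.coprime_primes hr hpp).mpr hrq
  set PG : Subgroup X := (Q' : Subgroup X) with hPG
  haveI hPGn : PG.Normal := hPn
  haveI hnt : Nontrivial PG := (Subgroup.nontrivial_iff_ne_bot _).mpr hP1
  obtain ⟨g, hg⟩ := IsCyclic.exists_generator (α := (R : Subgroup X))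
  set y : X := g.1 with hy
  have hyR : y ∈ (R : Subgroup X) := g.2
  have hRy : ∀ b ∈ (R : Subgroup X), ∃ k : ℤ, b = y ^ k := by
    intro b hb
    obtain ⟨k, hk⟩ := hg ⟨b, hb⟩
    refine ⟨k, ?_⟩
    have := congrArg Subtype.val hk
    simpa using this.symm
  obtain ⟨n, hn⟩ := IsPGroup.iff_card.mp R.isPGroup'
  have hRcard : Nat.card (R : Subgroup X) = r ^ n := hn
  have hyord : orderOf y = r ^ n := by
    rw [← hRcard, hy, Subgroup.orderOf_coe, ← Nat.card_zpowers]
    have : Subgroup.zpowers g = ⊤ := by
      rw [eq_top_iff]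
      intro x _
      exact hg x
    rw [this]
    exact Nat.card_congr Subgroup.topEquiv.toEquiv
  have hycop : (orderOf y).Coprime p := by
    rw [hyord]; exact hrp.pow_left n
  obtain ⟨m, hm⟩ := IsPGroup.iff_card.mp hPp
  have helemcop : ∀ u ∈ PG, (orderOf y).Coprime (orderOf u) := by
    intro u hu
    have h1 : orderOf u ∣ p ^ m := by
      rw [← hm, ← Subgroup.orderOf_mk u hu]
      exact orderOf_dvd_natCard _
    exact Nat.Coprime.coprime_dvd_right h1 (hycop.pow_right m)
  let θ : MulAut PG := MulAut.conjNormal y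
  have hθapp : ∀ u : PG, ((θ u : PG) : X) = y * u * y⁻¹ := fun u => MulAut.conjNormal_apply y u
  have hθc : (orderOf θ).Coprime p := by
    have h1 : orderOf θ ∣ orderOf y := orderOf_map_dvd (MulAut.conjNormal (H := PG)) y
    exact Nat.Coprime.coprime_dvd_left h1 hycop
  have hθ1 : θ ≠ 1 := by
    intro h1
    have hcomm : ∀ u ∈ PG, y * u = u * y := by
      intro u hu
      have h2 := hθapp ⟨u, hu⟩
      rw [h1] at h2
      have h3 : u = y * u * y⁻¹ := h2
      calc y * u = y * u * y⁻¹ * y := by group
        _ = u * y := by rw [← h3]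
    apply hRnot
    have hle : PG ≤ Subgroup.normalizer ((R : Subgroup X) : Set X) := by
      intro u hu
      rw [Subgroup.mem_normalizer_iff]
      intro b
      have hbcomm : ∀ b ∈ (R : Subgroup X), u * b * u⁻¹ = b := by
        intro b hb
        obtain ⟨k, rfl⟩ := hRy b hb
        have : Commute u (y ^ k) := Commute.zpow_right (Commute.symm (hcomm u hu)) k
        rw [this.eq, mul_inv_cancel_right]
      constructor
      · intro hb
        rw [hbcomm b hb]
        exact hb
      · intro hb
        have h7 := hbcomm _ hb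
        have h8 : u * b * u⁻¹ = b := mul_left_cancel (mul_right_cancel h7)
        rwa [h8] at hb
    have hR2 : (R : Subgroup X) ≤ Subgroup.normalizer ((R : Subgroup X) : Set X) :=
      Subgroup.le_normalizer
    have htop : Subgroup.normalizer ((R : Subgroup X) : Set X) = ⊤ := by
      rw [eq_top_iff, ← hsup]
      exact sup_le hR2 hle
    exact Subgroup.normalizer_eq_top_iff.mp htop
  have hstar : ∀ K : Subgroup PG, K ≠ ⊤ → (∀ u ∈ K, θ u ∈ K) → ∀ u ∈ K, θ u = u := by
    intro K hK hinv u hu
    have hnat : ∀ (k : ℕ), ∀ v ∈ K, (θ ^ k) v ∈ K := by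
      intro k
      induction k with
      | zero => intro v hv; simpa using hv
      | succ k ih =>
        intro v hv
        rw [pow_succ]
        exact ih _ (hinv v hv)
    have hθinv : θ⁻¹ = θ ^ (orderOf θ - 1) := by
      apply eq_comm.mp
      apply eq_inv_of_mul_eq_one_left
      rw [← pow_succ, Nat.sub_add_cancel (orderOf_pos θ), pow_orderOf_eq_one]
    have hzp : ∀ (k : ℤ), ∀ v ∈ K, (θ ^ k) v ∈ K := by
      intro k v hv
      obtain ⟨l, rfl | rfl⟩ := k.eq_nat_or_neg
      · rw [zpow_natCast]; exact hnat l v hv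
      · rw [zpow_neg, zpow_natCast, ← inv_pow, hθinv, ← pow_mul]; exact hnat _ v hv
    set Kh : Subgroup X := K.map PG.subtype with hKh
    have hRK : ∀ b ∈ (R : Subgroup X), ∀ v ∈ Kh, b * v * b⁻¹ ∈ Kh := by
      intro b hb v hv
      obtain ⟨k, rfl⟩ := hRy b hb
      obtain ⟨w, hw, rfl⟩ := hv
      refine ⟨(θ ^ k) w, hzp k w hw, ?_⟩
      have h1 : θ ^ k = MulAut.conjNormal (y ^ k) := by
        show (MulAut.conjNormal y) ^ k = _
        rw [map_zpow]
      rw [h1]
      exact MulAut.conjNormal_apply (y ^ k) w
    have hRN : (R : Subgroup X) ≤ Subgroup.normalizer (Kh : Set X) := by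
      intro b hb
      rw [Subgroup.mem_normalizer_iff]
      intro x
      constructor
      · exact hRK b hb x
      · intro hx
        have := hRK b⁻¹ (Subgroup.inv_mem _ hb) _ hx
        have h2 : b⁻¹ * (b * x * b⁻¹) * b⁻¹⁻¹ = x := by group
        rwa [h2] at this
    set L : Subgroup X := Kh ⊔ (R : Subgroup X) with hL
    have hLne : L ≠ ⊤ := by
      intro hLtop
      have hKhN : Subgroup.normalizer (Kh : Set X) = ⊤ := by
        rw [eq_top_iff, ← hLtop]
        exact sup_le Subgroup.le_normalizer hRN
      haveI hKhn : Kh.Normal := Subgroup.normalizer_eq_top_iff.mp hKhN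
      have h1 := Subgroup.relIndex_sup_right (R : Subgroup X) Kh
      rw [sup_comm, ← hL, hLtop, Subgroup.relIndex_top_right] at h1
      have h2 : Kh.index ∣ r ^ n := by
        rw [h1, ← hRcard]
        exact Subgroup.relIndex_dvd_card _ _
      have hKhle : Kh ≤ PG := by
        rintro _ ⟨w, _, rfl⟩
        exact w.2
      have h3 : Kh.relIndex PG ∣ Kh.index := by
        rw [← Subgroup.relIndex_mul_index hKhle]
        exact dvd_mul_right _ _
      have h4 : Kh.relIndex PG ∣ p ^ m := by
        rw [← hm]
        exact Subgroup.relIndex_dvd_card _ _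
      have h5 : Kh.relIndex PG = 1 :=
        Nat.eq_one_of_dvd_coprimes (hrp.pow n m) (h3.trans h2) h4
      have h6 : PG ≤ Kh := Subgroup.relIndex_eq_one.mp h5
      apply hK
      rw [eq_top_iff]
      intro v _
      obtain ⟨w, hw, hwv⟩ := h6 v.2
      have : w = v := Subtype.ext hwv
      rwa [← this]
    haveI hLnil : Group.IsNilpotent L := hprop L hLne
    have hyL : y ∈ L := (le_sup_right : (R : Subgroup X) ≤ L) hyR
    have huL : (u : X) ∈ L := (le_sup_left : Kh ≤ L) ⟨u, hu, rfl⟩
    have hcomm : Commute (⟨y, hyL⟩ : L) ⟨u, huL⟩ :=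
      Cfsg.Agent.Lib.Nilpotent.Elements.commute_of_coprime_orderOf (by
        rw [Subgroup.orderOf_mk, Subgroup.orderOf_mk]
        exact helemcop u u.2)
    have h2 : y * u = u * y := congrArg Subtype.val hcomm.eq
    apply Subtype.ext
    rw [hθapp, h2, mul_inv_cancel_right]
  have hn0 : n ≠ 0 := by
    rintro rfl
    apply hθ1
    have : y = 1 := by
      rw [← orderOf_eq_one_iff, hyord, pow_zero]
    show MulAut.conjNormal y = 1
    rw [this, map_one]
  have hθr : θ ^ r = 1 := by
    set y' := y ^ r with hy'
    set R₀ : Subgroup X := Subgroup.zpowers y' with hR₀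
    have hLne : R₀ ⊔ PG ≠ ⊤ := by
      intro htop
      have h1 := Subgroup.relIndex_sup_right R₀ PG
      rw [htop, Subgroup.relIndex_top_right] at h1
      have h2 : PG.index ∣ orderOf y' := by
        rw [h1, ← Nat.card_zpowers]
        exact Subgroup.relIndex_dvd_card _ _
      have h3 : r ^ n ∣ PG.index := by
        have h4 : r ^ n ∣ Nat.card PG * PG.index := by
          rw [Subgroup.card_mul_index, ← hRcard]
          exact Subgroup.card_subgroup_dvd_card _
        rw [hm] at h4
        exact (Nat.Coprime.dvd_of_dvd_mul_left (Nat.Coprime.pow n m hrp) h4)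
      have h5 : orderOf y' = r ^ n / r := by
        rw [hy', orderOf_pow_of_dvd hr.ne_zero, hyord]
        rw [hyord]
        exact dvd_pow_self r hn0
      have h6 : r ^ n ∣ r ^ n / r := by
        rw [← h5]; exact h3.trans h2
      have h7 : r ^ n / r < r ^ n := Nat.div_lt_self (pow_pos hr.pos n) hr.one_lt
      have h8 : 0 < r ^ n / r := by
        rw [← h5]; exact orderOf_pos _
      have := Nat.le_of_dvd h8 h6
      omega
    haveI hLnil : Group.IsNilpotent ↥(R₀ ⊔ PG) := hprop _ hLne
    have hy'L : y' ∈ R₀ ⊔ PG := (le_sup_left : R₀ ≤ R₀ ⊔ PG) (Subgroup.mem_zpowers _)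
    have hcomm : ∀ u ∈ PG, y' * u = u * y' := by
      intro u hu
      have huL : u ∈ R₀ ⊔ PG := (le_sup_right : PG ≤ R₀ ⊔ PG) hu
      have h1 : Commute (⟨y', hy'L⟩ : ↥(R₀ ⊔ PG)) ⟨u, huL⟩ :=
        Cfsg.Agent.Lib.Nilpotent.Elements.commute_of_coprime_orderOf (by
          rw [Subgroup.orderOf_mk, Subgroup.orderOf_mk]
          have h2 : orderOf y' ∣ orderOf y := by
            rw [hy']; exact orderOf_pow_dvd _
          exact Nat.Coprime.coprime_dvd_left h2 (helemcop u hu))
      exact congrArg Subtype.val h1.eq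
    show (MulAut.conjNormal y) ^ r = 1
    rw [← map_pow]
    ext u
    rw [MulAut.conjNormal_apply, MulAut.one_apply, ← hy', hcomm _ u.2, mul_inv_cancel_right]
  exact seGroup_of_action hPp θ hθc hθ1 hstar r hr hθr

end Schmidt

end Cfsg.Agent.Lib.Components.SEGroup
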