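import Mathlib
import Cfsg.Agent.Lib.HallHigman.TheoremB
import Cfsg.Agent.Lib.Coprime.GenerationE
import Cfsg.Agent.Lib.Basic.PCore
import Cfsg.Agent.Lib.Solvable.PSeries

set_option autoImplicit false
set_option linter.unusedSectionVars false

/-!
# Semi-extraspecial Sylow subgroups: the module argument

A nontrivial elementary abelian `p`-subgroup `A` of a `p`-soluble linear group `H` with
`O_p(H) = 1` acting quadratically through a subspace `U` with `[v, A] = U` for every `v ∉ U` has order `p`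
and `U` has order `p`.
-/

namespace Cfsg.Agent.Lib.Components.SEModule

open Module (End)
open Cfsg

variable {H : Type*} [Group H] [Finite H] {p : ℕ} [hp : Fact p.Prime]
  {V : Type*} [AddCommGroup V] [Module (ZMod p) V]

/-- Averaging projection onto the fixed points of a `p'`-subgroup. -/
theorem exists_proj (ρ : H →* End (ZMod p) V) (D : Subgroup H) (hD : ¬ p ∣ Nat.card D) :
    ∃ e : End (ZMod p) V,
      (∀ d ∈ D, ∀ v, ρ d (e v) = e v) ∧
      (∀ v, (∀ d ∈ D, ρ d v = v) → e v = v) ∧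
      (∀ g, (∀ d ∈ D, g * d * g⁻¹ ∈ D) → (∀ d ∈ D, g⁻¹ * d * g ∈ D) →
        ∀ v, ρ g (e v) = e (ρ g v)) := by
  classical
  letI : Fintype D := Fintype.ofFinite D
  have hne : ((Nat.card D : ℕ) : ZMod p) ≠ 0 := by
    rwa [Ne, ZMod.natCast_eq_zero_iff]
  refine ⟨((Nat.card D : ZMod p)⁻¹) • ∑ d : D, ρ d, ?_, ?_, ?_⟩
  · intro d hd v
    simp only [LinearMap.smul_apply, LinearMap.sum_apply, map_smul, map_sum]
    congr 1
    refine Fintype.sum_equiv (Equiv.mulLeft (⟨d, hd⟩ : D)) _ _ (fun x => ?_)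
    simp [map_mul]
  · intro v hv
    simp only [LinearMap.smul_apply, LinearMap.sum_apply]
    have h1 : ∑ d : D, ρ d v = ∑ _d : D, v := Finset.sum_congr rfl (fun d _ => hv d d.2)
    rw [h1, Finset.sum_const, Finset.card_univ, ← Nat.card_eq_fintype_card]
    rw [← Nat.cast_smul_eq_nsmul (ZMod p), smul_smul, inv_mul_cancel₀ hne, one_smul]
  · intro g h1 h2 v
    simp only [LinearMap.smul_apply, LinearMap.sum_apply, map_smul, map_sum]
    congr 1
    let σ : D ≃ D :=
      { toFun := fun d => ⟨g * d * g⁻¹, h1 d d.2⟩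
        invFun := fun d => ⟨g⁻¹ * d * g, h2 d d.2⟩
        left_inv := fun d => by ext; simp [mul_assoc]
        right_inv := fun d => by ext; simp [mul_assoc] }
    refine Fintype.sum_equiv σ _ _ (fun d => ?_)
    show ρ g (ρ d v) = ρ (g * d * g⁻¹) (ρ g v)
    rw [map_mul, map_mul, Module.End.mul_apply, Module.End.mul_apply, ← Module.End.mul_apply (ρ g⁻¹),
      ← map_mul, inv_mul_cancel, map_one, Module.End.one_apply]

theorem rho_inv_of_fixed (ρ : H →* End (ZMod p) V) {g : H} {v : V} (h : ρ g v = v) :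
    ρ g⁻¹ v = v := by
  conv_lhs => rw [← h]
  rw [← Module.End.mul_apply, ← map_mul, inv_mul_cancel, map_one, Module.End.one_apply]

theorem rho_comm (ρ : H →* End (ZMod p) V) {a b : H} (h : a * b = b * a) (v : V) :
    ρ a (ρ b v) = ρ b (ρ a v) := by
  rw [← Module.End.mul_apply, ← map_mul, h, map_mul, Module.End.mul_apply]

/-- The module theorem. -/
theorem core [Finite V] (ρ : H →* End (ZMod p) V) (hρ : Function.Injective ρ)
    (hsol : IsPSolvable p H) (hOp : pCore p H = ⊥) (A : Subgroup H)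
    (hA : IsElementaryAbelian p A) (hA1 : A ≠ ⊥) (U : Submodule (ZMod p) V)
    (h1 : ∀ a ∈ A, ∀ v, ρ a v - v ∈ U)
    (h2 : ∀ a ∈ A, ∀ u ∈ U, ρ a u = u)
    (h3 : ∀ v, v ∉ U → ∀ u ∈ U, ∃ a ∈ A, ρ a v - v = u) :
    Nat.card A = p ∧ Nat.card U = p ∧ ∀ a ∈ A, a ≠ 1 → ∀ v, ρ a v = v → v ∈ U := by
  classical
  have hpp : p.Prime := hp.out
  set N := pPrimeCore p H with hN
  haveI hNn : N.Normal := Cfsg.Agent.Lib.Basic.PCore.pPrimeCore_normal p H
  have hNc : (Nat.card N).Coprime p := Cfsg.Agent.Lib.Solvable.PSeries.pPrimeCore_coprime p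
  have hX : ¬ p ∣ Nat.card N := by
    intro h
    have := Nat.Coprime.eq_one_of_dvd hNc.symm h
    exact hpp.one_lt.ne' this
  have hAc : ∀ a ∈ A, ∀ b ∈ A, a * b = b * a := by
    intro a ha b hb
    have := hA.1.is_comm.comm ⟨a, ha⟩ ⟨b, hb⟩
    simpa using congrArg Subtype.val this
  -- Step 1
  obtain ⟨B, hBA, hBidx, t, htA, y₀, hy₀N, hy₀B, hy₀t⟩ : ∃ B : Subgroup H, B ≤ A ∧ B.relIndex A ≤ p ∧
      ∃ t ∈ A, ∃ y₀ ∈ N, y₀ ∈ Subgroup.centralizer (B : Set H) ∧ y₀ * t ≠ t * y₀ := by
    by_contra hall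
    push Not at hall
    have hle : N ≤ Subgroup.centralizer (A : Set H) := by
      refine (Cfsg.Agent.Lib.Coprime.GenerationE.le_iSup_relIndex_le A N hA hX
        (fun a _ => by rw [Subgroup.normalizer_eq_top] <;> trivial)).trans ?_
      refine iSup_le ?_
      rintro ⟨B, hBA, hBi⟩
      rintro y ⟨hy, hyB⟩
      rw [Subgroup.mem_centralizer_iff]
      intro a ha
      exact (hall B hBA hBi a ha y hy hyB).symm
    have hAle : A ≤ N := by
      have h4 : A ≤ Subgroup.centralizer (N : Set H) := Subgroup.le_centralizer_iff.mp hle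
      exact h4.trans (Cfsg.Agent.Lib.HallHigman.TheoremB.centralizer_pPrimeCore_le hsol hOp)
    apply hA1
    rw [eq_bot_iff]
    intro a ha
    rw [Subgroup.mem_bot]
    have h5 : a ^ p = 1 := hA.2 a ha
    have h6 : a ^ Nat.card N = 1 := by
      have h7 := pow_card_eq_one' (x := (⟨a, hAle ha⟩ : N))
      have h9 := congrArg Subtype.val h7
      rwa [Subgroup.coe_pow, Subgroup.coe_one] at h9
    have h8 : orderOf a ∣ 1 := by
      have := Nat.dvd_gcd (orderOf_dvd_of_pow_eq_one h5) (orderOf_dvd_of_pow_eq_one h6)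
      rwa [Nat.gcd_comm, hNc] at this
    exact orderOf_eq_one_iff.mp (Nat.dvd_one.mp h8)
  set Y : Subgroup H := N ⊓ Subgroup.centralizer (B : Set H) with hY
  have hyY₀ : y₀ ∈ Y := ⟨hy₀N, hy₀B⟩
  have hCb : ∀ y ∈ Y, ∀ b ∈ B, y * b = b * y := by
    intro y hy b hb
    exact ((Subgroup.mem_centralizer_iff.mp hy.2) b hb).symm
  have hYt : ∀ y ∈ Y, t * y * t⁻¹ ∈ Y := by
    intro y hy
    refine ⟨hNn.conj_mem y hy.1 t, Subgroup.mem_centralizer_iff.mpr ?_⟩
    intro b hb
    have h4 : b * t = t * b := hAc b (hBA hb) t htA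
    have h5 : y * b = b * y := hCb y hy b hb
    calc b * (t * y * t⁻¹) = (b * t) * y * t⁻¹ := by group
      _ = t * (b * y) * t⁻¹ := by rw [h4]; group
      _ = t * (y * b) * t⁻¹ := by rw [h5]
      _ = t * y * t⁻¹ * (t * b * t⁻¹) := by group
      _ = t * y * t⁻¹ * b := by rw [← h4]; group
  have hYt' : ∀ y ∈ Y, t⁻¹ * y * t ∈ Y := by
    intro y hy
    refine ⟨by simpa using hNn.conj_mem y hy.1 t⁻¹, Subgroup.mem_centralizer_iff.mpr ?_⟩
    intro b hb
    have h4 : b * t = t * b := hAc b (hBA hb) t htA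
    have h4' : b * t⁻¹ = t⁻¹ * b := (Commute.inv_right (h4 : Commute b t)).eq
    have h5 : y * b = b * y := hCb y hy b hb
    calc b * (t⁻¹ * y * t) = (b * t⁻¹) * y * t := by group
      _ = t⁻¹ * (b * y) * t := by rw [h4']; group
      _ = t⁻¹ * (y * b) * t := by rw [h5]
      _ = t⁻¹ * y * (b * t) := by group
      _ = t⁻¹ * y * t * b := by rw [h4]; group
  -- Step 2
  set D : Subgroup H := Subgroup.closure {w | ∃ y ∈ Y, w = y * t * y⁻¹ * t⁻¹} with hD
  have hDN : D ≤ N := by
    rw [hD, Subgroup.closure_le]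
    rintro _ ⟨y, hy, rfl⟩
    have h4 : t * y⁻¹ * t⁻¹ ∈ N := hNn.conj_mem _ (N.inv_mem hy.1) t
    have := N.mul_mem hy.1 h4
    simpa [mul_assoc] using this
  have hDcard : ¬ p ∣ Nat.card D := fun h =>
    hX (h.trans (Subgroup.card_dvd_of_le hDN))
  have hD1 : D ≠ ⊥ := by
    intro h
    have h4 : y₀ * t * y₀⁻¹ * t⁻¹ ∈ D := Subgroup.subset_closure ⟨y₀, hyY₀, rfl⟩
    rw [h, Subgroup.mem_bot] at h4
    apply hy₀t
    calc y₀ * t = (y₀ * t * y₀⁻¹ * t⁻¹) * (t * y₀) := by group
      _ = t * y₀ := by rw [h4, one_mul]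
  have hYD : ∀ y ∈ Y, ∀ d ∈ D, y * d * y⁻¹ ∈ D := by
    intro y hy d hd
    induction hd using Subgroup.closure_induction with
    | mem x hx =>
      obtain ⟨y₁, hy₁, rfl⟩ := hx
      have h4 : (y * y₁) * t * (y * y₁)⁻¹ * t⁻¹ ∈ D :=
        Subgroup.subset_closure ⟨y * y₁, Y.mul_mem hy hy₁, rfl⟩
      have h5 : y * t * y⁻¹ * t⁻¹ ∈ D := Subgroup.subset_closure ⟨y, hy, rfl⟩
      have h6 := D.mul_mem h4 (D.inv_mem h5)
      convert h6 using 1
      group
    | one => simp
    | mul a b _ _ ha hb =>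
      have := D.mul_mem ha hb
      convert this using 1
      group
    | inv a _ ha =>
      have := D.inv_mem ha
      convert this using 1
      group
  have htD : ∀ d ∈ D, t * d * t⁻¹ ∈ D := by
    intro d hd
    induction hd using Subgroup.closure_induction with
    | mem x hx =>
      obtain ⟨y₁, hy₁, rfl⟩ := hx
      have h4 : (t * y₁ * t⁻¹) * t * (t * y₁ * t⁻¹)⁻¹ * t⁻¹ ∈ D :=
        Subgroup.subset_closure ⟨_, hYt y₁ hy₁, rfl⟩
      convert h4 using 1
      group
    | one => simp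
    | mul a b _ _ ha hb =>
      have := D.mul_mem ha hb
      convert this using 1
      group
    | inv a _ ha =>
      have := D.inv_mem ha
      convert this using 1
      group
  have htD' : ∀ d ∈ D, t⁻¹ * d * t ∈ D := by
    intro d hd
    induction hd using Subgroup.closure_induction with
    | mem x hx =>
      obtain ⟨y₁, hy₁, rfl⟩ := hx
      have h4 : (t⁻¹ * y₁ * t) * t * (t⁻¹ * y₁ * t)⁻¹ * t⁻¹ ∈ D :=
        Subgroup.subset_closure ⟨_, hYt' y₁ hy₁, rfl⟩
      convert h4 using 1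
      group
    | one => simp
    | mul a b _ _ ha hb =>
      have := D.mul_mem ha hb
      convert this using 1
      group
    | inv a _ ha =>
      have := D.inv_mem ha
      convert this using 1
      group
  have hBD : ∀ b ∈ B, ∀ d ∈ D, b * d = d * b := by
    intro b hb d hd
    have hle : D ≤ Subgroup.centralizer ({b} : Set H) := by
      rw [hD, Subgroup.closure_le]
      rintro _ ⟨y, hy, rfl⟩
      rw [SetLike.mem_coe, Subgroup.mem_centralizer_singleton_iff]
      have h4 : y * b = b * y := hCb y hy b hb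
      have h5 : t * b = b * t := hAc t htA b (hBA hb)
      have h4' : y⁻¹ * b = b * y⁻¹ := (Commute.inv_left (h4 : Commute y b)).eq
      have h5' : t⁻¹ * b = b * t⁻¹ := (Commute.inv_left (h5 : Commute t b)).eq
      calc y * t * y⁻¹ * t⁻¹ * b = y * t * y⁻¹ * (t⁻¹ * b) := by group
        _ = y * t * (y⁻¹ * b) * t⁻¹ := by rw [h5']; group
        _ = y * (t * b) * y⁻¹ * t⁻¹ := by rw [h4']; group
        _ = (y * b) * t * y⁻¹ * t⁻¹ := by rw [h5]; group
        _ = b * (y * t * y⁻¹ * t⁻¹) := by rw [h4]; group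
    exact ((Subgroup.mem_centralizer_singleton_iff).mp (hle hd)).symm
  -- Step 3
  obtain ⟨e, he1, he2, he3⟩ := exists_proj ρ D hDcard
  have heid : ∀ v, e (e v) = e v := fun v => he2 _ (fun d hd => he1 d hd v)
  have hey : ∀ y ∈ Y, ∀ v, ρ y (e v) = e (ρ y v) := fun y hy v =>
    he3 y (hYD y hy) (fun d hd => by simpa using hYD y⁻¹ (Y.inv_mem hy) d hd) v
  have het : ∀ v, ρ t (e v) = e (ρ t v) := fun v => he3 t htD htD' v
  have heb : ∀ b ∈ B, ∀ v, ρ b (e v) = e (ρ b v) := by
    intro b hb v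
    refine he3 b ?_ ?_ v
    · intro d hd
      rw [hBD b hb d hd, mul_inv_cancel_right]
      exact hd
    · intro d hd
      have : b⁻¹ * d * b = d := by
        rw [mul_assoc, ← hBD b hb d hd, inv_mul_cancel_left]
      rw [this]
      exact hd
  have hK : ∀ X : Set V, (∀ y ∈ Y, ∀ x ∈ X, ρ y x ∈ X) → (∀ x ∈ X, ρ t x = x) →
      ∀ d ∈ D, ∀ x ∈ X, ρ d x = x := by
    intro X hXY hXt d hd
    induction hd using Subgroup.closure_induction with
    | mem w hw =>
      obtain ⟨y, hy, rfl⟩ := hw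
      intro x hx
      simp only [map_mul, Module.End.mul_apply]
      rw [rho_inv_of_fixed ρ (hXt x hx), hXt _ (hXY y⁻¹ (Y.inv_mem hy) x hx)]
      rw [← Module.End.mul_apply, ← map_mul, mul_inv_cancel, map_one, Module.End.one_apply]
    | one => intro x _; simp
    | mul a b _ _ ha hb =>
      intro x hx
      rw [map_mul, Module.End.mul_apply, hb x hx, ha x hx]
    | inv a _ ha =>
      intro x hx
      exact rho_inv_of_fixed ρ (ha x hx)
  -- Claim A
  have hclaimA : ∀ b ∈ B, ∀ v, e v = 0 → ρ b v = v := by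
    intro b hb v hv
    have hfix := hK {x | ∃ w, e w = 0 ∧ x = ρ b w - w} (by
        rintro y hy _ ⟨w, hw, rfl⟩
        refine ⟨ρ y w, ?_, ?_⟩
        · rw [← hey y hy, hw, map_zero]
        · rw [map_sub, rho_comm ρ (hCb y hy b hb)]) (by
        rintro _ ⟨w, _, rfl⟩
        exact h2 t htA _ (h1 b (hBA hb) w))
    have h4 : e (ρ b v - v) = ρ b v - v := he2 _ (fun d hd => hfix d hd _ ⟨v, hv, rfl⟩)
    have h5 : e (ρ b v - v) = 0 := by
      rw [map_sub, ← heb b hb, hv, map_zero, sub_zero]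
    rw [h5] at h4
    exact (sub_eq_zero.mp h4.symm)
  -- Claim C
  obtain ⟨v₁, hv₁e, hv₁t⟩ : ∃ v₁, e v₁ = 0 ∧ ρ t v₁ ≠ v₁ := by
    by_contra hcon
    push Not at hcon
    have hfix := hK {x | e x = 0} (by
        intro y hy x hx
        show e (ρ y x) = 0
        rw [← hey y hy, show e x = 0 from hx, map_zero]) hcon
    apply hD1
    rw [eq_bot_iff]
    intro d hd
    rw [Subgroup.mem_bot]
    apply hρ
    rw [map_one]
    ext v
    rw [Module.End.one_apply]
    have h4 : ρ d (v - e v) = v - e v := hfix d hd _ (by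
      show e (v - e v) = 0
      rw [map_sub, heid, sub_self])
    rw [map_sub, he1 d hd, sub_left_inj] at h4
    exact h4
  have hv₁U : v₁ ∉ U := fun h => hv₁t (h2 t htA v₁ h)
  set x₁ : V := ρ t v₁ - v₁ with hx₁
  have hx₁ne : x₁ ≠ 0 := sub_ne_zero.mpr hv₁t
  have hx₁U : x₁ ∈ U := h1 t htA v₁
  have hx₁e : e x₁ = 0 := by
    rw [hx₁, map_sub, ← het, hv₁e, map_zero, sub_zero]
  -- Step 4
  have hUle : Nat.card U ≤ p := by
    let ψ : A →* Multiplicative U :=
      { toFun := fun a => Multiplicative.ofAdd ⟨ρ a v₁ - v₁, h1 a a.2 v₁⟩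
        map_one' := by
          simp
        map_mul' := by
          intro a b
          rw [← ofAdd_add]
          congr 1
          apply Subtype.ext
          show ρ (a * b : H) v₁ - v₁ = (ρ a v₁ - v₁) + (ρ b v₁ - v₁)
          have h4 : ρ a (ρ b v₁ - v₁) = ρ b v₁ - v₁ := h2 a a.2 _ (h1 b b.2 v₁)
          rw [map_sub] at h4
          rw [map_mul, Module.End.mul_apply]
          have h5 : ρ (a : H) (ρ (b : H) v₁) = ρ b v₁ - v₁ + ρ a v₁ := by
            rw [← h4]; abel
          rw [h5]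
          abel }
    have hψs : Function.Surjective ψ := by
      intro u
      obtain ⟨a, ha, hau⟩ := h3 v₁ hv₁U _ (Multiplicative.toAdd u).2
      refine ⟨⟨a, ha⟩, ?_⟩
      apply Multiplicative.toAdd.injective
      apply Subtype.ext
      exact hau
    have hker : B.subgroupOf A ≤ ψ.ker := by
      intro a ha
      rw [Subgroup.mem_subgroupOf] at ha
      rw [MonoidHom.mem_ker]
      apply Multiplicative.toAdd.injective
      apply Subtype.ext
      show ρ (a : H) v₁ - v₁ = 0
      rw [hclaimA _ ha v₁ hv₁e, sub_self]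
    have h4 : Nat.card U = ψ.ker.index := by
      rw [Subgroup.index_ker, MonoidHom.range_eq_top.mpr hψs, Nat.card_congr Subgroup.topEquiv.toEquiv]
      rfl
    have h5 : ψ.ker.index ∣ (B.subgroupOf A).index := Subgroup.index_dvd_of_le hker
    have h6 : (B.subgroupOf A).index = B.relIndex A := rfl
    rw [h4]
    refine (Nat.le_of_dvd ?_ h5).trans (h6 ▸ hBidx)
    exact Nat.pos_of_ne_zero Subgroup.index_ne_zero_of_finite
  -- Step 5
  let φ : ZMod p → U := fun c => ⟨c • x₁, U.smul_mem c hx₁U⟩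
  have hφi : Function.Injective φ := by
    intro c c' h
    have h4 : c • x₁ = c' • x₁ := congrArg Subtype.val h
    by_contra hne
    apply hx₁ne
    have h5 : (c - c') • x₁ = 0 := by rw [sub_smul, h4, sub_self]
    exact (smul_eq_zero.mp h5).resolve_left (sub_ne_zero.mpr hne)
  have hcardp : Nat.card (ZMod p) = p := Nat.card_zmod p
  have hφb : Function.Bijective φ := hφi.bijective_of_nat_card_le (by rw [hcardp]; exact hUle)
  have hUcard : Nat.card U = p := by
    rw [← Nat.card_congr (Equiv.ofBijective φ hφb), hcardp]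
  have hUe : ∀ u ∈ U, e u = 0 := by
    intro u hu
    obtain ⟨c, hc⟩ := hφb.2 ⟨u, hu⟩
    have h4 : c • x₁ = u := congrArg Subtype.val hc
    rw [← h4, map_smul, hx₁e, smul_zero]
  -- Step 6
  have hBbot : B = ⊥ := by
    rw [eq_bot_iff]
    intro b hb
    rw [Subgroup.mem_bot]
    apply hρ
    rw [map_one]
    ext v
    rw [Module.End.one_apply]
    have h4 : ρ b (v - e v) = v - e v := hclaimA b hb _ (by rw [map_sub, heid, sub_self])
    have h5 : ρ b (e v) - e v = 0 := by
      have h6 : e (ρ b (e v) - e v) = 0 := hUe _ (h1 b (hBA hb) _)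
      have h7 : e (ρ b (e v) - e v) = ρ b (e v) - e v := by
        apply he2
        intro d hd
        rw [map_sub, he1 d hd, rho_comm ρ (hBD b hb d hd).symm, he1 d hd]
      rw [← h7, h6]
    have h6 : ρ b (e v) = e v := sub_eq_zero.mp h5
    rw [map_sub, h6, sub_left_inj] at h4
    exact h4
  -- Step 7
  have hAle : Nat.card A ≤ p := by
    have h4 := hBidx
    rwa [hBbot, Subgroup.relIndex_bot_left] at h4
  obtain ⟨a₀, ha₀, ha₀1⟩ : ∃ a ∈ A, a ≠ 1 := by
    by_contra hcon
    push Not at hcon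
    apply hA1
    rw [eq_bot_iff]
    intro a ha
    rw [Subgroup.mem_bot]
    exact hcon a ha
  have hAcard : Nat.card A = p := by
    have h4 : orderOf a₀ = p := orderOf_eq_prime (hA.2 a₀ ha₀) ha₀1
    have h5 : p ∣ Nat.card A := by
      rw [← h4, ← Subgroup.orderOf_mk a₀ ha₀]
      exact orderOf_dvd_natCard _
    exact le_antisymm hAle (Nat.le_of_dvd Nat.card_pos h5)
  refine ⟨hAcard, hUcard, ?_⟩
  intro a ha ha1 v hv
  by_contra hvU
  obtain ⟨a', ha', hau⟩ := h3 v hvU x₁ hx₁U
  have h4 : (⟨a', ha'⟩ : A) ∈ Subgroup.zpowers (⟨a, ha⟩ : A) :=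
    mem_zpowers_of_prime_card hAcard (by
      intro h
      exact ha1 (congrArg Subtype.val h))
  obtain ⟨k, hk⟩ := h4
  have h5 : a ^ k = a' := by
    have := congrArg Subtype.val hk
    simpa using this
  have h6 : ∀ m : ℕ, ρ (a ^ m) v = v := by
    intro m
    induction m with
    | zero => simp
    | succ m ih => rw [pow_succ, map_mul, Module.End.mul_apply, hv, ih]
  have h7 : ρ a' v = v := by
    rw [← h5]
    obtain ⟨m, rfl | rfl⟩ := k.eq_nat_or_neg
    · simpa using h6 m
    · rw [zpow_neg, zpow_natCast]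
      exact rho_inv_of_fixed ρ (h6 m)
  rw [h7, sub_self] at hau
  exact hx₁ne hau.symm

end Cfsg.Agent.Lib.Components.SEModule
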