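import Mathlib
import Cfsg.Agent.Lib.Components.SEModule
import Cfsg.Agent.Lib.Components.SEGroup
import Cfsg.Agent.Lib.HallHigman.Layer

set_option autoImplicit false
set_option linter.unusedSectionVars false
set_option linter.style.haveILetI false

/-!
# `p`-length one for semi-extraspecial Sylow subgroups
-/

namespace Cfsg.Agent.Lib.Components.SELength

open scoped commutatorElement
open Module (End)
open Cfsg Cfsg.Agent.Lib.Solvable.PSeries Cfsg.Agent.Lib.Basic.PCore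
open Cfsg.Agent.Lib.Components.SEGroup Cfsg.Agent.Lib.Components.SEModule
open Cfsg.Agent.Lib.HallHigman.Layer

variable {G : Type*} [Group G] [Finite G] {p : ℕ} [hp : Fact p.Prime]

theorem sylow_le_core (hsol : IsPSolvable p G) (hcore : pPrimeCore p G = ⊥) (S : Sylow p G)
    (hS : SEGroup p (S : Subgroup G)) : (S : Subgroup G) ≤ pCore p G := by
  classical
  have hpp : p.Prime := hp.out
  by_contra hnot
  set R := pCore p G with hR
  haveI hRn : R.Normal := pCore_normal p G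
  have hRS : R ≤ S := pCore_le_sylow S
  have hRp : IsPGroup p R := pCore_isPGroup p
  obtain ⟨V, _, _, hfinV, ρ, π, hπ, hρ, hact⟩ := exists_layer hsol hcore
  set SG : Subgroup G := (S : Subgroup G) with hSG
  -- the centre
  set Zg : Subgroup G := (Subgroup.center SG).map SG.subtype with hZg
  have hZS : Zg ≤ SG := by
    rintro _ ⟨z, _, rfl⟩
    exact z.2
  have hZcomm : ∀ z ∈ Zg, ∀ s ∈ SG, s * z = z * s := by
    rintro _ ⟨z, hz, rfl⟩ s hs
    have := Subgroup.mem_center_iff.mp hz ⟨s, hs⟩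
    exact congrArg Subtype.val this
  have hZmem : ∀ z (hz : z ∈ SG), (⟨z, hz⟩ : SG) ∈ Subgroup.center SG ↔ z ∈ Zg := by
    intro z hz
    constructor
    · intro h
      exact ⟨⟨z, hz⟩, h, rfl⟩
    · intro h
      rw [Subgroup.mem_center_iff]
      intro g
      apply Subtype.ext
      exact hZcomm z h g g.2
  have hZR : Zg ≤ R := by
    intro z hz
    apply centralizer_pCore_le hsol hcore
    rw [Subgroup.mem_centralizer_iff]
    intro w hw
    exact hZcomm z hz w (hRS hw)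
  have hcommZ : ∀ s ∈ SG, ∀ s' ∈ SG, ⁅s, s'⁆ ∈ Zg := by
    intro s hs s' hs'
    have h1 := hS.cent ⟨s, hs⟩ ⟨s', hs'⟩
    exact ⟨_, h1, rfl⟩
  have hpowZ : ∀ s ∈ SG, s ^ p ∈ Zg := by
    intro s hs
    have h1 := hS.powc ⟨s, hs⟩
    exact ⟨_, h1, rfl⟩
  -- notation
  let f : R → V := fun u => Multiplicative.toAdd (π u)
  have hfs : Function.Surjective f := fun v => by
    obtain ⟨u, hu⟩ := hπ (Multiplicative.ofAdd v)
    exact ⟨u, by simp [f, hu]⟩
  have hfmul : ∀ a b : R, f (a * b) = f a + f b := fun a b => by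
    simp [f, map_mul]
  have hfinv : ∀ a : R, f a⁻¹ = - f a := fun a => by
    simp [f, map_inv]
  have hkey : ∀ s (hs : s ∈ SG) (u : R),
      ρ (s : G ⧸ R) (f u) - f u = f ⟨⁅s, (u : G)⁆, hZR (hcommZ s hs u (hRS u.2))⟩ := by
    intro s hs u
    have h1 := hact s u
    have h2 : (⟨⁅s, (u : G)⁆, hZR (hcommZ s hs u (hRS u.2))⟩ : R) = MulAut.conjNormal s u * u⁻¹ := by
      apply Subtype.ext
      simp [commutatorElement_def, MulAut.conjNormal_apply]
    rw [h2, hfmul, hfinv, ← sub_eq_add_neg]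
    show _ = Multiplicative.toAdd (π (MulAut.conjNormal s u)) - _
    rw [h1]
  -- the subspace `U`
  let U₀ : AddSubgroup V :=
    { carrier := {v | ∃ z, ∃ hz : z ∈ Zg, f ⟨z, hZR hz⟩ = v}
      zero_mem' := ⟨1, Zg.one_mem, by
        have : (⟨1, hZR Zg.one_mem⟩ : R) = 1 := rfl
        rw [this]
        simp [f]⟩
      add_mem' := by
        rintro _ _ ⟨z, hz, rfl⟩ ⟨z', hz', rfl⟩
        refine ⟨z * z', Zg.mul_mem hz hz', ?_⟩
        rw [← hfmul]
        rfl
      neg_mem' := by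
        rintro _ ⟨z, hz, rfl⟩
        refine ⟨z⁻¹, Zg.inv_mem hz, ?_⟩
        rw [← hfinv]
        rfl }
  let U : Submodule (ZMod p) V := AddSubgroup.toZModSubmodule p U₀
  have hUmem : ∀ v, v ∈ U ↔ ∃ z, ∃ hz : z ∈ Zg, f ⟨z, hZR hz⟩ = v := fun v => Iff.rfl
  set A : Subgroup (G ⧸ R) := SG.map (QuotientGroup.mk' R) with hA
  have hAmem : ∀ a ∈ A, ∃ s ∈ SG, (s : G ⧸ R) = a := by
    rintro _ ⟨s, hs, rfl⟩
    exact ⟨s, hs, rfl⟩
  have hAe : IsElementaryAbelian p A := by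
    constructor
    · refine ⟨⟨?_⟩⟩
      rintro ⟨a, ha⟩ ⟨b, hb⟩
      obtain ⟨s, hs, rfl⟩ := hAmem a ha
      obtain ⟨s', hs', rfl⟩ := hAmem b hb
      apply Subtype.ext
      show (s : G ⧸ R) * s' = s' * s
      rw [← QuotientGroup.mk_mul, ← QuotientGroup.mk_mul, QuotientGroup.eq]
      have : (s * s')⁻¹ * (s' * s) = ⁅s'⁻¹, s⁻¹⁆ := by
        simp only [commutatorElement_def]; group
      rw [this]
      exact hZR (hcommZ _ (SG.inv_mem hs') _ (SG.inv_mem hs))
    · intro a ha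
      obtain ⟨s, hs, rfl⟩ := hAmem a ha
      rw [← QuotientGroup.mk_pow]
      exact (QuotientGroup.eq_one_iff _).2 (hZR (hpowZ s hs))
  have hA1 : A ≠ ⊥ := by
    intro h
    apply hnot
    intro s hs
    have : (s : G ⧸ R) ∈ A := ⟨s, hs, rfl⟩
    rw [h, Subgroup.mem_bot] at this
    exact (QuotientGroup.eq_one_iff _).1 this
  have h1 : ∀ a ∈ A, ∀ v, ρ a v - v ∈ U := by
    intro a ha v
    obtain ⟨s, hs, rfl⟩ := hAmem a ha
    obtain ⟨u, rfl⟩ := hfs v
    rw [hkey s hs u]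
    exact ⟨_, hcommZ s hs u (hRS u.2), rfl⟩
  have hf1 : f 1 = 0 := by simp [f]
  have h2 : ∀ a ∈ A, ∀ u ∈ U, ρ a u = u := by
    intro a ha v hv
    obtain ⟨s, hs, rfl⟩ := hAmem a ha
    obtain ⟨z, hz, rfl⟩ := hv
    have h3 := hkey s hs ⟨z, hZR hz⟩
    have h4 : (⟨⁅s, ((⟨z, hZR hz⟩ : R) : G)⁆, hZR (hcommZ s hs _ (hRS (hZR hz)))⟩ : R) = 1 := by
      apply Subtype.ext
      show ⁅s, z⁆ = 1
      rw [commutatorElement_eq_one_iff_mul_comm]
      exact hZcomm z hz s hs
    rw [h4, hf1] at h3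
    exact sub_eq_zero.mp h3
  have h3 : ∀ v, v ∉ U → ∀ u ∈ U, ∃ a ∈ A, ρ a v - v = u := by
    intro v hv u hu
    obtain ⟨w, rfl⟩ := hfs v
    obtain ⟨z, hz, rfl⟩ := hu
    have hw : (w : G) ∉ Zg := fun h => hv ⟨w, h, rfl⟩
    have hwc : (⟨w, hRS w.2⟩ : SG) ∉ Subgroup.center SG := fun h => hw ((hZmem _ _).1 h)
    have hzc : (⟨z, hZS hz⟩ : SG) ∈ Subgroup.center SG := (hZmem _ _).2 hz
    obtain ⟨s, hs⟩ := hS.se _ hwc _ hzc
    refine ⟨((s : G) : G ⧸ R), ⟨s, s.2, rfl⟩, ?_⟩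
    rw [hkey s s.2 w]
    congr 1
    apply Subtype.ext
    show ⁅(s : G), (w : G)⁆ = z
    exact congrArg Subtype.val hs
  obtain ⟨hAcard, hUcard, hfix⟩ := core ρ hρ (isPSolvable_quotient hsol R) pCore_quotient_eq_bot
    A hAe hA1 U h1 h2 h3
  obtain ⟨a₀, ha₀, ha₀1⟩ : ∃ a ∈ A, a ≠ 1 := by
    by_contra hcon
    push Not at hcon
    apply hA1
    rw [eq_bot_iff]
    intro a ha
    rw [Subgroup.mem_bot]
    exact hcon a ha
  have hord : orderOf a₀ = p := orderOf_eq_prime (hAe.2 a₀ ha₀) ha₀1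
  obtain ⟨v₁, hv₁⟩ : ∃ v, ρ a₀ v ≠ v := by
    by_contra hcon
    push Not at hcon
    apply ha₀1
    apply hρ
    rw [map_one]
    ext v
    exact hcon v
  have hv₁U : v₁ ∉ U := fun h => hv₁ (h2 a₀ ha₀ v₁ h)
  have hv₁0 : v₁ ≠ 0 := by
    rintro rfl
    exact hv₁ (map_zero _)
  haveI hVnt : Nontrivial V := nontrivial_of_ne v₁ 0 hv₁0
  haveI : Module.Finite (ZMod p) V := Module.Finite.of_finite
  -- Theorem B
  have hp3 : p ≤ 3 := by
    have hs : (ρ a₀ - 1) ^ 2 = 0 := by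
      ext v
      rw [pow_two]
      show (ρ a₀ - 1) ((ρ a₀ - 1) v) = 0
      show ρ a₀ (ρ a₀ v - v) - (ρ a₀ v - v) = 0
      rw [h2 a₀ ha₀ _ (h1 a₀ ha₀ v), sub_self]
    rcases theorem_b_field (p := p) ρ hρ (isPSolvable_quotient hsol _) pCore_quotient_eq_bot a₀ 1
      (by rw [hord, pow_one]) 2 hs with hb | ⟨n₀, q, m, h1', h2', _, _, _, _, h7'⟩
    · rw [pow_one] at hb
      omega
    · have hn₀ : n₀ = 1 := by omega
      subst hn₀
      simp at h7'
      omega
  set x₁ : V := ρ a₀ v₁ - v₁ with hx₁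
  have hx₁0 : x₁ ≠ 0 := sub_ne_zero.mpr hv₁
  have hx₁U : x₁ ∈ U := h1 a₀ ha₀ v₁
  -- the kernel
  have hZker : ∀ w : R, f w ∈ U → (w : G) ∈ Zg := by
    intro w hw
    by_contra hwn
    have hwc : (⟨w, hRS w.2⟩ : SG) ∉ Subgroup.center SG := fun h => hwn ((hZmem _ _).1 h)
    obtain ⟨z, hz, hzx⟩ := hx₁U
    have hzc : (⟨z, hZS hz⟩ : SG) ∈ Subgroup.center SG := (hZmem _ _).2 hz
    obtain ⟨s, hs⟩ := hS.se _ hwc _ hzc
    apply hx₁0
    rw [← hzx]
    have h4 := hkey s s.2 w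
    have h5 : ρ ((s : G) : G ⧸ R) (f w) = f w := h2 _ ⟨s, s.2, rfl⟩ _ hw
    rw [h5, sub_self] at h4
    rw [show (⟨z, hZR hz⟩ : R) = ⟨⁅(s : G), (w : G)⁆, hZR (hcommZ s s.2 w (hRS w.2))⟩ from
      Subtype.ext (congrArg Subtype.val hs).symm]
    exact h4.symm
  obtain ⟨w₁, hw₁⟩ := hfs v₁
  have hw₁Z : (w₁ : G) ∉ Zg := fun h => hv₁U ⟨_, h, hw₁⟩
  -- the index of `Z` in `R`
  have hidxZ : Zg.relIndex R = p := by
    let T : R →* Multiplicative U :=
      { toFun := fun w => Multiplicative.ofAdd ⟨ρ a₀ (f w) - f w, h1 a₀ ha₀ _⟩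
        map_one' := by
          rw [hf1]
          simp
        map_mul' := by
          intro a b
          rw [← ofAdd_add]
          congr 1
          apply Subtype.ext
          show ρ a₀ (f (a * b)) - f (a * b) = (ρ a₀ (f a) - f a) + (ρ a₀ (f b) - f b)
          rw [hfmul, map_add]
          abel }
    have hker : T.ker ≤ Zg.subgroupOf R := by
      intro w hw
      rw [Subgroup.mem_subgroupOf]
      apply hZker
      rw [MonoidHom.mem_ker] at hw
      have h4 : ρ a₀ (f w) - f w = 0 := by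
        have := congrArg (fun x => ((Multiplicative.toAdd x : U) : V)) hw
        exact this
      exact hfix a₀ ha₀ ha₀1 _ (sub_eq_zero.mp h4)
    have h4 : (Zg.subgroupOf R).index ∣ T.ker.index := Subgroup.index_dvd_of_le hker
    have h5 : T.ker.index ≤ p := by
      rw [Subgroup.index_ker]
      calc Nat.card T.range ≤ Nat.card (Multiplicative U) := Subgroup.card_le_card_group _
        _ = Nat.card U := rfl
        _ = p := hUcard
    have h6 : Zg.relIndex R ≤ p := (Nat.le_of_dvd (Nat.pos_of_ne_zero Subgroup.index_ne_zero_of_finite) h4).trans h5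
    obtain ⟨k, hk⟩ := IsPGroup.iff_card.mp hRp
    have h7 : Zg.relIndex R ∣ p ^ k := by
      rw [← hk]
      exact Subgroup.relIndex_dvd_card _ _
    obtain ⟨j, _, hj⟩ := (Nat.dvd_prime_pow hpp).mp h7
    have hj0 : j ≠ 0 := by
      rintro rfl
      rw [pow_zero] at hj
      exact hw₁Z (Subgroup.relIndex_eq_one.mp hj w₁.2)
    have hj1 : j = 1 := by
      by_contra hne
      have h8 : p ^ 2 ≤ p ^ j := Nat.pow_le_pow_right hpp.pos (by omega)
      rw [hj] at h6
      nlinarith [hpp.two_le]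
    rw [hj, hj1, pow_one]
  have hcardR : Nat.card R = Nat.card Zg * p := by
    have h4 := Subgroup.card_mul_index (Zg.subgroupOf R)
    rw [Nat.card_congr (Subgroup.subgroupOfEquivOfLe hZR).toEquiv] at h4
    rw [← h4]
    congr 1
  have hidxS : R.relIndex SG = p := by
    let F : SG →* G ⧸ R := (QuotientGroup.mk' R).comp SG.subtype
    have hkerF : F.ker = R.subgroupOf SG := by
      ext x
      rw [MonoidHom.mem_ker, Subgroup.mem_subgroupOf]
      exact QuotientGroup.eq_one_iff _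
    have hrangeF : F.range = A := by
      rw [MonoidHom.range_comp, Subgroup.range_subtype]
    show (R.subgroupOf SG).index = p
    rw [← hkerF, Subgroup.index_ker, hrangeF, hAcard]
  have hcardS : Nat.card SG = Nat.card R * p := by
    have h4 := Subgroup.card_mul_index (R.subgroupOf SG)
    rw [Nat.card_congr (Subgroup.subgroupOfEquivOfLe hRS).toEquiv] at h4
    rw [← h4]
    congr 1
  have hcardZ : Nat.card (Subgroup.center SG) = Nat.card Zg :=
    (Subgroup.card_map_of_injective SG.subtype_injective).symm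
  have hfin : Nat.card SG = p ^ 2 * Nat.card (Subgroup.center SG) := by
    rw [hcardS, hcardR, hcardZ]
    ring
  have hw₁c : (⟨w₁, hRS w₁.2⟩ : SG) ∉ Subgroup.center SG := fun h => hw₁Z ((hZmem _ _).1 h)
  obtain ⟨z, hz, hzx⟩ := hx₁U
  have hzc : (⟨z, hZS hz⟩ : SG) ∈ Subgroup.center SG := (hZmem _ _).2 hz
  obtain ⟨k, hk⟩ := Subgroup.mem_zpowers_iff.mp (hS.fin hp3 hfin _ hw₁c _ hzc)
  have hzk : (⟨z, hZR hz⟩ : R) = w₁ ^ k := by
    apply Subtype.ext
    have := congrArg Subtype.val hk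
    simpa using this.symm
  have hfz : f ⟨z, hZR hz⟩ = k • v₁ := by
    rw [hzk, ← hw₁]
    simp [f, map_zpow]
  rw [hfz, ← Int.cast_smul_eq_zsmul (ZMod p) k v₁] at hzx
  by_cases hk0 : ((k : ℤ) : ZMod p) = 0
  · rw [hk0, zero_smul] at hzx
    exact hx₁0 hzx.symm
  · apply hv₁U
    have h4 : v₁ = ((k : ℤ) : ZMod p)⁻¹ • x₁ := by
      rw [← hzx, smul_smul, inv_mul_cancel₀ hk0, one_smul]
    rw [h4]
    refine U.smul_mem _ (h1 a₀ ha₀ v₁)

/-- **`p`-length one.** -/
theorem plength_one (hsol : IsPSolvable p G) (Q : Sylow p G) (hQ : SEGroup p (Q : Subgroup G)) :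
    PLengthLE p 1 G := by
  classical
  have hpp : p.Prime := hp.out
  apply pLengthLE_succ_of_layer (k := 0)
  rw [pLengthLE_zero_iff]
  set O := pPrimeCore p G with hO
  haveI hOn : O.Normal := pPrimeCore_normal p G
  have hcore₁ : pPrimeCore p (G ⧸ O) = ⊥ := pPrimeCore_quotient p
  have hsol₁ := isPSolvable_quotient hsol O
  let π : G →* G ⧸ O := QuotientGroup.mk' O
  have hπ : Function.Surjective π := QuotientGroup.mk'_surjective O
  let S₁ : Sylow p (G ⧸ O) := Q.mapSurjective hπ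
  have hinj : Function.Injective (π.subgroupMap (Q : Subgroup G)) := by
    rw [injective_iff_map_eq_one]
    rintro ⟨x, hx⟩ h
    have h1 : x ∈ O := by
      have h2 : π x = 1 := congrArg Subtype.val h
      exact (QuotientGroup.eq_one_iff x).1 h2
    obtain ⟨k, hk⟩ := IsPGroup.iff_card.mp Q.isPGroup'
    have h3 : orderOf x ∣ p ^ k := by
      rw [← hk, ← Subgroup.orderOf_mk x hx]
      exact orderOf_dvd_natCard _
    have h4 : orderOf x ∣ Nat.card O := by
      rw [← Subgroup.orderOf_mk x h1]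
      exact orderOf_dvd_natCard _
    have h5 : (Nat.card O).Coprime p := pPrimeCore_coprime p
    have h6 : orderOf x = 1 := Nat.eq_one_of_dvd_coprimes (h5.pow_right k) h4 h3
    apply Subtype.ext
    exact orderOf_eq_one_iff.mp h6
  let e : (Q : Subgroup G) ≃* (S₁ : Subgroup (G ⧸ O)) :=
    MulEquiv.ofBijective (π.subgroupMap (Q : Subgroup G)) ⟨hinj, π.subgroupMap_surjective _⟩
  have hS₁ : SEGroup p (S₁ : Subgroup (G ⧸ O)) := SEGroup.of_mulEquiv e.symm hQ
  have hle := sylow_le_core hsol₁ hcore₁ S₁ hS₁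
  have h1 : (pCore p (G ⧸ O)).index ∣ (S₁ : Subgroup (G ⧸ O)).index := Subgroup.index_dvd_of_le hle
  have h2 : ¬ p ∣ (pCore p (G ⧸ O)).index := fun h => S₁.not_dvd_index (h.trans h1)
  exact ((Nat.Prime.coprime_iff_not_dvd hpp).mpr h2).symm

end Cfsg.Agent.Lib.Components.SELength
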