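import Mathlib
import Cfsg.Prelude.Def_Local
import Cfsg.Agent.Lib.Components.StdBasic

/-!
Standard subgroups with centralizer of `2`-rank one (a four-group argument).
-/

set_option autoImplicit false

namespace Cfsg.Agent.Lib.Components.StdThree

open Cfsg Cfsg.Agent.Lib.Components Cfsg.Agent.Lib.Components.PComponent
open Cfsg.Agent.Lib.Components.StdBasic
open scoped commutatorElement

variable {X : Type*} [Group X] [Finite X]
set_option linter.unusedSectionVars false

open Cfsg.Agent.Lib.PSL2.KleinPairs in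
/-- Commuting involutions in a subgroup of `2`-rank at most one coincide. -/
theorem eq_of_commute_of_rank {K : Subgroup X} (hr : PRankLE 2 1 ↥K) {x y : X}
    (hx : orderOf x = 2) (hy : orderOf y = 2) (hxK : x ∈ K) (hyK : y ∈ K) (hc : x * y = y * x) :
    x = y := by
  by_contra hne
  have hx1 : x ≠ 1 := by
    rintro rfl
    rw [orderOf_one] at hx
    omega
  have hy1 : y ≠ 1 := by
    rintro rfl
    rw [orderOf_one] at hy
    omega
  have hxx : x * x = 1 := by rw [← pow_two, ← hx, pow_orderOf_eq_one]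
  have hyy : y * y = 1 := by rw [← pow_two, ← hy, pow_orderOf_eq_one]
  have hPP : IsPP x y := ⟨hx1, hy1, hne, hxx, hyy, hc⟩
  have hle : fourOf x y hPP ≤ K := by
    rintro v (rfl | rfl | rfl | rfl)
    · exact K.one_mem
    · exact hxK
    · exact hyK
    · exact K.mul_mem hxK hyK
  have hK := isKleinFour_fourOf hPP
  have hcomm : IsMulCommutative ↥(fourOf x y hPP) := by
    have := hK
    exact IsKleinFour.isMulCommutative
  have h1 := hr ((fourOf x y hPP).subgroupOf K)
    (by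
      refine ⟨⟨?_⟩⟩
      rintro ⟨a, ha⟩ ⟨b, hb⟩
      apply Subtype.ext
      apply Subtype.ext
      have ha' : (a : X) ∈ fourOf x y hPP := ha
      have hb' : (b : X) ∈ fourOf x y hPP := hb
      have := hcomm.is_comm.comm ⟨a, ha'⟩ ⟨b, hb'⟩
      have h3 : (a : X) * b = b * a := congrArg Subtype.val this
      exact h3)
    (by
      rintro ⟨a, ha⟩ ha'
      apply Subtype.ext
      have hmem : (a : X) ∈ fourOf x y hPP := ha'
      have h2 : ∀ v ∈ fourOf x y hPP, v ^ 2 = 1 := by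
        rintro v (rfl | rfl | rfl | rfl)
        · simp
        · rw [pow_two, hxx]
        · rw [pow_two, hyy]
        · rw [pow_two]; exact hPP.ab_sq
      exact h2 _ hmem)
  rw [Nat.card_congr (Subgroup.subgroupOfEquivOfLe hle).toEquiv, card_fourOf hPP] at h1
  omega

/-- Two involutions in a `2`-subgroup of a subgroup of `2`-rank at most one coincide. -/
theorem eq_of_involutions_of_pGroup {K W : Subgroup X} (hr : PRankLE 2 1 ↥K) (hW : W ≤ K)
    (h2 : IsPGroup 2 W) {x y : X} (hx : orderOf x = 2) (hy : orderOf y = 2) (hxW : x ∈ W)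
    (hyW : y ∈ W) : x = y := by
  have : Fact (Nat.Prime 2) := ⟨Nat.prime_two⟩
  have hnt : Nontrivial ↥W := by
    refine ⟨⟨⟨x, hxW⟩, 1, ?_⟩⟩
    intro h
    have : x = 1 := congrArg Subtype.val h
    rw [this, orderOf_one] at hx
    omega
  have hcnt : Nontrivial ↥(Subgroup.center ↥W) := h2.center_nontrivial
  have hp : IsPGroup 2 ↥(Subgroup.center ↥W) := h2.to_subgroup _
  obtain ⟨k, hk⟩ := IsPGroup.iff_card.mp hp
  have hk0 : k ≠ 0 := by
    rintro rfl
    have h1 : Nat.card ↥(Subgroup.center ↥W) = 1 := by rw [hk, pow_zero]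
    have := (Nat.card_eq_one_iff_unique.mp h1).1
    exact not_subsingleton _ this
  have h2dvd : 2 ∣ Nat.card ↥(Subgroup.center ↥W) := by
    rw [hk]; exact dvd_pow_self 2 hk0
  obtain ⟨z, hz⟩ := exists_prime_orderOf_dvd_card' 2 h2dvd
  have hz' : orderOf ((z : ↥W) : X) = 2 := by
    rw [Subgroup.orderOf_coe, Subgroup.orderOf_coe]; exact hz
  have hcen : ∀ a : ↥W, (a : X) * ((z : ↥W) : X) = ((z : ↥W) : X) * a := by
    intro a
    have := Subgroup.mem_center_iff.mp z.2 a
    have h5 : (a : X) * ((z : ↥W) : X) = ((z : ↥W) : X) * a := congrArg Subtype.val this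
    exact h5
  have h1 := eq_of_commute_of_rank hr hx hz' (hW hxW) (hW (z : ↥W).2) (hcen ⟨x, hxW⟩)
  have h3 := eq_of_commute_of_rank hr hy hz' (hW hyW) (hW (z : ↥W).2) (hcen ⟨y, hyW⟩)
  rw [h1, h3]

/-- An element normalizing a Sylow `2`-subgroup, with square inside it, lies in it. -/
theorem mem_sylow_of_normalizes {N : Type*} [Group N] [Finite N] (S : Sylow 2 N) (g : N)
    (hgN : ∀ s ∈ (S : Subgroup N), g * s * g⁻¹ ∈ (S : Subgroup N)) (hg2 : g ^ 2 ∈ (S : Subgroup N)) :
    g ∈ (S : Subgroup N) := by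
  have : Fact (Nat.Prime 2) := ⟨Nat.prime_two⟩
  have hp : IsPGroup 2 ↥(Subgroup.zpowers g) := by
    obtain ⟨k, hk⟩ := S.isPGroup' ⟨_, hg2⟩
    have h1 : g ^ (2 * 2 ^ k) = 1 := by
      rw [pow_mul]
      exact congrArg Subtype.val hk
    have h2 : orderOf g ∣ 2 ^ (k + 1) := by
      apply orderOf_dvd_of_pow_eq_one
      rw [pow_succ, mul_comm]; exact h1
    obtain ⟨m, -, hm⟩ := (Nat.dvd_prime_pow Nat.prime_two).mp h2
    rw [IsPGroup.iff_card, Nat.card_zpowers]
    exact ⟨m, hm⟩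
  have hn : g ∈ Subgroup.normalizer ((S : Subgroup N) : Set N) := by
    rw [Subgroup.mem_normalizer_iff]
    intro s
    constructor
    · exact hgN s
    · intro hs
      -- finite order: conjugation is a bijection of a finite set
      have hinj : Function.Injective (fun x : ↥(S : Subgroup N) =>
          (⟨g * x * g⁻¹, hgN x x.2⟩ : ↥(S : Subgroup N))) := by
        intro a b h
        have h1 := congrArg Subtype.val h
        simpa using h1
      obtain ⟨a, ha⟩ := (Finite.injective_iff_surjective.mp hinj) ⟨_, hs⟩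
      have h1 : g * (a : N) * g⁻¹ = g * s * g⁻¹ := congrArg Subtype.val ha
      have h2 : (a : N) = s := by simpa using h1
      rw [← h2]; exact a.2
  have h := hp.inf_normalizer_sylow S
  have h3 := h.le ⟨Subgroup.mem_zpowers g, hn⟩
  exact h3.2

section main

variable {P : Subgroup X}

/-- The main step: `t ∈ C(P)` an involution, `t₁ = g t g⁻¹ ≠ t` commuting with `t`,
`t₁ ∈ P C(P)`, then `[P, O] = 1`. -/
theorem commute_core_of_conj {K : Subgroup X} (hP : IsStandardSubgroup P)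
    (hK : K = Subgroup.centralizer (P : Set X))
    (hr : PRankLE 2 1 ↥K) (hZ : Odd (Nat.card ↥(Subgroup.center ↥P))) {t g : X}
    (ht : orderOf t = 2) (htK : t ∈ K) (hne : g * t * g⁻¹ ≠ t)
    (hcomm : t * (g * t * g⁻¹) = (g * t * g⁻¹) * t) (hgt : g * t * g⁻¹ ∈ P ⊔ K)
    {O : Subgroup X} [hOn : O.Normal] (hodd : Odd (Nat.card O)) :
    2 ∣ Nat.card P ∧ ∀ x ∈ P, ∀ c ∈ O, x * c = c * x := by
  subst hK
  set K := Subgroup.centralizer (P : Set X) with hKdef
  set t₁ := g * t * g⁻¹ with ht₁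
  have htK' : ∀ a ∈ P, a * t = t * a := fun a ha => Subgroup.mem_centralizer_iff.mp htK a ha
  have ht2 : t * t = 1 := by rw [← pow_two, ← ht, pow_orderOf_eq_one]
  have ht12 : t₁ * t₁ = 1 := by
    have : t₁ * t₁ = g * (t * t) * g⁻¹ := by rw [ht₁]; group
    rw [this, ht2]; group
  have ht1ne : t₁ ≠ 1 := by
    intro h
    apply (show t ≠ 1 by rintro rfl; rw [orderOf_one] at ht; omega)
    have : t = g⁻¹ * t₁ * g := by rw [ht₁]; group
    rw [this, h]; group
  have hPK : ∀ a ∈ P, ∀ b ∈ K, a * b = b * a := fun a ha b hb =>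
    Subgroup.mem_centralizer_iff.mp hb a ha
  obtain ⟨p, hp, c, hc, hpc⟩ := LayerProduct.mem_sup_of_commute hPK hgt
  have hpcc : p * c = c * p := hPK p hp c hc
  set m := Nat.card ↥(Subgroup.center ↥P) with hm
  -- `p²`, `c²` are central in `P`
  have hp2 : p ^ 2 * c ^ 2 = 1 := by
    have : (p * c) ^ 2 = 1 := by rw [← hpc, pow_two]; exact ht12
    rwa [(show Commute p c from hpcc).mul_pow] at this
  have hp2K : p ^ 2 ∈ K := by
    have : p ^ 2 = (c ^ 2)⁻¹ := eq_inv_of_mul_eq_one_left hp2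
    rw [this]
    exact K.inv_mem (K.pow_mem hc 2)
  have hp2Z : (⟨p ^ 2, P.pow_mem hp 2⟩ : ↥P) ∈ Subgroup.center ↥P := by
    rw [Subgroup.mem_center_iff]
    rintro ⟨a, ha⟩
    exact Subtype.ext (Subgroup.mem_centralizer_iff.mp hp2K a ha)
  have hp0 : (p ^ m) ^ 2 = 1 := by
    have h1 : (⟨⟨p ^ 2, P.pow_mem hp 2⟩, hp2Z⟩ : ↥(Subgroup.center ↥P)) ^ m = 1 := by
      rw [hm]; exact pow_card_eq_one'
    have h2 : (p ^ 2) ^ m = 1 := by
      have := congrArg (fun z : ↥(Subgroup.center ↥P) => ((z : ↥P) : X)) h1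
      simpa using this
    rw [← pow_mul, mul_comm, pow_mul]
    exact h2
  have hc0 : (c ^ m) ^ 2 = 1 := by
    have e : c ^ 2 = (p ^ 2)⁻¹ := eq_inv_of_mul_eq_one_right hp2
    have h1 : (p ^ m) ^ 2 = 1 := hp0
    rw [← pow_mul, mul_comm, pow_mul, e, inv_pow, ← pow_mul, mul_comm, pow_mul, h1, inv_one]
  have ht1m : t₁ ^ m = t₁ := by
    obtain ⟨r, hr'⟩ := hZ
    rw [hr', pow_succ, pow_mul, pow_two, ht12, one_pow, one_mul]
  have hprod : t₁ = p ^ m * c ^ m := by
    rw [← (show Commute p c from hpcc).mul_pow, ← hpc, ht1m]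
  set p₀ := p ^ m with hp₀
  set c₀ := c ^ m with hc₀
  have hp₀P : p₀ ∈ P := P.pow_mem hp m
  have hc₀K : c₀ ∈ K := K.pow_mem hc m
  -- `c₀` commutes with `t`
  have hc₀t : c₀ * t = t * c₀ := by
    have e : c₀ = p₀⁻¹ * t₁ := by rw [hprod]; group
    have h1 : p₀⁻¹ * t = t * p₀⁻¹ := htK' _ (P.inv_mem hp₀P)
    rw [e, mul_assoc, ← hcomm, ← mul_assoc, h1, mul_assoc]
  -- `p₀` is not central
  have hp₀K : p₀ ≠ 1 → p₀ ∉ K := by
    intro h1 hmem
    have hZmem : (⟨p₀, hp₀P⟩ : ↥P) ∈ Subgroup.center ↥P := by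
      rw [Subgroup.mem_center_iff]
      rintro ⟨a, ha⟩
      exact Subtype.ext (Subgroup.mem_centralizer_iff.mp hmem a ha)
    have h2 : orderOf (⟨⟨p₀, hp₀P⟩, hZmem⟩ : ↥(Subgroup.center ↥P)) ∣ m := orderOf_dvd_natCard _
    have h3 : orderOf p₀ = 2 := orderOf_eq_prime hp0 h1
    rw [Subgroup.orderOf_mk, Subgroup.orderOf_mk, h3] at h2
    exact (Nat.not_even_iff_odd.mpr hZ) (even_iff_two_dvd.mpr h2)
  have hevP : p₀ ≠ 1 → 2 ∣ Nat.card P := by
    intro h1
    have h3 : orderOf p₀ = 2 := orderOf_eq_prime hp0 h1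
    have h2 : orderOf (⟨p₀, hp₀P⟩ : ↥P) ∣ Nat.card P := orderOf_dvd_natCard _
    rwa [Subgroup.orderOf_mk, h3] at h2
  by_cases hc₀1 : c₀ = 1
  · -- `t₁ = p₀`
    have ht₁p : t₁ = p₀ := by rw [hprod, hc₀1, mul_one]
    have hp₀1 : p₀ ≠ 1 := by rw [← ht₁p]; exact ht1ne
    have hev := hevP hp₀1
    refine ⟨hev, ?_⟩
    have hle := le_centralizer_mul (O := O) hodd (t := t) (t₁ := t₁) (g := g) ht rfl hne.symm hcomm
      (by
        intro y hy
        rw [Subgroup.mem_centralizer_singleton_iff, ht₁p]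
        exact (commute_inf_centralizer hP ht htK hev hodd y hy p₀ hp₀P).symm)
    rw [ht₁p] at hle
    have hDn : ((Subgroup.centralizer (O : Set X)).subgroupOf P).Normal := inferInstance
    rcases Quasisimple.eq_top_or_le_center_of_normal hP.1 hDn with h | h
    · have hle2 : P ≤ Subgroup.centralizer (O : Set X) := Subgroup.subgroupOf_eq_top.mp h
      intro x hx c hc
      exact ((Subgroup.mem_centralizer_iff.mp (hle2 hx)) c hc).symm
    · exfalso
      have hcentral : ∀ a ∈ P, ∀ b ∈ P, Commute b (a⁻¹ * (p₀ * a * p₀⁻¹)) := by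
        intro a ha b hb
        have hmem : a⁻¹ * (p₀ * a * p₀⁻¹) ∈ P :=
          P.mul_mem (P.inv_mem ha) (P.mul_mem (P.mul_mem hp₀P ha) (P.inv_mem hp₀P))
        have hcen : a⁻¹ * (p₀ * a * p₀⁻¹) ∈ Subgroup.centralizer (O : Set X) := by
          rw [Subgroup.mem_centralizer_iff]
          intro w hw
          -- `a⁻¹ y a y⁻¹` centralizes `O`, `y = t p₀`
          have hy : ∀ v ∈ O, v * (t * p₀) = (t * p₀) * v := fun v hv =>
            (Subgroup.mem_centralizer_singleton_iff.mp (hle hv))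
          have hw' : a * w * a⁻¹ ∈ O := hOn.conj_mem _ hw a
          have e1 : a⁻¹ * (p₀ * a * p₀⁻¹) = a⁻¹ * (t * p₀) * a * (t * p₀)⁻¹ := by
            have h1 : a⁻¹ * t = t * a⁻¹ := htK' _ (P.inv_mem ha)
            have h2 : (p₀ * a * p₀⁻¹) * t = t * (p₀ * a * p₀⁻¹) :=
              htK' _ (P.mul_mem (P.mul_mem hp₀P ha) (P.inv_mem hp₀P))
            have h3 : p₀ * t = t * p₀ := htK' _ hp₀P
            have h4 : a * t = t * a := htK' _ ha
            calc a⁻¹ * (p₀ * a * p₀⁻¹) = a⁻¹ * (p₀ * a * p₀⁻¹) * t * t⁻¹ := by group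
              _ = a⁻¹ * ((p₀ * a * p₀⁻¹) * t) * t⁻¹ := by group
              _ = a⁻¹ * (t * (p₀ * a * p₀⁻¹)) * t⁻¹ := by rw [h2]
              _ = _ := by group
          rw [e1]
          have h5 : w * (t * p₀)⁻¹ = (t * p₀)⁻¹ * w := by
            have := hy w hw
            rw [eq_inv_mul_iff_mul_eq, ← mul_assoc, ← this]; group
          have h6 := hy _ hw'
          calc w * (a⁻¹ * (t * p₀) * a * (t * p₀)⁻¹)
              = a⁻¹ * ((a * w * a⁻¹) * (t * p₀)) * a * (t * p₀)⁻¹ := by group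
            _ = a⁻¹ * ((t * p₀) * (a * w * a⁻¹)) * a * (t * p₀)⁻¹ := by rw [h6]
            _ = a⁻¹ * (t * p₀) * a * (w * (t * p₀)⁻¹) := by group
            _ = _ := by rw [h5]; group
        have hz : (⟨_, hmem⟩ : ↥P) ∈ Subgroup.center ↥P := h (by
          rw [Subgroup.mem_subgroupOf]; exact hcen)
        have h7 := Subgroup.mem_center_iff.mp hz ⟨b, hb⟩
        exact congrArg Subtype.val h7
      have hh := Balance.commute_of_central_action (isPerfect_standard hP)
        (y := p₀) (fun a ha => P.mul_mem (P.mul_mem hp₀P ha) (P.inv_mem hp₀P)) hcentral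
      apply hp₀K hp₀1
      rw [Subgroup.mem_centralizer_iff]
      intro a ha
      exact (hh a ha).symm.eq
  · -- `t₁ = p₀ t`
    have hc₀o : orderOf c₀ = 2 := orderOf_eq_prime hc0 hc₀1
    have hc₀e : c₀ = t := eq_of_commute_of_rank hr hc₀o ht hc₀K htK hc₀t
    have hp₀1 : p₀ ≠ 1 := by
      intro h
      apply hne
      rw [hprod, h, one_mul, hc₀e]
    have hr' : g * t * g⁻¹ = p₀ * t := hprod.trans (by rw [hc₀e])
    exact ⟨hevP hp₀1, commute_of_conj_mul hP ht htK hp₀P (hevP hp₀1) (hp₀K hp₀1) hr' hodd⟩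

/-- The `2`-component statement: a `2`-component `L` containing a subgroup `P` of even order,
perfect, and commuting with `O(X)` is quasisimple. -/
theorem isQuasisimple_of_le_component (hPperf : ⁅P, P⁆ = P) (hev : 2 ∣ Nat.card P)
    (hO : ∀ x ∈ P, ∀ c ∈ pPrimeCore 2 X, x * c = c * x) {L : Subgroup X}
    (hL : IsPComponent 2 L) (hPL : P ≤ L) : IsQuasisimple ↥L := by
  have : Fact (Nat.Prime 2) := ⟨Nat.prime_two⟩
  rw [isQuasisimple_iff_commutator_core hL]
  set W := pPrimeCore 2 ↥L with hW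
  have hWn : W.Normal := Cfsg.pPrimeCore_normal 2 _
  have hcop : (Nat.card W).Coprime 2 := Transport.coprime_card_pPrimeCore 2
  have hWodd : Odd (Nat.card W) := Nat.coprime_two_right.mp hcop
  have hWX : W.map L.subtype ≤ pPrimeCore 2 X := by
    have hsubn : (W.map L.subtype).IsSubnormal := hWn.isSubnormal.trans' hL.1
    refine le_pPrimeCore_of_isSubnormal 2 hsubn ?_
    rw [← Nat.card_congr (Subgroup.equivMapOfInjective _ _ L.subtype_injective).toEquiv]
    exact hcop
  set N : Subgroup ↥L := Subgroup.centralizer (W : Set ↥L) with hN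
  have hNn : N.Normal := inferInstance
  have hPN : ∀ a (ha : a ∈ P), (⟨a, hPL ha⟩ : ↥L) ∈ N := by
    intro a ha
    rw [hN, Subgroup.mem_centralizer_iff]
    intro w hw
    apply Subtype.ext
    exact (hO a ha _ (hWX ⟨w, hw, rfl⟩)).symm
  have hQ := isQuasisimple_quotient_core hL
  have hNm : (N.map (QuotientGroup.mk' W)).Normal := Subgroup.Normal.map hNn _ (QuotientGroup.mk'_surjective _)
  have htop : N = ⊤ := by
    rcases Quasisimple.eq_top_or_le_center_of_normal hQ hNm with h | h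
    · have h1 := Subgroup.comap_map_eq (QuotientGroup.mk' W) N
      rw [h, Subgroup.comap_top, QuotientGroup.ker_mk'] at h1
      refine eq_top_of_coprime_index_of_isPComponent hL N ?_
      have h2 : N.relIndex (W ⊔ N) = N.relIndex W := Subgroup.relIndex_sup_right W N
      rw [sup_comm, ← h1, Subgroup.relIndex_top_right] at h2
      have h3 : N.index ∣ Nat.card W := by rw [h2]; exact Subgroup.relIndex_dvd_card N W
      exact Nat.Coprime.coprime_dvd_left h3 hcop
    · exfalso
      have hle : P ≤ W.map L.subtype := by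
        rw [← hPperf, Subgroup.commutator_le]
        intro a ha b hb
        have hz : ((⟨a, hPL ha⟩ : ↥L) : ↥L ⧸ W) ∈ Subgroup.center (↥L ⧸ W) :=
          h ⟨_, hPN a ha, rfl⟩
        have h1 := Subgroup.mem_center_iff.mp hz ((⟨b, hPL hb⟩ : ↥L) : ↥L ⧸ W)
        refine ⟨⁅(⟨a, hPL ha⟩ : ↥L), (⟨b, hPL hb⟩ : ↥L)⁆, ?_, rfl⟩
        change _ ∈ W
        rw [← QuotientGroup.eq_one_iff, commutatorElement_def]
        simp only [QuotientGroup.mk_mul, QuotientGroup.mk_inv]
        rw [← h1]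
        group
      have h2 : Nat.card P ∣ Nat.card (W.map L.subtype) := Subgroup.card_dvd_of_le hle
      rw [← Nat.card_congr (Subgroup.equivMapOfInjective _ _ L.subtype_injective).toEquiv] at h2
      exact (Nat.not_even_iff_odd.mpr hWodd) (even_iff_two_dvd.mpr (hev.trans h2))
  rw [eq_bot_iff, Subgroup.commutator_le]
  rintro l hl _ ⟨w, hw, rfl⟩
  have h1 : (⟨l, hl⟩ : ↥L) ∈ N := by rw [htop]; trivial
  rw [hN, Subgroup.mem_centralizer_iff] at h1
  have h2 := h1 w hw
  have h3 : (w : X) * l = l * w := congrArg Subtype.val h2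
  rw [Subgroup.mem_bot, commutatorElement_eq_one_iff_mul_comm]
  exact h3.symm

end main

end Cfsg.Agent.Lib.Components.StdThree
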