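import Mathlib
import Cfsg.Prelude.Def_Local
import Cfsg.Agent.Lib.Components.BenderUniq
import Cfsg.Agent.Lib.Components.CharP2
import Cfsg.Agent.Lib.Components.Transport

/-!
# The Thompson–Wielandt theorem for second cores

(`M₁ ≠ M₂` conjugate core-free maximal subgroups.)
-/

set_option autoImplicit false
set_option linter.unusedSectionVars false
set_option linter.style.haveILetI false
open Cfsg

namespace Cfsg.Agent.Lib.Components.ThompsonWielandt

open Subgroup Cfsg.Agent.Lib.Components.BenderPair Cfsg.Agent.Lib.Components.BenderUniq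

universe u

variable {G : Type u} [Group G] [Finite G]

/-- Relative subnormality. -/
abbrev Sn (H L : Subgroup G) : Prop := (H.subgroupOf L).IsSubnormal

theorem sn_of_le_normalizer {H L : Subgroup G} (h : L ≤ normalizer (H : Set G)) : Sn H L :=
  (Subgroup.normal_subgroupOf_of_le_normalizer h).isSubnormal

theorem Sn.restrict {H K L : Subgroup G} (hKL : K ≤ L) (h : Sn H L) : Sn H K :=
  IsSubnormal.comap (Subgroup.inclusion hKL) h

theorem Sn.trans {H K L : Subgroup G} (hHK : H ≤ K) (hKL : K ≤ L) (h1 : Sn H K) (h2 : Sn K L) :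
    Sn H L := by
  have hle : H.subgroupOf L ≤ K.subgroupOf L := by
    intro x hx
    rw [Subgroup.mem_subgroupOf] at hx ⊢
    exact hHK hx
  refine Subgroup.IsSubnormal.trans hle ?_ h2
  let φ : ↥(K.subgroupOf L) →* ↥K :=
    { toFun := fun x => ⟨((x : ↥L) : G), Subgroup.mem_subgroupOf.mp x.2⟩
      map_one' := rfl
      map_mul' := fun _ _ => rfl }
  have heq : (H.subgroupOf L).subgroupOf (K.subgroupOf L) = (H.subgroupOf K).comap φ := by
    ext x
    simp [Subgroup.mem_subgroupOf, φ]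
  rw [heq]
  exact h1.comap _

/-- The auxiliary statement about `p'`-elements in the product of a subnormal subgroup with a
`p`-subgroup. -/
theorem mem_of_coprime_aux (p : ℕ) [Fact p.Prime] : ∀ n : ℕ, ∀ (E : Type u) [Group E] [Finite E],
    Nat.card E = n → ∀ L T : Subgroup E, L.IsSubnormal → IsPGroup p T →
      (∀ e : E, ∃ l ∈ L, ∃ t ∈ T, e = l * t) → ∀ x : E, (orderOf x).Coprime p → x ∈ L := by
  intro n
  induction n using Nat.strong_induction_on with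
  | _ n ih =>
    intro E _ _ hn L T hL hT hfac x hx
    rcases hL.lt_normal with h | ⟨K, hKn, hLK, hKlt⟩
    · rw [h]; exact mem_top x
    · -- `x ∈ K`
      obtain ⟨l, hl, t, ht, hxe⟩ := hfac x
      obtain ⟨k, hk⟩ := hT ⟨t, ht⟩
      have htk : t ^ p ^ k = 1 := by simpa using congrArg Subtype.val hk
      have hxK : x ∈ K := by
        have h1 : (QuotientGroup.mk x : E ⧸ K) = (QuotientGroup.mk t : E ⧸ K) := by
          rw [hxe, QuotientGroup.mk_mul, (QuotientGroup.eq_one_iff l).mpr (hLK hl), one_mul]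
        have h2 : (QuotientGroup.mk x : E ⧸ K) ^ p ^ k = 1 := by
          rw [h1, ← QuotientGroup.mk_pow, htk]; rfl
        have h3 : orderOf (QuotientGroup.mk x : E ⧸ K) ∣ p ^ k := orderOf_dvd_of_pow_eq_one h2
        have h4 : orderOf (QuotientGroup.mk x : E ⧸ K) ∣ orderOf x :=
          orderOf_dvd_of_pow_eq_one (by rw [← QuotientGroup.mk_pow, pow_orderOf_eq_one]; rfl)
        have h6 : (orderOf x).Coprime (orderOf (QuotientGroup.mk x : E ⧸ K)) :=
          Nat.Coprime.coprime_dvd_right h3 (Nat.Coprime.pow_right k hx)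
        have h5 : orderOf (QuotientGroup.mk x : E ⧸ K) = 1 :=
          Nat.Coprime.eq_one_of_dvd h6.symm h4
        rw [orderOf_eq_one_iff, QuotientGroup.eq_one_iff] at h5
        exact h5
      have hcard : Nat.card K < n := by
        rw [← hn]
        have h1 := K.card_mul_index
        have h2 : K.index ≠ 1 := fun h => hKlt.ne (Subgroup.index_eq_one.mp h)
        have h3 : K.index ≠ 0 := Subgroup.index_ne_zero_of_finite
        have h4 : 0 < Nat.card K := Nat.card_pos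
        have h5 : 2 ≤ K.index := by omega
        nlinarith
      have key := ih _ hcard K rfl (L.subgroupOf K) (T.subgroupOf K) hL.subgroupOf
        (hT.comap_of_injective K.subtype K.subtype_injective)
        (by
          rintro ⟨e, he⟩
          obtain ⟨l', hl', t', ht', he'⟩ := hfac e
          have hlK := hLK hl'
          have htK : t' ∈ K := by
            have : t' = l'⁻¹ * e := by rw [he']; group
            rw [this]
            exact K.mul_mem (K.inv_mem hlK) he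
          exact ⟨⟨l', hlK⟩, Subgroup.mem_subgroupOf.mpr hl', ⟨t', htK⟩, Subgroup.mem_subgroupOf.mpr ht',
            Subtype.ext he'⟩)
        ⟨x, hxK⟩ (by rwa [Subgroup.orderOf_mk])
      exact Subgroup.mem_subgroupOf.mp key

/-- `x = l t` with `l ∈ L`, `t ∈ P`, `L` subnormal in `M`, `P` a normal `p`-subgroup of `M`:
if `x` has order prime to `p` then `x ∈ L`. -/
theorem mem_of_mul_of_coprime (p : ℕ) [Fact p.Prime] {M P L : Subgroup G} (hP : IsPGroup p P)
    (hPM : P ≤ M) (hMP : M ≤ normalizer (P : Set G)) (hLM : L ≤ M) (hsn : Sn L M) {l t : G}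
    (hl : l ∈ L) (ht : t ∈ P) (hc : (orderOf (l * t)).Coprime p) : l * t ∈ L := by
  set E : Subgroup G := L ⊔ P with hE
  have hEM : E ≤ M := sup_le hLM hPM
  have hL' : (L.subgroupOf E).IsSubnormal := Sn.restrict hEM hsn
  have hT' : IsPGroup p ↥(P.subgroupOf E) := hP.comap_of_injective E.subtype E.subtype_injective
  have hfac : ∀ e : ↥E, ∃ a ∈ L.subgroupOf E, ∃ b ∈ P.subgroupOf E, e = a * b := by
    rintro ⟨e, he⟩
    obtain ⟨a, ha, b, hb, hab⟩ := Cfsg.Agent.Lib.Components.FStar2.mem_sup_of_le_normalizer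
      (hLM.trans hMP) he
    refine ⟨⟨a, (le_sup_left : L ≤ E) ha⟩, Subgroup.mem_subgroupOf.mpr ha,
      ⟨b, (le_sup_right : P ≤ E) hb⟩, Subgroup.mem_subgroupOf.mpr hb, ?_⟩
    exact Subtype.ext hab.symm
  have hx : l * t ∈ E := E.mul_mem ((le_sup_left : L ≤ E) hl) ((le_sup_right : P ≤ E) ht)
  have := mem_of_coprime_aux p _ (↥E) rfl (L.subgroupOf E) (P.subgroupOf E) hL' hT' hfac ⟨l * t, hx⟩
    (by rwa [Subgroup.orderOf_mk])
  exact Subgroup.mem_subgroupOf.mp this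

/-- The subgroup generated by the `p'`-elements of `Y`. -/
def pGen (p : ℕ) (Y : Subgroup G) : Subgroup G := closure {x | x ∈ Y ∧ (orderOf x).Coprime p}

theorem pGen_le (p : ℕ) (Y : Subgroup G) : pGen p Y ≤ Y := (closure_le _).2 (fun _ h => h.1)

theorem mem_pGen (p : ℕ) {Y : Subgroup G} {x : G} (hx : x ∈ Y) (hc : (orderOf x).Coprime p) :
    x ∈ pGen p Y := subset_closure ⟨hx, hc⟩

theorem le_normalizer_pGen (p : ℕ) {Y M : Subgroup G} (h : M ≤ normalizer (Y : Set G)) :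
    M ≤ normalizer (pGen p Y : Set G) := by
  intro m hm
  apply Cfsg.Agent.Lib.Coprime.Three.mem_normalizer_of_conj_mem
  intro v hv
  have hle : pGen p Y ≤ (pGen p Y).comap (MulAut.conj m).toMonoidHom := by
    refine (closure_le _).2 (fun x hx => ?_)
    apply Subgroup.subset_closure
    refine ⟨(mem_normalizer_iff.mp (h hm) x).mp hx.1, ?_⟩
    have h3 : orderOf ((MulAut.conj m) x) = orderOf x := MulEquiv.orderOf_eq _ _
    show (orderOf ((MulAut.conj m) x)).Coprime p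
    rw [h3]
    exact hx.2
  exact hle hv

/-- A subgroup without non-trivial `p'`-elements is a `p`-group. -/
theorem isPGroup_of_pGen_eq_bot (p : ℕ) [Fact p.Prime] {Y : Subgroup G} (h : pGen p Y = ⊥) :
    IsPGroup p ↥Y := by
  apply Cfsg.Agent.Lib.Components.LocalFStar.isPGroup_of_forall_coprime p
  intro x hx hc
  have := mem_pGen p hx hc
  rwa [h, mem_bot] at this

/-- **Key lemma**: the second core is a `p`-group. -/
theorem isPGroup_second_core {p : ℕ} [Fact p.Prime] {M₁ M₂ B₁ Y : Subgroup G} (hne : M₁ ≠ M₂)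
    (hP : IsPrim M₁ M₂) (hS₁ : SelfN M₁) (hS₂ : SelfN M₂)
    (hcard : Nat.card ↥(oc p M₁) = Nat.card ↥(oc p M₂)) (hP₁ : oc p M₁ ≠ ⊥)
    (hB₁ : B₁ ≤ M₁) (hB₁₂ : B₁ ≤ M₂) (hnB : M₂ ≤ normalizer (B₁ : Set G))
    (hcore : ∀ u ∈ M₂, (∀ y ∈ M₂, y * u * y⁻¹ ∈ M₁) → u ∈ B₁)
    (hY : Y ≤ B₁) (hnY : M₁ ≤ normalizer (Y : Set G)) (hsn : Sn Y M₂) : IsPGroup p ↥Y := by
  apply isPGroup_of_pGen_eq_bot
  by_contra hL0
  set L := pGen p Y with hL
  set P₁ := oc p M₁ with hP₁def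
  set P₂ := oc p M₂ with hP₂def
  have hLY : L ≤ Y := pGen_le p Y
  have hLB : L ≤ B₁ := hLY.trans hY
  have hLM₁ : L ≤ M₁ := hLB.trans hB₁
  have hLM₂ : L ≤ M₂ := hLB.trans hB₁₂
  have hM₁L : M₁ ≤ normalizer (L : Set G) := le_normalizer_pGen p hnY
  have hNL : normalizer (L : Set G) ≤ M₁ := hS₁ L hL0 hLM₁ hM₁L
  have hP₁p : IsPGroup p ↥P₁ := isPGroup_oc p M₁
  have hP₂p : IsPGroup p ↥P₂ := isPGroup_oc p M₂
  have hP₂M : P₂ ≤ M₂ := map_subtype_le _ _
  have hP₁M : P₁ ≤ M₁ := map_subtype_le _ _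
  have hM₂P : M₂ ≤ normalizer (P₂ : Set G) := le_normalizer_map_of_normal M₂ _ inferInstance
  have hM₁P : M₁ ≤ normalizer (P₁ : Set G) := le_normalizer_map_of_normal M₁ _ inferInstance
  -- `L` is subnormal in `M₂`
  have hLsn : Sn L M₂ := Sn.trans hLY (hY.trans hB₁₂)
    (sn_of_le_normalizer (le_normalizer_pGen p le_normalizer)) hsn
  -- the basic step: `t x ∈ L` for `x` a `p'`-generator, `t ∈ P₂` of suitable form
  have hstep : ∀ x ∈ L, (∀ t ∈ P₂, (orderOf (t * x)).Coprime p → t * x ∈ L) := by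
    intro x hx t ht hc
    have h1 : x⁻¹ * t * x ∈ P₂ := by
      have := (mem_normalizer_iff.mp (hM₂P (M₂.inv_mem (hLM₂ hx))) t).mp ht
      simpa using this
    have h2 : t * x = x * (x⁻¹ * t * x) := by group
    rw [h2] at hc ⊢
    exact mem_of_mul_of_coprime p hP₂p hP₂M hM₂P hLM₂ hLsn hx h1 hc
  -- `P₂` normalizes `L`
  have hP₂L : P₂ ≤ normalizer (L : Set G) := by
    intro t ht
    apply Cfsg.Agent.Lib.Coprime.Three.mem_normalizer_of_conj_mem
    have hle : L ≤ L.comap (MulAut.conj t).toMonoidHom := by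
      refine (closure_le _).2 (fun x hx => ?_)
      have hxL : x ∈ L := Subgroup.subset_closure hx
      show t * x * t⁻¹ ∈ L
      have h1 : t * x * t⁻¹ * x⁻¹ ∈ P₂ := by
        have := (mem_normalizer_iff.mp (hM₂P (hLM₂ hxL)) t⁻¹).mp (P₂.inv_mem ht)
        exact P₂.mul_mem ht this |> fun h => by simpa [mul_assoc] using h
      have h2 : t * x * t⁻¹ = (t * x * t⁻¹ * x⁻¹) * x := by group
      rw [h2]
      apply hstep x hxL _ h1
      rw [← h2]
      have : t * x * t⁻¹ = (MulAut.conj t) x := by simp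
      rw [this, MulEquiv.orderOf_eq]
      exact hx.2
    intro v hv
    exact hle hv
  have hP₂M₁ : P₂ ≤ M₁ := hP₂L.trans hNL
  -- `P₁ ∩ B₁ ≤ P₂`
  have hP₁B : P₁ ⊓ B₁ ≤ P₂ := by
    have hn1 : B₁ ≤ normalizer ((P₁ ⊓ B₁ : Subgroup G) : Set G) := by
      intro b hb
      apply Cfsg.Agent.Lib.Coprime.Three.mem_normalizer_of_conj_mem
      intro v hv
      obtain ⟨h1, h2⟩ := mem_inf.mp hv
      refine mem_inf.mpr ⟨(mem_normalizer_iff.mp (hM₁P (hB₁ hb)) v).mp h1,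
        B₁.mul_mem (B₁.mul_mem hb h2) (B₁.inv_mem hb)⟩
    have h1 := Cfsg.Agent.Lib.Components.LocalFStar.le_map_pCore (p := p)
      (hP₁p.to_le (inf_le_left : P₁ ⊓ B₁ ≤ P₁)) hn1
    have h2 := Cfsg.Agent.Lib.Components.LocalFStar.le_map_pCore (p := p)
      (isPGroup_oc p B₁) (hnB.trans (normalizer_le_normalizer_map_of_char B₁ _
        (Cfsg.Agent.Lib.Basic.PCore.pCore_char p _)))
    intro x hx
    have hxB := (mem_inf.mp hx).2
    have h3 : x ∈ oc p B₁ := h1 (mem_inf.mpr ⟨hx, hxB⟩)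
    exact h2 (mem_inf.mpr ⟨h3, hB₁₂ hxB⟩)
  -- `P₁ ∩ M₂ ≤ B₁`
  have hP₁M₂ : P₁ ⊓ M₂ ≤ B₁ := by
    intro u hu
    obtain ⟨hu1, hu2⟩ := mem_inf.mp hu
    apply hcore u hu2
    intro y hy
    -- `y u y⁻¹` normalizes `L`
    apply hNL
    have hy' := M₂.inv_mem hy
    set u' := y * u * y⁻¹ with hu'
    apply Cfsg.Agent.Lib.Coprime.Three.mem_normalizer_of_conj_mem
    have hle : L ≤ L.comap (MulAut.conj u').toMonoidHom := by
      refine (closure_le _).2 (fun x hx => ?_)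
      have hxL : x ∈ L := Subgroup.subset_closure hx
      show u' * x * u'⁻¹ ∈ L
      -- `x' = y⁻¹ x y ∈ B₁`
      set x' := y⁻¹ * x * y with hx'
      have hx'B : x' ∈ B₁ := by
        have := (mem_normalizer_iff.mp (hnB hy') x).mp (hLB hxL)
        simpa [hx'] using this
      set v := u * x' * u⁻¹ * x'⁻¹ with hv
      have hv1 : v ∈ P₁ := by
        have h1 : x' * u⁻¹ * x'⁻¹ ∈ P₁ :=
          (mem_normalizer_iff.mp (hM₁P (hB₁ hx'B)) _).mp (P₁.inv_mem hu1)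
        have : v = u * (x' * u⁻¹ * x'⁻¹) := by rw [hv]; group
        rw [this]
        exact P₁.mul_mem hu1 h1
      have hv2 : v ∈ B₁ := by
        have h1 : u * x' * u⁻¹ ∈ B₁ := (mem_normalizer_iff.mp (hnB hu2) _).mp hx'B
        exact B₁.mul_mem h1 (B₁.inv_mem hx'B)
      have hvP : v ∈ P₂ := hP₁B (mem_inf.mpr ⟨hv1, hv2⟩)
      have hw : y * v * y⁻¹ ∈ P₂ := (mem_normalizer_iff.mp (hM₂P hy) _).mp hvP
      have heq : u' * x * u'⁻¹ = (y * v * y⁻¹) * x := by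
        rw [hu', hv, hx']; group
      rw [heq]
      apply hstep x hxL _ hw
      rw [← heq]
      have : u' * x * u'⁻¹ = (MulAut.conj u') x := by simp
      rw [this, MulEquiv.orderOf_eq]
      exact hx.2
    intro v hv
    exact hle hv
  -- `N_S(P₂) = P₂`
  have hP₁P₂ : P₂ ≤ normalizer (P₁ : Set G) := hP₂M₁.trans hM₁P
  have hS : IsPGroup p ↥(P₂ ⊔ P₁) := IsPGroup.to_sup_of_normal_right' hP₂p hP₁p hP₁P₂
  have hle : P₁ ≤ P₂ := by
    by_contra hnot
    have hlt : P₂ < P₂ ⊔ P₁ := by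
      refine lt_of_le_of_ne le_sup_left ?_
      intro h
      apply hnot
      rw [h]
      exact le_sup_right
    have h1 := Cfsg.Agent.Lib.Components.LocalFStar.lt_inf_normalizer hS hlt
    obtain ⟨s, hs, hsP⟩ := SetLike.exists_of_lt h1
    apply hsP
    obtain ⟨hs1, hs2⟩ := mem_inf.mp hs
    have hP₂0 : P₂ ≠ ⊥ := by
      intro h0
      apply hP₁
      have : Nat.card ↥P₁ = 1 := by rw [hcard, h0]; simp
      exact (Subgroup.eq_bot_iff_card _).2 this
    have hsM₂ : s ∈ M₂ := hS₂ P₂ hP₂0 hP₂M hM₂P hs2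
    -- write `s = t w`, `t ∈ P₂`, `w ∈ P₁`
    obtain ⟨t, ht, w, hw, hst⟩ := Cfsg.Agent.Lib.Components.FStar2.mem_sup_of_le_normalizer hP₁P₂ hs1
    have hwM₂ : w ∈ M₂ := by
      have : w = t⁻¹ * s := by rw [← hst]; group
      rw [this]
      exact M₂.mul_mem (M₂.inv_mem (hP₂M ht)) hsM₂
    have hwP : w ∈ P₂ := hP₁B (mem_inf.mpr ⟨hw, hP₁M₂ (mem_inf.mpr ⟨hw, hwM₂⟩)⟩)
    rw [← hst]
    exact P₂.mul_mem ht hwP
  have heq : P₁ = P₂ := by
    refine Subgroup.eq_of_le_of_card_ge hle ?_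
    rw [hcard]
  apply hne
  refine hP.eq_of_common hP₁ (le_inf hP₁M (hle.trans hP₂M)) hM₁P ?_
  rw [heq]
  exact hM₂P

/-- Layers of subnormal subgroups. -/
theorem ly_le_ly_of_sn {Y M : Subgroup G} (hYM : Y ≤ M) (hsn : Sn Y M) : ly Y ≤ ly M := by
  rw [Subgroup.map_le_iff_le_comap]
  refine sSup_le ?_
  intro K hK
  rw [← Subgroup.map_le_iff_le_comap]
  set K' : Subgroup G := K.map Y.subtype with hK'
  have hK'Y : K' ≤ Y := map_subtype_le _ _
  have hKq : IsQuasisimple ↥K' :=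
    Cfsg.Agent.Lib.Components.FStar.isQuasisimple_congr
      (K.equivMapOfInjective Y.subtype Y.subtype_injective) hK.2
  have hsn1 : Sn K' Y := by
    have : K'.subgroupOf Y = K := Subgroup.comap_map_eq_self_of_injective Y.subtype_injective K
    show (K'.subgroupOf Y).IsSubnormal
    rw [this]; exact hK.1
  have hK'M : K' ≤ M := hK'Y.trans hYM
  have hcomp : IsComponent (K'.subgroupOf M) :=
    ⟨Sn.trans hK'Y hYM hsn1 hsn, Cfsg.Agent.Lib.Components.FStar.isQuasisimple_congr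
      (Subgroup.subgroupOfEquivOfLe hK'M).symm hKq⟩
  have hle := Cfsg.Agent.Lib.Components.Layer.le_layer hcomp
  intro x hx
  exact ⟨⟨x, hK'M hx⟩, hle (Subgroup.mem_subgroupOf.mpr hx), rfl⟩

theorem layer_char (H : Type*) [Group H] : (layer H).Characteristic :=
  Subgroup.characteristic_iff_map_eq.2 (fun ϕ => Cfsg.Agent.Lib.Components.FStar.layer_map_equiv ϕ)

/-- `F*(H) = 1` forces `H = 1`. -/
theorem eq_bot_of_fs_eq_bot {H : Subgroup G} (h : fs H = ⊥) : H = ⊥ := by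
  rw [eq_bot_iff]
  intro x hx
  have h1 := Cfsg.Agent.Lib.Components.LocalFStar.inf_centralizer_map_generalizedFitting_le H
  rw [show (generalizedFittingSubgroup ↥H).map H.subtype = ⊥ from h] at h1
  exact h1 (mem_inf.mpr ⟨hx, by simp [mem_centralizer_iff]⟩)

/-- The dichotomy for a subgroup normal in `M₁` and subnormal in `M₂`. -/
theorem core_dichotomy {M₁ M₂ Y : Subgroup G} (hS₁ : SelfN M₁) (hY0 : Y ≠ ⊥) (hYM₁ : Y ≤ M₁)
    (hYM₂ : Y ≤ M₂) (hn : M₁ ≤ normalizer (Y : Set G)) (hsn : Sn Y M₂) :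
    (fi Y ≠ ⊥ ∧ fi Y ≤ fi M₁ ∧ fi Y ≤ fi M₂ ∧ M₂ ⊓ normalizer (fi Y : Set G) ≤ M₁) ∨
      fs M₂ ≤ M₁ := by
  by_cases hF : fi Y = ⊥
  · right
    have hly : ly Y ≠ ⊥ := by
      intro h0
      apply hY0
      apply eq_bot_of_fs_eq_bot
      rw [show fs Y = ly Y ⊔ fi Y from Subgroup.map_sup _ _ _, h0, hF, sup_bot_eq]
    set T := ly Y with hT
    have hTY : T ≤ Y := map_subtype_le _ _
    have hTN : M₁ ≤ normalizer (T : Set G) :=
      hn.trans (normalizer_le_normalizer_map_of_char Y _ (layer_char _))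
    have hNT : normalizer (T : Set G) ≤ M₁ := hS₁ T hly (hTY.trans hYM₁) hTN
    have hTsn : Sn T M₂ := Sn.trans hTY hYM₂ (sn_of_le_normalizer
      (le_normalizer_map_of_normal Y _ Cfsg.Agent.Lib.Components.Layer.layer_normal)) hsn
    have hTly : T ≤ ly M₂ := ly_le_ly_of_sn hYM₂ hsn
    have hC : centralizer (T : Set G) ≤ M₁ := by
      refine le_trans ?_ hNT
      intro c hc
      apply mem_normalizer_of_forall_commute
      intro v hv
      exact ((mem_centralizer_iff.mp hc) v hv).symm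
    rw [show fs M₂ = ly M₂ ⊔ fi M₂ from Subgroup.map_sup _ _ _]
    refine sup_le ?_ ?_
    · rw [Subgroup.map_le_iff_le_comap]
      refine sSup_le ?_
      intro L hL
      rw [← Subgroup.map_le_iff_le_comap]
      rcases Cfsg.Agent.Lib.Components.Layer.le_or_commutator_eq_bot hL hTsn with h | h
      · rintro _ ⟨x, hx, rfl⟩
        have := h hx
        exact hTY.trans hYM₁ (Subgroup.mem_subgroupOf.mp this)
      · rintro _ ⟨x, hx, rfl⟩
        apply hC
        rw [mem_centralizer_iff]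
        intro t ht
        have h3 := (Cfsg.Agent.Lib.Components.Layer.commutator_eq_bot_iff_forall.mp h) x hx
          ⟨t, hTY.trans hYM₂ ht⟩ (Subgroup.mem_subgroupOf.mpr ht)
        exact (congrArg Subtype.val h3).symm
    · intro f hf
      apply hC
      rw [mem_centralizer_iff]
      intro t ht
      exact ly_commute_fi (hTly ht) hf
  · left
    set Q := fi Y with hQ
    have hQY : Q ≤ Y := map_subtype_le _ _
    have hQnil : Group.IsNilpotent ↥Q := Cfsg.Agent.Lib.Components.Fitting.fitOf_isNilpotent Y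
    have hQN : M₁ ≤ normalizer (Q : Set G) :=
      hn.trans (normalizer_le_normalizer_map_of_char Y _ Cfsg.Agent.Lib.Components.Fitting.fitting_characteristic)
    refine ⟨hF, ?_, ?_, ?_⟩
    · have hnn : (Q.subgroupOf M₁).Normal := Subgroup.normal_subgroupOf_of_le_normalizer hQN
      have hnil : Group.IsNilpotent ↥(Q.subgroupOf M₁) :=
        isNilpotent_subgroupOf_of_le (hQY.trans hYM₁) hQnil
      have hle := Cfsg.Agent.Lib.Components.Fitting.le_fitting hnn hnil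
      intro x hx
      exact ⟨⟨x, hYM₁ (hQY hx)⟩, hle (Subgroup.mem_subgroupOf.mpr hx), rfl⟩
    · have hQsn : Sn Q M₂ := Sn.trans hQY hYM₂ (sn_of_le_normalizer
        (le_normalizer_map_of_normal Y _ inferInstance)) hsn
      have hnil : Group.IsNilpotent ↥(Q.subgroupOf M₂) :=
        isNilpotent_subgroupOf_of_le (hQY.trans hYM₂) hQnil
      have hle := Cfsg.Agent.Lib.Basic.PCore.le_fittingSubgroup_of_subnormal hQsn hnil
      intro x hx
      exact ⟨⟨x, hYM₂ (hQY hx)⟩, hle (Subgroup.mem_subgroupOf.mpr hx), rfl⟩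
    · exact inf_le_right.trans (hS₁ Q hF (hQY.trans hYM₁) hQN)

/-- `F*(M₁)`, `F*(M₂)` are `p`-groups for one prime. -/
theorem pair_pgroups {M₁ M₂ Y Y' : Subgroup G} (hne : M₁ ≠ M₂) (hS₁ : SelfN M₁) (hS₂ : SelfN M₂)
    (hY0 : Y ≠ ⊥) (hYM₁ : Y ≤ M₁) (hYM₂ : Y ≤ M₂) (hn : M₁ ≤ normalizer (Y : Set G)) (hsn : Sn Y M₂)
    (hY0' : Y' ≠ ⊥) (hYM₁' : Y' ≤ M₂) (hYM₂' : Y' ≤ M₁) (hn' : M₂ ≤ normalizer (Y' : Set G))
    (hsn' : Sn Y' M₁) :
    ∃ p : ℕ, p.Prime ∧ IsPGroup p ↥(generalizedFittingSubgroup ↥M₁) ∧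
      IsPGroup p ↥(generalizedFittingSubgroup ↥M₂) := by
  have hfsle : ∀ H : Subgroup G, fs H ≤ H := fun H => map_subtype_le _ _
  rcases core_dichotomy hS₁ hY0 hYM₁ hYM₂ hn hsn with ⟨h0, h1, h2, h3⟩ | h
  · have hL₂ : leadsTo M₂ M₁ := ⟨fi Y, h0, h2, (inf_le_inf_right _ (hfsle M₂)).trans h3⟩
    rcases core_dichotomy hS₂ hY0' hYM₁' hYM₂' hn' hsn' with ⟨h0', h1', h2', h3'⟩ | h'
    · have hL₁ : leadsTo M₁ M₂ := ⟨fi Y', h0', h2', (inf_le_inf_right _ (hfsle M₁)).trans h3'⟩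
      exact (uniq_symmetric hS₁ hS₂ hL₁ hL₂).resolve_left hne
    · have hL₁ : leadsTo M₁ M₂ := ⟨fi Y, h0, h1, inf_le_left.trans h'⟩
      exact (uniq_symmetric hS₁ hS₂ hL₁ hL₂).resolve_left hne
  · rcases core_dichotomy hS₂ hY0' hYM₁' hYM₂' hn' hsn' with ⟨h0', h1', h2', h3'⟩ | h'
    · have hL₁ : leadsTo M₁ M₂ := ⟨fi Y', h0', h2', (inf_le_inf_right _ (hfsle M₁)).trans h3'⟩
      have hL₂ : leadsTo M₂ M₁ := ⟨fi Y', h0', h1', inf_le_left.trans h⟩
      exact (uniq_symmetric hS₁ hS₂ hL₁ hL₂).resolve_left hne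
    · exact bender_pair hne (isPrim_of_selfN hS₁ hS₂) h' h

/-- The core of `C ∩ M` in `M`, inside the ambient group. -/
abbrev coreIn (M C : Subgroup G) : Subgroup G := (C.subgroupOf M).normalCore.map M.subtype

theorem coreIn_le_left (M C : Subgroup G) : coreIn M C ≤ M := map_subtype_le _ _

theorem coreIn_le_right (M C : Subgroup G) : coreIn M C ≤ C := by
  rintro _ ⟨x, hx, rfl⟩
  exact Subgroup.mem_subgroupOf.mp (Subgroup.normalCore_le _ hx)

theorem le_normalizer_coreIn (M C : Subgroup G) : M ≤ normalizer (coreIn M C : Set G) :=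
  le_normalizer_map_of_normal M _ inferInstance

theorem mem_coreIn {M C : Subgroup G} {u : G} (hu : u ∈ M) (h : ∀ y ∈ M, y * u * y⁻¹ ∈ C) :
    u ∈ coreIn M C := by
  refine ⟨⟨u, hu⟩, ?_, rfl⟩
  intro b
  exact Subgroup.mem_subgroupOf.mpr (h b.1 b.2)

theorem selfN_conj {M : Subgroup G} (hM : IsCoatom M) (hc : M.normalCore = ⊥) (g : G) :
    SelfN (M.map (MulAut.conj g).toMonoidHom) := by
  have hcoat : IsCoatom (M.map (MulAut.conj g).toMonoidHom) := by
    have h := (OrderIso.isCoatom_iff (MulEquiv.mapSubgroup (MulAut.conj g)) M).mpr hM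
    exact h
  apply selfN_of_coatom_of_core hcoat
  rw [eq_bot_iff, ← hc]
  apply Subgroup.normal_le_normalCore.mpr
  intro z hz
  have hz' := Subgroup.normalCore_le _ ((Subgroup.normalCore_normal _).conj_mem z hz g)
  obtain ⟨m, hm, hmz⟩ := hz'
  have : m = z := by
    have h1 : g * m * g⁻¹ = g * z * g⁻¹ := by simpa using hmz
    exact mul_left_cancel (mul_right_cancel h1)
  exact this ▸ hm

theorem card_oc_conj (p : ℕ) (M : Subgroup G) (g : G) :
    Nat.card ↥(oc p M) = Nat.card ↥(oc p (M.map (MulAut.conj g).toMonoidHom)) := by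
  let e : ↥M ≃* ↥(M.map (MulAut.conj g).toMonoidHom) :=
    M.equivMapOfInjective _ (MulAut.conj g).injective
  have h := Cfsg.Agent.Lib.Components.Transport.pCore_map_equiv p e
  have h1 : Nat.card ↥(oc p M) = Nat.card ↥(pCore p ↥M) :=
    Nat.card_congr ((pCore p ↥M).equivMapOfInjective _ M.subtype_injective).symm.toEquiv
  have h2 : Nat.card ↥(oc p (M.map (MulAut.conj g).toMonoidHom)) =
      Nat.card ↥(pCore p ↥(M.map (MulAut.conj g).toMonoidHom)) :=
    Nat.card_congr ((pCore p ↥(M.map (MulAut.conj g).toMonoidHom)).equivMapOfInjective _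
      (Subgroup.subtype_injective _)).symm.toEquiv
  rw [h1, h2, ← h]
  exact Nat.card_congr ((pCore p ↥M).equivMapOfInjective _ e.injective).toEquiv

/-- **Thompson–Wielandt**. -/
theorem thompson_wielandt (M₁ : Subgroup G) (hmax : IsCoatom M₁) (g : G)
    (hne : M₁ ≠ M₁.map (MulAut.conj g).toMonoidHom) (hcore : M₁.normalCore = ⊥)
    (A₁ B₁ A₂ B₂ : Subgroup G)
    (hA₁ : A₁ = coreIn M₁ (M₁ ⊓ M₁.map (MulAut.conj g).toMonoidHom))
    (hB₁ : B₁ = coreIn (M₁.map (MulAut.conj g).toMonoidHom) (M₁ ⊓ M₁.map (MulAut.conj g).toMonoidHom))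
    (hA₂ : A₂ = coreIn M₁ (A₁ ⊓ B₁))
    (hB₂ : B₂ = coreIn (M₁.map (MulAut.conj g).toMonoidHom) (A₁ ⊓ B₁))
    (hA0 : A₂ ≠ ⊥) (hB0 : B₂ ≠ ⊥) :
    ∃ p : ℕ, p.Prime ∧ IsPGroup p ↥(A₂ ⊔ B₂) ∧
      generalizedFittingSubgroup ↥M₁ = pCore p ↥M₁ ∧
      generalizedFittingSubgroup ↥A₁ = pCore p ↥A₁ ∧
      generalizedFittingSubgroup ↥(M₁.map (MulAut.conj g).toMonoidHom) =
        pCore p ↥(M₁.map (MulAut.conj g).toMonoidHom) ∧
      generalizedFittingSubgroup ↥B₁ = pCore p ↥B₁ := by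
  set M₂ := M₁.map (MulAut.conj g).toMonoidHom with hM₂
  have hS₁ : SelfN M₁ := selfN_of_coatom_of_core hmax hcore
  have hS₂ : SelfN M₂ := selfN_conj hmax hcore g
  have hA₁M₁ : A₁ ≤ M₁ := hA₁ ▸ coreIn_le_left _ _
  have hA₁M₂ : A₁ ≤ M₂ := (hA₁ ▸ coreIn_le_right _ _ : A₁ ≤ M₁ ⊓ M₂).trans inf_le_right
  have hB₁M₂ : B₁ ≤ M₂ := hB₁ ▸ coreIn_le_left _ _
  have hB₁M₁ : B₁ ≤ M₁ := (hB₁ ▸ coreIn_le_right _ _ : B₁ ≤ M₁ ⊓ M₂).trans inf_le_left
  have hnA₁ : M₁ ≤ normalizer (A₁ : Set G) := hA₁ ▸ le_normalizer_coreIn _ _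
  have hnB₁ : M₂ ≤ normalizer (B₁ : Set G) := hB₁ ▸ le_normalizer_coreIn _ _
  have hA₂X : A₂ ≤ A₁ ⊓ B₁ := hA₂ ▸ coreIn_le_right _ _
  have hB₂X : B₂ ≤ A₁ ⊓ B₁ := hB₂ ▸ coreIn_le_right _ _
  have hnA₂ : M₁ ≤ normalizer (A₂ : Set G) := hA₂ ▸ le_normalizer_coreIn _ _
  have hnB₂ : M₂ ≤ normalizer (B₂ : Set G) := hB₂ ▸ le_normalizer_coreIn _ _
  set X := A₁ ⊓ B₁ with hX
  have hXA : X ≤ A₁ := inf_le_left
  have hXB : X ≤ B₁ := inf_le_right
  have hXnA : A₁ ≤ normalizer (X : Set G) := by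
    intro a ha
    apply Cfsg.Agent.Lib.Coprime.Three.mem_normalizer_of_conj_mem
    intro v hv
    refine mem_inf.mpr ⟨A₁.mul_mem (A₁.mul_mem ha (hXA hv)) (A₁.inv_mem ha), ?_⟩
    exact (mem_normalizer_iff.mp (hnB₁ (hA₁M₂ ha)) v).mp (hXB hv)
  have hXnB : B₁ ≤ normalizer (X : Set G) := by
    intro a ha
    apply Cfsg.Agent.Lib.Coprime.Three.mem_normalizer_of_conj_mem
    intro v hv
    refine mem_inf.mpr ⟨?_, B₁.mul_mem (B₁.mul_mem ha (hXB hv)) (B₁.inv_mem ha)⟩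
    exact (mem_normalizer_iff.mp (hnA₁ (hB₁M₁ ha)) v).mp (hXA hv)
  have hsnX₂ : Sn X M₂ := Sn.trans hXB hB₁M₂ (sn_of_le_normalizer hXnB) (sn_of_le_normalizer hnB₁)
  have hsnX₁ : Sn X M₁ := Sn.trans hXA hA₁M₁ (sn_of_le_normalizer hXnA) (sn_of_le_normalizer hnA₁)
  have hA₂M₁ : A₂ ≤ M₁ := hA₂X.trans (hXA.trans hA₁M₁)
  have hA₂M₂ : A₂ ≤ M₂ := hA₂X.trans (hXB.trans hB₁M₂)
  have hB₂M₁ : B₂ ≤ M₁ := hB₂X.trans (hXA.trans hA₁M₁)
  have hB₂M₂ : B₂ ≤ M₂ := hB₂X.trans (hXB.trans hB₁M₂)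
  have hsnA₂ : Sn A₂ M₂ := Sn.trans hA₂X (hXB.trans hB₁M₂)
    (sn_of_le_normalizer ((hXA.trans hA₁M₁).trans hnA₂)) hsnX₂
  have hsnB₂ : Sn B₂ M₁ := Sn.trans hB₂X (hXA.trans hA₁M₁)
    (sn_of_le_normalizer ((hXB.trans hB₁M₂).trans hnB₂)) hsnX₁
  obtain ⟨p, hp, hF₁, hF₂⟩ := pair_pgroups hne hS₁ hS₂ hA0 hA₂M₁ hA₂M₂ hnA₂ hsnA₂ hB0 hB₂M₂ hB₂M₁ hnB₂ hsnB₂
  haveI : Fact p.Prime := ⟨hp⟩
  have he₁ := (Cfsg.Agent.Lib.Components.LocalFStar.generalizedFitting_eq_pCore_iff (p := p)).2 hF₁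
  have he₂ := (Cfsg.Agent.Lib.Components.LocalFStar.generalizedFitting_eq_pCore_iff (p := p)).2 hF₂
  have hP₁0 : oc p M₁ ≠ ⊥ := by
    intro h0
    apply hA0
    have : fs M₁ = ⊥ := by
      show (generalizedFittingSubgroup ↥M₁).map M₁.subtype = ⊥
      rw [he₁]; exact h0
    rw [eq_bot_of_fs_eq_bot this] at hA₂M₁
    exact le_bot_iff.mp hA₂M₁
  have hP₂0 : oc p M₂ ≠ ⊥ := by
    intro h0
    apply hB0
    have : fs M₂ = ⊥ := by
      show (generalizedFittingSubgroup ↥M₂).map M₂.subtype = ⊥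
      rw [he₂]; exact h0
    rw [eq_bot_of_fs_eq_bot this] at hB₂M₂
    exact le_bot_iff.mp hB₂M₂
  have hP := isPrim_of_selfN hS₁ hS₂
  have hcard : Nat.card ↥(oc p M₁) = Nat.card ↥(oc p M₂) := card_oc_conj p M₁ g
  have hA₂p : IsPGroup p ↥A₂ := isPGroup_second_core hne hP hS₁ hS₂ hcard hP₁0 hB₁M₁ hB₁M₂ hnB₁
    (by
      intro u hu h
      rw [hB₁]
      apply mem_coreIn hu
      intro y hy
      exact mem_inf.mpr ⟨h y hy, M₂.mul_mem (M₂.mul_mem hy hu) (M₂.inv_mem hy)⟩)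
    (hA₂X.trans hXB) hnA₂ hsnA₂
  have hB₂p : IsPGroup p ↥B₂ := isPGroup_second_core hne.symm hP.swap hS₂ hS₁ hcard.symm hP₂0
    hA₁M₂ hA₁M₁ hnA₁
    (by
      intro u hu h
      rw [hA₁]
      apply mem_coreIn hu
      intro y hy
      exact mem_inf.mpr ⟨M₁.mul_mem (M₁.mul_mem hy hu) (M₁.inv_mem hy), h y hy⟩)
    (hB₂X.trans hXA) hnB₂ hsnB₂
  have hsup : IsPGroup p ↥(A₂ ⊔ B₂) :=
    IsPGroup.to_sup_of_normal_right' hA₂p hB₂p (hA₂M₂.trans hnB₂)
  have hFA : IsPGroup p ↥(generalizedFittingSubgroup ↥A₁) := by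
    haveI hnn : (A₁.subgroupOf M₁).Normal := Subgroup.normal_subgroupOf_of_le_normalizer hnA₁
    have h1 := Cfsg.Agent.Lib.Components.CharP2.isPGroup_Fstar_of_normal (A₁.subgroupOf M₁) hF₁
    exact Cfsg.Agent.Lib.Components.CharP.isPGroup_Fstar_of_equiv
      (Subgroup.subgroupOfEquivOfLe hA₁M₁) h1
  have hFB : IsPGroup p ↥(generalizedFittingSubgroup ↥B₁) := by
    haveI hnn : (B₁.subgroupOf M₂).Normal := Subgroup.normal_subgroupOf_of_le_normalizer hnB₁
    have h1 := Cfsg.Agent.Lib.Components.CharP2.isPGroup_Fstar_of_normal (B₁.subgroupOf M₂) hF₂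
    exact Cfsg.Agent.Lib.Components.CharP.isPGroup_Fstar_of_equiv
      (Subgroup.subgroupOfEquivOfLe hB₁M₂) h1
  exact ⟨p, hp, hsup, he₁,
    (Cfsg.Agent.Lib.Components.LocalFStar.generalizedFitting_eq_pCore_iff (p := p)).2 hFA, he₂,
    (Cfsg.Agent.Lib.Components.LocalFStar.generalizedFitting_eq_pCore_iff (p := p)).2 hFB⟩

end Cfsg.Agent.Lib.Components.ThompsonWielandt
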