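import Mathlib
import Cfsg.Prelude.Def_Local
import Cfsg.Agent.Lib.Components.Layer
import Cfsg.Agent.Lib.Components.LayerProduct
import Cfsg.Agent.Lib.Components.FStarFactor
import Cfsg.Agent.Lib.Components.FStar2
import Cfsg.Agent.Lib.Components.LocalFStar
import Cfsg.Agent.Lib.Components.PComponent
import Cfsg.Agent.Lib.Basic.PCore
import Cfsg.Agent.S0026
import Cfsg.Agent.S0027

/-!
# Action of a `p`-group on a subnormal subgroup of `F*(H)`, when `O_p(H) = 1`

If `L = F(L) E(L)`, with `F(L)` a `p'`-group and `Y` a `p`-group normalizing `L`, then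
`L = [L, Y] C_L(Y)` and `[L, Y, Y] = [L, Y]`.
-/

set_option autoImplicit false

namespace Cfsg.Agent.Lib.Components.YAction

open Subgroup
open Cfsg.Agent.Lib.Components.Quasisimple Cfsg.Agent.Lib.Components.Layer
open Cfsg.Agent.Lib.Components.LayerProduct
open Cfsg.Agent.Lib.Components.Fitting (mem_normalizer_of_conj_mem)
open scoped commutatorElement

variable {G : Type*} [Group G]

theorem commutator_le_of_normalizes {A Y : Subgroup G} (h : Y ≤ normalizer (A : Set G)) :
    ⁅A, Y⁆ ≤ A := by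
  rw [Subgroup.commutator_le]
  intro a ha y hy
  rw [commutatorElement_def, mul_assoc, mul_assoc, ← mul_assoc a]
  have h1 : y * a⁻¹ * y⁻¹ ∈ A := (Subgroup.mem_normalizer_iff.mp (h hy) _).mp (inv_mem ha)
  have e : a * y * (a⁻¹ * y⁻¹) = a * (y * a⁻¹ * y⁻¹) := by group
  rw [e]
  exact mul_mem ha h1

theorem left_normalizes_commutator (A Y : Subgroup G) :
    A ≤ normalizer ((⁅A, Y⁆ : Subgroup G) : Set G) := by
  have key : ∀ e ∈ A, ∀ x ∈ ⁅A, Y⁆, e * x * e⁻¹ ∈ ⁅A, Y⁆ := by
    intro e he x hx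
    have hmain : ⁅A, Y⁆ ≤ (⁅A, Y⁆).comap (MulAut.conj e).toMonoidHom := by
      rw [Subgroup.commutator_le]
      intro a ha u hu
      rw [Subgroup.mem_comap]
      change e * ⁅a, u⁆ * e⁻¹ ∈ ⁅A, Y⁆
      have h1 : ⁅e * a, u⁆ ∈ ⁅A, Y⁆ :=
        Subgroup.commutator_mem_commutator (mul_mem he ha) hu
      have h2 : ⁅e, u⁆ ∈ ⁅A, Y⁆ := Subgroup.commutator_mem_commutator he hu
      have : e * ⁅a, u⁆ * e⁻¹ = ⁅e * a, u⁆ * ⁅e, u⁆⁻¹ := by
        simp only [commutatorElement_def]
        group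
      rw [this]
      exact mul_mem h1 (inv_mem h2)
    exact hmain hx
  intro e he
  exact mem_normalizer_of_conj_mem (key e he) (fun x hx => by
    simpa using key e⁻¹ (inv_mem he) x hx)

theorem right_normalizes_commutator {A Y : Subgroup G} (h : Y ≤ normalizer (A : Set G)) :
    Y ≤ normalizer ((⁅A, Y⁆ : Subgroup G) : Set G) := by
  have key : ∀ e ∈ Y, ∀ x ∈ ⁅A, Y⁆, e * x * e⁻¹ ∈ ⁅A, Y⁆ := by
    intro e he x hx
    have hmain : ⁅A, Y⁆ ≤ (⁅A, Y⁆).comap (MulAut.conj e).toMonoidHom := by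
      rw [Subgroup.commutator_le]
      intro a ha u hu
      rw [Subgroup.mem_comap]
      change e * ⁅a, u⁆ * e⁻¹ ∈ ⁅A, Y⁆
      rw [conjugate_commutatorElement]
      exact Subgroup.commutator_mem_commutator
        ((Subgroup.mem_normalizer_iff.mp (h he) _).mp ha)
        (mul_mem (mul_mem he hu) (inv_mem he))
    exact hmain hx
  intro e he
  exact mem_normalizer_of_conj_mem (key e he) (fun x hx => by
    simpa using key e⁻¹ (inv_mem he) x hx)

/-- A set of subgroups permuted by `Y` has its join normalized by `Y`. -/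
theorem le_normalizer_sSup {S : Set (Subgroup G)} {Y : Subgroup G}
    (h : ∀ y ∈ Y, ∀ K ∈ S, K.map (MulAut.conj y).toMonoidHom ∈ S) :
    Y ≤ normalizer ((sSup S : Subgroup G) : Set G) := by
  have key : ∀ y ∈ Y, ∀ x ∈ sSup S, y * x * y⁻¹ ∈ sSup S := by
    intro y hy x hx
    have h1 : sSup S ≤ (sSup S).comap (MulAut.conj y).toMonoidHom := by
      refine sSup_le fun K hK => ?_
      rw [← Subgroup.map_le_iff_le_comap]
      exact le_sSup (h y hy K hK)
    exact h1 hx
  intro y hy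
  exact mem_normalizer_of_conj_mem (key y hy) (fun x hx => by
    simpa using key y⁻¹ (inv_mem hy) x hx)

theorem map_conj_eq_self_of_mem {Y : Subgroup G} {y : G} (hy : y ∈ Y) :
    Y.map (MulAut.conj y).toMonoidHom = Y :=
  Subgroup.mem_normalizer_iff_map_conj_eq.mp (Subgroup.le_normalizer hy)

/-- The action of `Y` on a semisimple-like subgroup. -/
theorem semisimple_action (C : Set (Subgroup G)) (Y : Subgroup G) (Sn : Subgroup G → Prop)
    (hperf : ∀ K ∈ C, ⁅K, K⁆ = K)
    (hcomm : ∀ K ∈ C, ∀ K' ∈ C, K = K' ∨ ⁅K, K'⁆ = ⊥)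
    (hinv : ∀ y ∈ Y, ∀ K ∈ C, K.map (MulAut.conj y).toMonoidHom ∈ C)
    (hSn0 : Sn (sSup C))
    (hSnstep : ∀ T T₁ : Subgroup G, Sn T₁ → T ≤ T₁ → T₁ ≤ normalizer (T : Set G) → Sn T)
    (hdich : ∀ K ∈ C, ∀ T : Subgroup G, Sn T → K ≤ T ∨ ⁅K, T⁆ = ⊥) :
    ⁅⁅sSup C, Y⁆, Y⁆ = ⁅sSup C, Y⁆ ∧ ⁅sSup C, Y⁆ ⊔ (sSup C ⊓ centralizer (Y : Set G)) = sSup C := by
  set E := sSup C with hE
  set C₁ : Set (Subgroup G) := {K | K ∈ C ∧ ⁅K, Y⁆ ≠ ⊥} with hC₁
  set E₁ := sSup C₁ with hE₁
  have hYE : Y ≤ normalizer (E : Set G) := le_normalizer_sSup hinv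
  have hinv₁ : ∀ y ∈ Y, ∀ K ∈ C₁, K.map (MulAut.conj y).toMonoidHom ∈ C₁ := by
    rintro y hy K ⟨hK, hK'⟩
    refine ⟨hinv y hy K hK, ?_⟩
    intro h0
    apply hK'
    rw [← map_conj_eq_self_of_mem hy, ← Subgroup.map_commutator, Subgroup.map_eq_bot_iff,
      ] at h0
    · rw [← le_bot_iff]
      have : ((MulAut.conj y).toMonoidHom).ker = ⊥ :=
        (MonoidHom.ker_eq_bot_iff _).mpr (MulAut.conj y).injective
      rw [this] at h0
      exact h0
  have hYE₁ : Y ≤ normalizer (E₁ : Set G) := le_normalizer_sSup hinv₁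
  set T := ⁅E, Y⁆ with hT
  set T₂ := ⁅T, Y⁆ with hT₂
  have hTE : T ≤ E := commutator_le_of_normalizes hYE
  have hYT : Y ≤ normalizer (T : Set G) := right_normalizes_commutator hYE
  have hT₂T : T₂ ≤ T := commutator_le_of_normalizes hYT
  have hSnT : Sn T := hSnstep T E hSn0 hTE (left_normalizes_commutator E Y)
  have hSnT₂ : Sn T₂ := hSnstep T₂ T hSnT hT₂T (left_normalizes_commutator T Y)
  have hKT : ∀ K ∈ C₁, K ≤ T := by
    rintro K ⟨hK, hK'⟩
    rcases hdich K hK T hSnT with h | h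
    · exact h
    · exfalso
      apply hK'
      apply commutator_eq_bot_of_perfect (hperf K hK)
      rw [← le_bot_iff, ← h, Subgroup.commutator_comm]
      exact Subgroup.commutator_mono le_rfl
        (Subgroup.commutator_mono (le_sSup hK) le_rfl)
  have hKT₂ : ∀ K ∈ C₁, K ≤ T₂ := by
    intro K hK₁
    obtain ⟨hK, hK'⟩ := id hK₁
    rcases hdich K hK T₂ hSnT₂ with h | h
    · exact h
    · exfalso
      apply hK'
      apply commutator_eq_bot_of_perfect (hperf K hK)
      rw [← le_bot_iff, ← h, Subgroup.commutator_comm]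
      exact Subgroup.commutator_mono le_rfl
        (Subgroup.commutator_mono (hKT K hK₁) le_rfl)
  have hE₁T₂ : E₁ ≤ T₂ := sSup_le hKT₂
  -- every `K ∈ C` normalizes `E₁`
  have hEE₁ : E ≤ normalizer (E₁ : Set G) := by
    refine sSup_le fun K hK => ?_
    by_cases hK0 : ⁅K, Y⁆ = ⊥
    · intro x hx
      have h1 : E₁ ≤ centralizer (K : Set G) := by
        refine sSup_le fun K' hK' => ?_
        rcases hcomm K hK K' hK'.1 with h | h
        · subst h; exact absurd hK0 hK'.2
        · rw [Subgroup.le_centralizer_iff]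
          rw [Subgroup.commutator_eq_bot_iff_le_centralizer] at h
          exact h
      have hc : ∀ x ∈ K, ∀ z ∈ E₁, x * z * x⁻¹ = z := by
        intro x hx z hz
        have := (Subgroup.mem_centralizer_iff.mp (h1 hz)) x hx
        rw [this]; group
      refine mem_normalizer_of_conj_mem (fun z hz => ?_) (fun z hz => ?_)
      · rw [hc x hx z hz]; exact hz
      · have h2 := hc x⁻¹ (inv_mem hx) z hz
        rw [inv_inv] at h2
        rw [h2]; exact hz
    · have : K ≤ E₁ := le_sSup ⟨hK, hK0⟩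
      exact this.trans Subgroup.le_normalizer
  -- `[E, Y] ≤ E₁`
  have hTE₁ : T ≤ E₁ := by
    have hn : ∀ a ∈ E, ∀ z ∈ E₁, a * z * a⁻¹ ∈ E₁ := fun a ha z hz =>
      (Subgroup.mem_normalizer_iff.mp (hEE₁ ha) z).mp hz
    have hny : ∀ a ∈ Y, ∀ z ∈ E₁, a * z * a⁻¹ ∈ E₁ := fun a ha z hz =>
      (Subgroup.mem_normalizer_iff.mp (hYE₁ ha) z).mp hz
    let Q : Subgroup G :=
      { carrier := {e | e ∈ E ∧ ∀ y ∈ Y, ⁅e, y⁆ ∈ E₁}
        one_mem' := ⟨one_mem _, fun y _ => by simp [one_mem]⟩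
        mul_mem' := by
          rintro a b ⟨ha, ha'⟩ ⟨hb, hb'⟩
          refine ⟨mul_mem ha hb, fun y hy => ?_⟩
          have e : ⁅a * b, y⁆ = a * ⁅b, y⁆ * a⁻¹ * ⁅a, y⁆ := by
            simp only [commutatorElement_def]; group
          rw [e]
          exact mul_mem (hn a ha _ (hb' y hy)) (ha' y hy)
        inv_mem' := by
          rintro a ⟨ha, ha'⟩
          refine ⟨inv_mem ha, fun y hy => ?_⟩
          have e : ⁅a⁻¹, y⁆ = a⁻¹ * (⁅a, y⁆)⁻¹ * a⁻¹⁻¹ := by
            simp only [commutatorElement_def]; group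
          rw [e]
          exact hn a⁻¹ (inv_mem ha) _ (inv_mem (ha' y hy)) }
    have hEQ : E ≤ Q := by
      refine sSup_le fun K hK => ?_
      intro e he
      refine ⟨(le_sSup hK : K ≤ E) he, fun y hy => ?_⟩
      by_cases hK0 : ⁅K, Y⁆ = ⊥
      · have := Subgroup.commutator_mem_commutator he hy
        rw [hK0, Subgroup.mem_bot] at this
        rw [this]; exact one_mem _
      · have hKE : K ≤ E₁ := le_sSup ⟨hK, hK0⟩
        have e1 : ⁅e, y⁆ = e * (y * e⁻¹ * y⁻¹) := by rw [commutatorElement_def]; group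
        rw [e1]
        exact mul_mem (hKE he) (hny y hy _ (inv_mem (hKE he)))
    rw [hT, Subgroup.commutator_le]
    intro e he y hy
    exact (hEQ he).2 y hy
  have hTT₂ : T₂ = T := le_antisymm hT₂T (hTE₁.trans hE₁T₂)
  refine ⟨hTT₂, le_antisymm (sup_le hTE inf_le_left) ?_⟩
  refine sSup_le fun K hK => ?_
  by_cases hK0 : ⁅K, Y⁆ = ⊥
  · refine le_trans (le_inf (le_sSup hK) ?_) le_sup_right
    rw [Subgroup.commutator_eq_bot_iff_le_centralizer] at hK0
    exact hK0
  · exact (hKT K ⟨hK, hK0⟩).trans le_sup_left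

/-- Theorem B: `L = F(L) E(L)` with `F(L)` a `p'`-group. -/
theorem action_of_top {p : ℕ} [Fact p.Prime] [Finite G] (L Y : Subgroup G)
    (hL : fittingSubgroup ↥L ⊔ layer ↥L = ⊤)
    (hcop : (Nat.card ↥(fittingSubgroup ↥L)).Coprime p)
    (hY : IsPGroup p ↥Y) (hYL : Y ≤ normalizer (L : Set G)) :
    ⁅L, Y⁆ ⊔ (L ⊓ centralizer (Y : Set G)) = L ∧ ⁅⁅L, Y⁆, Y⁆ = ⁅L, Y⁆ := by
  classical
  set Fi : Subgroup G := (fittingSubgroup ↥L).map L.subtype with hFi
  set C : Set (Subgroup G) := {K | ∃ K' : Subgroup ↥L, IsComponent K' ∧ K = K'.map L.subtype} with hC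
  have hE : sSup C = (layer ↥L).map L.subtype := by
    apply le_antisymm
    · refine sSup_le ?_
      rintro _ ⟨K', hK', rfl⟩
      exact Subgroup.map_mono (le_layer hK')
    · rw [Subgroup.map_le_iff_le_comap]
      refine sSup_le fun K' hK' => ?_
      rw [← Subgroup.map_le_iff_le_comap]
      exact le_sSup ⟨K', hK', rfl⟩
  set E : Subgroup G := sSup C with hEdef
  have hFE : Fi ⊔ E = L := by
    rw [hE, hFi, ← Subgroup.map_sup, hL, ← MonoidHom.range_eq_map, Subgroup.range_subtype]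
  have hFL : Fi ≤ L := by rw [← hFE]; exact le_sup_left
  have hEL : E ≤ L := by rw [← hFE]; exact le_sup_right
  have hcFE : ∀ f ∈ Fi, ∀ e ∈ E, f * e = e * f := by
    intro f hf e he
    rw [hE] at he
    obtain ⟨f', hf', rfl⟩ := hf
    obtain ⟨e', he', rfl⟩ := he
    have := Cfsg.Agent.Lib.Components.FStarFactor.layer_fitting_commute he' hf'
    exact congrArg Subtype.val this.symm
  -- the action on components
  have hinv : ∀ y ∈ Y, ∀ K ∈ C, K.map (MulAut.conj y).toMonoidHom ∈ C := by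
    rintro y hy _ ⟨K', hK', rfl⟩
    refine ⟨K'.map (Cfsg.Agent.Lib.Components.PComponent.conjRestrict L y (hYL hy)).toMonoidHom,
      isComponent_map_mulEquiv _ hK', ?_⟩
    ext x
    constructor
    · rintro ⟨_, ⟨z, hz, rfl⟩, rfl⟩
      exact ⟨_, ⟨z, hz, rfl⟩, rfl⟩
    · rintro ⟨_, ⟨z, hz, rfl⟩, rfl⟩
      exact ⟨_, ⟨z, hz, rfl⟩, rfl⟩
  have hsem := semisimple_action C Y
    (fun T => T ≤ L ∧ (T.subgroupOf L).IsSubnormal)
    (by
      rintro _ ⟨K', hK', rfl⟩
      rw [← Subgroup.map_commutator, Subgroup.isPerfect_iff.mp hK'.2.1])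
    (by
      rintro _ ⟨K', hK', rfl⟩ _ ⟨K'', hK'', rfl⟩
      rcases eq_or_commutator_eq_bot hK' hK'' with h | h
      · exact Or.inl (by rw [h])
      · exact Or.inr (by rw [← Subgroup.map_commutator, h, Subgroup.map_bot]))
    hinv
    ⟨hEL, by
      have : E.subgroupOf L = layer ↥L := by
        rw [hE]
        exact Subgroup.comap_map_eq_self_of_injective L.subtype_injective _
      rw [this]
      exact (layer_normal).isSubnormal⟩
    (by
      rintro T T₁ ⟨hT₁L, hT₁⟩ hTT₁ hn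
      refine ⟨hTT₁.trans hT₁L, Subgroup.IsSubnormal.step _ (T₁.subgroupOf L)
        (fun x hx => hTT₁ hx) hT₁ ?_⟩
      refine ⟨fun x hx g => ?_⟩
      rw [Subgroup.mem_subgroupOf] at hx ⊢
      exact (Subgroup.mem_normalizer_iff.mp (hn g.2) _).mp hx)
    (by
      rintro _ ⟨K', hK', rfl⟩ T ⟨hTL, hT⟩
      rcases le_or_commutator_eq_bot hK' hT with h | h
      · left
        rintro _ ⟨z, hz, rfl⟩
        exact Subgroup.mem_subgroupOf.mp (h hz)
      · right
        have e : T = (T.subgroupOf L).map L.subtype := by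
          rw [Subgroup.subgroupOf_map_subtype]; exact (inf_eq_left.mpr hTL).symm
        rw [e, ← Subgroup.map_commutator, h, Subgroup.map_bot])
  obtain ⟨hE1, hE2⟩ := hsem
  -- the Fitting part
  have hYF : Y ≤ normalizer (Fi : Set G) :=
    hYL.trans (Cfsg.Agent.Lib.Components.Fitting.normalizer_le_normalizer_fitOf L)
  have hYE : Y ≤ normalizer (E : Set G) := le_normalizer_sSup hinv
  have hcopY : (Nat.card ↥Y).Coprime (Nat.card ↥Fi) := by
    have : Nat.card ↥Fi = Nat.card ↥(fittingSubgroup ↥L) :=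
      (Nat.card_congr (Subgroup.equivMapOfInjective _ _ L.subtype_injective).toEquiv).symm
    rw [this]
    obtain ⟨n, hn⟩ := IsPGroup.iff_card.mp hY
    rw [hn]
    exact (hcop.symm.pow_left n)
  have hsolvY : Group.IsSolvable ↥Y ∨ Group.IsSolvable ↥Fi :=
    Or.inl (by haveI := hY.isNilpotent; infer_instance)
  have hF1 := Cfsg.Agent.S0026.result Y Fi hYF hcopY hsolvY
  have hF2 := Cfsg.Agent.S0027.result Y Fi hYF hcopY hsolvY
  -- the commutator
  have hcomm : ⁅L, Y⁆ = ⁅Fi, Y⁆ ⊔ ⁅E, Y⁆ := by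
    apply le_antisymm
    · rw [Subgroup.commutator_le]
      intro x hx y hy
      rw [← hFE] at hx
      obtain ⟨f, hf, e, he, rfl⟩ := mem_sup_of_commute hcFE hx
      have h1 : ⁅e, y⁆ ∈ E :=
        (commutator_le_of_normalizes hYE) (Subgroup.commutator_mem_commutator he hy)
      have e1 : ⁅f * e, y⁆ = ⁅e, y⁆ * ⁅f, y⁆ := by
        have hfc := hcFE f hf _ h1
        have e2 : ⁅f * e, y⁆ = f * ⁅e, y⁆ * f⁻¹ * ⁅f, y⁆ := by
          simp only [commutatorElement_def]; group
        rw [e2, hfc]; group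
      rw [e1]
      exact mul_mem
        ((le_sup_right : ⁅E, Y⁆ ≤ _) (Subgroup.commutator_mem_commutator he hy))
        ((le_sup_left : ⁅Fi, Y⁆ ≤ _) (Subgroup.commutator_mem_commutator hf hy))
    · exact sup_le (Subgroup.commutator_mono hFL le_rfl) (Subgroup.commutator_mono hEL le_rfl)
  constructor
  · apply le_antisymm
    · exact sup_le (commutator_le_of_normalizes hYL) inf_le_left
    · conv_lhs => rw [← hFE]
      refine sup_le ?_ ?_
      · refine (le_of_eq hF1.symm).trans (sup_le ?_ ?_)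
        · exact le_sup_of_le_left (Subgroup.commutator_mono hFL le_rfl)
        · exact le_sup_of_le_right (inf_le_inf_right _ hFL)
      · refine (le_of_eq hE2.symm).trans (sup_le ?_ ?_)
        · exact le_sup_of_le_left (Subgroup.commutator_mono hEL le_rfl)
        · exact le_sup_of_le_right (inf_le_inf_right _ hEL)
  · apply le_antisymm
    · exact commutator_le_of_normalizes (right_normalizes_commutator hYL)
    · rw [hcomm]
      refine sup_le ?_ ?_
      · calc ⁅Fi, Y⁆ = ⁅⁅Fi, Y⁆, Y⁆ := hF2.symm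
          _ ≤ _ := Subgroup.commutator_mono le_sup_left le_rfl
      · calc ⁅E, Y⁆ = ⁅⁅E, Y⁆, Y⁆ := hE1.symm
          _ ≤ _ := Subgroup.commutator_mono le_sup_right le_rfl

section consequences

variable {H : Type*} [Group H] [Finite H] {p : ℕ} [Fact p.Prime]

theorem card_fitting_coprime (h : pCore p H = ⊥) : (Nat.card ↥(fittingSubgroup H)).Coprime p := by
  rw [Nat.coprime_comm, Nat.Prime.coprime_iff_not_dvd Fact.out]
  intro hd
  obtain ⟨⟨x, hxF⟩, hx⟩ := exists_prime_orderOf_dvd_card' p hd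
  have hx' : orderOf x = p := by rwa [Subgroup.orderOf_mk] at hx
  have h1 : x ∈ pCore p H :=
    Cfsg.Agent.Lib.Basic.PCore.mem_pCore_of_normal_nilpotent inferInstance
      Cfsg.Agent.Lib.Basic.PCore.fittingSubgroup_isNilpotent hxF (k := 1) Fact.out
      (by rw [pow_one, hx'])
  rw [h, Subgroup.mem_bot] at h1
  rw [h1, orderOf_one] at hx'
  exact (Fact.out : p.Prime).ne_one hx'.symm

theorem pCore_eq_bot_of_subnormal (h : pCore p H = ⊥) {S : Subgroup H} (hS : S.IsSubnormal) :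
    pCore p ↥S = ⊥ := by
  have h1 : ((pCore p ↥S).map S.subtype).IsSubnormal :=
    Subgroup.IsSubnormal.trans' ((inferInstance : (pCore p ↥S).Normal).isSubnormal) hS
  have h2 : IsPGroup p ↥((pCore p ↥S).map S.subtype) :=
    (Cfsg.Agent.Lib.Basic.PCore.pCore_isPGroup p).map _
  have h3 := Cfsg.Agent.Lib.Basic.PCore.le_pCore_of_subnormal h1 h2
  rw [h, le_bot_iff, Subgroup.map_eq_bot_iff_of_injective _ S.subtype_injective] at h3
  exact h3

/-- `F*(G) ⊓ K = F*(K)` for a subnormal subgroup `K`. -/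
theorem generalizedFitting_inf_subnormal {K : Subgroup H} (hBs : K.IsSubnormal) :
    generalizedFittingSubgroup H ⊓ K = (generalizedFittingSubgroup ↥K).map K.subtype := by
  apply le_antisymm
  · set S := generalizedFittingSubgroup H ⊓ K with hSdef
    have hS : S ≤ generalizedFittingSubgroup H := inf_le_left
    have hSB : S ≤ K := inf_le_right
    have hsn : S.IsSubnormal := Subgroup.IsSubnormal.inf
      (Subgroup.Normal.isSubnormal inferInstance) hBs
    refine (Cfsg.Agent.Lib.Components.FStar2.le_sSup_components_sup_fitting_inf hS hsn).trans ?_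
    rw [generalizedFittingSubgroup, Subgroup.map_sup]
    refine sup_le_sup ?_ ?_
    · exact sSup_le (fun L hL =>
        Cfsg.Agent.Lib.Components.FStar2.le_map_layer_of_isComponent hL.1 (hL.2.trans hSB))
    · exact (inf_le_inf_left _ hSB).trans (Cfsg.Agent.Lib.Components.Fitting.fitting_inf_eq_fitOf hBs).le
  · refine le_inf ?_ (Subgroup.map_subtype_le _)
    rw [generalizedFittingSubgroup, Subgroup.map_sup]
    exact sup_le_sup (Layer.map_layer_of_isSubnormal hBs)
      (Cfsg.Agent.Lib.Components.Fitting.fitOf_le_fitting hBs)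

/-- Action on a subnormal subgroup of `F*(H)`, when `O_p(H) = 1`. -/
theorem action_of_le_generalizedFitting (hO : pCore p H = ⊥) {L Y : Subgroup H}
    (hLF : L ≤ generalizedFittingSubgroup H) (hLs : L.IsSubnormal)
    (hY : IsPGroup p ↥Y) (hYL : Y ≤ normalizer (L : Set H)) :
    ⁅L, Y⁆ ⊔ (L ⊓ centralizer (Y : Set H)) = L ∧ ⁅⁅L, Y⁆, Y⁆ = ⁅L, Y⁆ :=
  action_of_top L Y (Cfsg.Agent.Lib.Components.FStarFactor.fitting_sup_layer_eq_top hLF hLs)
    (card_fitting_coprime (pCore_eq_bot_of_subnormal hO hLs)) hY hYL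

/-- If `[F*(H), Y₀, Y₀] = 1`..: a `p`-subgroup centralizing `F*(H)` is trivial when `O_p(H) = 1`. -/
theorem eq_bot_of_commutator_generalizedFitting (hO : pCore p H = ⊥) {Y : Subgroup H}
    (hY : IsPGroup p ↥Y) (h : ⁅generalizedFittingSubgroup H, Y⁆ = ⊥) : Y = ⊥ := by
  set X := generalizedFittingSubgroup H with hX
  have hXn : X.Normal := inferInstance
  have hYC : Y ≤ centralizer (X : Set H) := by
    rw [Subgroup.commutator_eq_bot_iff_le_centralizer, Subgroup.le_centralizer_iff] at h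
    exact h
  have hYX : Y ≤ X := hYC.trans Cfsg.Agent.Lib.Components.FStar.centralizer_generalizedFitting_le
  have hNn : (X ⊓ centralizer (X : Set H)).Normal := inferInstance
  have hNnil : Group.IsNilpotent ↥(X ⊓ centralizer (X : Set H)) := by
    have hcomm : IsMulCommutative ↥(X ⊓ centralizer (X : Set H)) := by
      constructor
      constructor
      rintro ⟨a, ha⟩ ⟨b, hb⟩
      apply Subtype.ext
      exact (Subgroup.mem_centralizer_iff.mp hb.2) a ha.1
    exact Cfsg.Agent.Lib.Components.FStar2.isNilpotent_of_isMulCommutative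
  rw [eq_bot_iff]
  intro y hy
  obtain ⟨k, hk⟩ := IsPGroup.iff_orderOf.mp hY ⟨y, hy⟩
  have hk' : orderOf y = p ^ k := by rw [← hk]; exact (Subgroup.orderOf_mk y hy).symm
  have h1 := Cfsg.Agent.Lib.Basic.PCore.mem_pCore_of_normal_nilpotent hNn hNnil
    (⟨hYX hy, hYC hy⟩ : y ∈ X ⊓ centralizer (X : Set H)) Fact.out hk'
  rwa [hO] at h1

end consequences

end Cfsg.Agent.Lib.Components.YAction
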