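import Mathlib
import Cfsg.Agent.Lib.Basic.SylowConj

/-!
# Tools for applying the Z*-theorem: fixed central involutions, weak closure.
-/

set_option autoImplicit false

namespace Cfsg.Agent.Lib.Components.ZStarApps

open Subgroup

section Product

variable {P A : Type*} [Group P] [Group A] [Finite P]

/-- If `π z ≠ 1` and every member of a family of automorphisms either fixes `z` or sends it to the
kernel of `π`, and involutions are central, then there is a central involution fixed by the family. -/
theorem exists_fixed_central_involution (Γ : Subgroup (MulAut P)) (π : P →* A) (z : P)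
    (hcen : ∀ x : P, x * x = 1 → x ∈ center P) (hz : z * z = 1) (hπ : π z ≠ 1)
    (hΓ : ∀ b ∈ Γ, π (b z) = 1 ∨ b z = z) :
    ∃ t : P, t ∈ center P ∧ t * t = 1 ∧ t ≠ 1 ∧ ∀ b ∈ Γ, b t = t := by
  classical
  letI : CommGroup (center P) := { (inferInstance : Group (center P)) with
    mul_comm := fun a b => Subtype.ext (by
      have := (Subgroup.mem_center_iff.mp a.2) (b : P)
      simpa using this.symm) }
  haveI : Fintype (Γ) := Fintype.ofFinite _
  have hmem : ∀ b : Γ, (b : MulAut P) z ∈ center P := fun b => hcen _ (by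
    rw [← map_mul, hz, map_one])
  let X : Finset (center P) := Finset.univ.image (fun b : Γ => (⟨(b : MulAut P) z, hmem b⟩ : center P))
  let t : center P := ∏ x ∈ X, x
  have hX : ∀ x ∈ X, (x : P) * x = 1 := by
    intro x hx
    obtain ⟨b, -, rfl⟩ := Finset.mem_image.mp hx
    change (b : MulAut P) z * (b : MulAut P) z = 1
    rw [← map_mul, hz, map_one]
  have ht2 : t * t = 1 := by
    change (∏ x ∈ X, x) * (∏ x ∈ X, x) = 1
    rw [← Finset.prod_mul_distrib]
    refine Finset.prod_eq_one fun x hx => Subtype.ext ?_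
    exact hX x hx
  let zc : center P := ⟨z, hcen z hz⟩
  have hzX : zc ∈ X := Finset.mem_image.mpr ⟨1, Finset.mem_univ _, Subtype.ext (by simp [zc])⟩
  let πc : center P →* A := π.comp (center P).subtype
  have hπt : π (t : P) = π z := by
    have h1 : zc * ∏ x ∈ X.erase zc, x = t := Finset.mul_prod_erase X (fun x => x) hzX
    have h2 : (∏ x ∈ X.erase zc, x) ∈ πc.ker := by
      refine Subgroup.prod_mem _ ?_
      intro x hx
      obtain ⟨hne, hx⟩ := Finset.mem_erase.mp hx
      obtain ⟨b, -, rfl⟩ := Finset.mem_image.mp hx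
      rw [MonoidHom.mem_ker]
      rcases hΓ b b.2 with h | h
      · exact h
      · exact absurd (Subtype.ext h) hne
    have h3 : πc t = πc zc := by
      rw [← h1, map_mul, MonoidHom.mem_ker.mp h2, mul_one]
    exact h3
  refine ⟨t, t.2, congrArg Subtype.val ht2, ?_, ?_⟩
  · intro h
    apply hπ
    rw [← hπt, h, map_one]
  · intro b hb
    -- the restriction of `b` to the center
    have hbc : ∀ x : center P, b (x : P) ∈ center P := by
      intro x
      rw [Subgroup.mem_center_iff]
      intro g
      obtain ⟨g', rfl⟩ := b.surjective g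
      rw [← map_mul, ← map_mul, (Subgroup.mem_center_iff.mp x.2) g']
    let f : center P →* center P :=
      { toFun := fun x => ⟨b (x : P), hbc x⟩
        map_one' := Subtype.ext (by simp)
        map_mul' := fun x y => Subtype.ext (by simp) }
    have hfinj : Function.Injective f := by
      intro x y hxy
      have : b (x : P) = b (y : P) := congrArg Subtype.val hxy
      exact Subtype.ext (b.injective this)
    have himg : X.image f = X := by
      apply Finset.eq_of_subset_of_card_le
      · intro x hx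
        obtain ⟨y, hy, rfl⟩ := Finset.mem_image.mp hx
        obtain ⟨c, -, rfl⟩ := Finset.mem_image.mp hy
        refine Finset.mem_image.mpr ⟨⟨b * c, Γ.mul_mem hb c.2⟩, Finset.mem_univ _, Subtype.ext ?_⟩
        rfl
      · rw [Finset.card_image_of_injective _ hfinj]
    have : f t = t := by
      change f (∏ x ∈ X, x) = ∏ x ∈ X, x
      rw [map_prod]
      conv_rhs => rw [← himg]
      rw [Finset.prod_image (fun x _ y _ h => hfinj h)]
    exact congrArg Subtype.val this

end Product

section DirectProduct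

variable {A B : Type*} [Group A] [Group B] [Finite A] [Finite B]

theorem map_eq_one_of_hker {C : Type*} [Group C] (z : A) (hker : ∀ x : A, x ≠ 1 → z ∈ zpowers x)
    (h : A →* C) (x : A) (hx : x ≠ 1) (hhx : h x = 1) : h z = 1 := by
  obtain ⟨k, hk⟩ := mem_zpowers_iff.mp (hker x hx)
  rw [← hk, map_zpow, hhx, one_zpow]

/-- Dichotomy for automorphisms of `A × B`: if `A` is a nonabelian group with a unique involution
`z`, which is a power of every nontrivial element, then any automorphism of `A × B`
either fixes `(z, 1)` or maps it into `1 × B`. -/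
theorem prod_aut_dichotomy (z : A) (hz1 : z ≠ 1) (hz2 : z * z = 1)
    (huniq : ∀ a : A, a * a = 1 → a = 1 ∨ a = z)
    (hker : ∀ x : A, x ≠ 1 → z ∈ zpowers x)
    (hnab : ∃ a a' : A, a * a' ≠ a' * a)
    (b : MulAut (A × B)) : (b (z, 1)).1 = 1 ∨ b (z, 1) = (z, 1) := by
  classical
  let f : A →* A := (MonoidHom.fst A B).comp (b.toMonoidHom.comp (MonoidHom.inl A B))
  let g : A →* B := (MonoidHom.snd A B).comp (b.toMonoidHom.comp (MonoidHom.inl A B))
  have hb : ∀ q : A, b (q, 1) = (f q, g q) := fun q => rfl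
  by_cases hf : Function.Injective f
  · right
    have hfs : Function.Surjective f := Finite.injective_iff_surjective.mp hf
    let T : Set (A × B) := {p | p.1 ∈ center A}
    have hbT : ∀ c ∈ T, b c ∈ T := by
      intro c hc
      change (b c).1 ∈ center A
      rw [mem_center_iff]
      intro a
      obtain ⟨q, rfl⟩ := hfs a
      have h1 : ((q, 1) : A × B) * c = c * (q, 1) := by
        refine Prod.ext ?_ ?_
        · exact (mem_center_iff.mp hc) q
        · simp
      have h2 := congrArg b h1
      rw [map_mul, map_mul, hb] at h2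
      exact congrArg Prod.fst h2
    have hsurj : ∀ d ∈ T, ∃ c ∈ T, b c = d := by
      let bT : T → T := fun c => ⟨b c, hbT c c.2⟩
      have hinj : Function.Injective bT := by
        intro x y hxy
        exact Subtype.ext (b.injective (congrArg Subtype.val hxy))
      have hs := Finite.injective_iff_surjective.mp hinj
      intro d hd
      obtain ⟨c, hc⟩ := hs ⟨d, hd⟩
      exact ⟨c, c.2, congrArg Subtype.val hc⟩
    have hg : ∀ (q : A) (r : B), g q * r = r * g q := by
      intro q r
      obtain ⟨c, hc, hcb⟩ := hsurj (1, r) (by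
        change (1 : A) ∈ center A
        exact one_mem _)
      have h1 : ((q, 1) : A × B) * c = c * (q, 1) := by
        refine Prod.ext ?_ ?_
        · exact (mem_center_iff.mp hc) q
        · simp
      have h2 := congrArg b h1
      rw [map_mul, map_mul, hb, hcb] at h2
      exact congrArg Prod.snd h2
    obtain ⟨a, a', haa⟩ := hnab
    have hgz : g z = 1 := by
      refine map_eq_one_of_hker z hker g (a * a' * a⁻¹ * a'⁻¹) ?_ ?_
      · intro h
        apply haa
        have : a * a' * a⁻¹ = a' := by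
          calc a * a' * a⁻¹ = a * a' * a⁻¹ * a'⁻¹ * a' := by group
            _ = a' := by rw [h, one_mul]
        calc a * a' = a * a' * a⁻¹ * a := by group
          _ = a' * a := by rw [this]
      · simp only [map_mul, map_inv]
        rw [hg a (g a'), mul_assoc, mul_assoc, mul_inv_cancel_left, mul_inv_cancel]
    have hfz : f z = z := by
      rcases huniq (f z) (by rw [← map_mul, hz2, map_one]) with h | h
      · exact absurd (hf (h.trans (map_one f).symm)) hz1
      · exact h
    rw [hb, hfz, hgz]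
  · left
    have : ∃ x : A, x ≠ 1 ∧ f x = 1 := by
      by_contra hne
      push Not at hne
      apply hf
      rw [injective_iff_map_eq_one]
      intro x hx
      by_contra hx1
      exact hne x hx1 hx
    obtain ⟨x, hx, hfx⟩ := this
    have := map_eq_one_of_hker z hker f x hx hfx
    rw [hb]
    exact this

end DirectProduct

section Quaternion

open QuaternionGroup

variable {m : ℕ}

theorem quat_z_ne_one (hm : 1 ≤ m) : (a (m : ZMod (2 * m)) : QuaternionGroup m) ≠ 1 := by
  intro h
  have h1 : (m : ZMod (2 * m)) = 0 := a.inj (h.trans (by rfl))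
  rw [ZMod.natCast_eq_zero_iff] at h1
  have := Nat.le_of_dvd (by omega) h1
  omega

theorem quat_z_mul_self (hm : 1 ≤ m) : (a (m : ZMod (2 * m)) : QuaternionGroup m) * a (m : ZMod (2 * m)) = 1 := by
  rw [a_mul_a]
  have : (m : ZMod (2 * m)) + m = 0 := by
    have h : ((m + m : ℕ) : ZMod (2 * m)) = 0 := by
      rw [ZMod.natCast_eq_zero_iff]
      exact ⟨1, by ring⟩
    simpa using h
  rw [this]
  rfl

theorem quat_uniq (hm : 1 ≤ m) (q : QuaternionGroup m) (hq : q * q = 1) :
    q = 1 ∨ q = a (m : ZMod (2 * m)) := by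
  haveI : NeZero m := ⟨by omega⟩
  cases q with
  | xa i =>
    exfalso
    rw [xa_mul_xa] at hq
    simp only [add_sub_cancel_right] at hq
    exact quat_z_ne_one hm hq
  | a i =>
    rw [a_mul_a] at hq
    have h0 : i + i = 0 := a.inj (hq.trans (by rfl))
    have h1 : ((i.val + i.val : ℕ) : ZMod (2 * m)) = 0 := by
      push_cast
      rw [ZMod.natCast_zmod_val]
      exact h0
    rw [ZMod.natCast_eq_zero_iff] at h1
    have hlt : i.val < 2 * m := ZMod.val_lt i
    obtain ⟨k, hk⟩ := h1
    have hk' : k = 0 ∨ k = 1 := by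
      have : k < 2 := by
        by_contra hk2
        have : 2 ≤ k := by omega
        have : 2 * m * 2 ≤ 2 * m * k := Nat.mul_le_mul_left _ this
        omega
      omega
    rcases hk' with rfl | rfl
    · left
      have hv : i.val = 0 := by omega
      have : i = 0 := by
        rw [← ZMod.natCast_zmod_val i, hv, Nat.cast_zero]
      rw [this]
      rfl
    · right
      have hv : i.val = m := by omega
      have : i = m := by
        rw [← ZMod.natCast_zmod_val i, hv]
      rw [← this]

theorem quat_pow2 (n : ℕ) (hn : 1 ≤ n) (x : QuaternionGroup (2 ^ n)) (hx : x ≠ 1) :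
    (a ((2 ^ n : ℕ) : ZMod (2 * 2 ^ n)) : QuaternionGroup (2 ^ n)) ∈ zpowers x := by
  haveI : NeZero (2 ^ n) := ⟨by positivity⟩
  have hm : 1 ≤ 2 ^ n := Nat.one_le_two_pow
  have hcard : Nat.card (QuaternionGroup (2 ^ n)) = 2 ^ (n + 2) := by
    rw [Nat.card_eq_fintype_card, QuaternionGroup.card]
    ring
  have hdvd : orderOf x ∣ 2 ^ (n + 2) := hcard ▸ orderOf_dvd_natCard x
  obtain ⟨k, -, hk⟩ := (Nat.dvd_prime_pow Nat.prime_two).mp hdvd
  have hk0 : k ≠ 0 := by
    rintro rfl
    apply hx
    exact orderOf_eq_one_iff.mp (by simpa using hk)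
  obtain ⟨l, rfl⟩ := Nat.exists_eq_succ_of_ne_zero hk0
  have hy2 : x ^ (2 ^ l) * x ^ (2 ^ l) = 1 := by
    rw [← pow_add, ← two_mul, ← pow_succ', ← hk]
    exact pow_orderOf_eq_one x
  have hy1 : x ^ (2 ^ l) ≠ 1 := by
    intro h
    have := orderOf_dvd_of_pow_eq_one h
    rw [hk] at this
    have := (Nat.pow_dvd_pow_iff_le_right (by norm_num : 1 < 2)).mp this
    omega
  rcases quat_uniq hm _ hy2 with h | h
  · exact absurd h hy1
  · rw [← h]
    exact npow_mem_zpowers x _

theorem quat_nonabelian (hm : 2 ≤ m) : ∃ q q' : QuaternionGroup m, q * q' ≠ q' * q := by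
  refine ⟨a 1, xa 0, ?_⟩
  intro h
  rw [a_mul_xa, xa_mul_a] at h
  have h1 : (0 : ZMod (2 * m)) - 1 = 0 + 1 := xa.inj h
  have h2 : ((2 : ℕ) : ZMod (2 * m)) = 0 := by
    push_cast
    linear_combination -h1
  rw [ZMod.natCast_eq_zero_iff] at h2
  have := Nat.le_of_dvd (by norm_num) h2
  omega

end Quaternion

section WeakClosure

variable {G : Type*} [Group G] [Finite G]

/-- A central involution of a Sylow 2-subgroup `S`, fixed by `N_G(S)`, in a situation
where all involutions of `S` are central in `S`, is weakly closed in `S`. -/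
theorem weaklyClosed_of_fixed (S : Sylow 2 G) (t : G) (htS : t ∈ S) (ht : t * t = 1)
    (hcen : ∀ x ∈ S, x * x = 1 → ∀ s ∈ S, x * s = s * x)
    (hfix : ∀ n ∈ normalizer ((S : Subgroup G) : Set G), n * t * n⁻¹ = t)
    (g : G) (hg : g * t * g⁻¹ ∈ S) : g * t * g⁻¹ = t := by
  have hy2 : (g * t * g⁻¹) * (g * t * g⁻¹) = 1 := by
    calc (g * t * g⁻¹) * (g * t * g⁻¹) = g * (t * t) * g⁻¹ := by group
      _ = 1 := by rw [ht]; group
  have hinv : ∀ y ∈ S, y * y = 1 → ∀ x ∈ S, (fun w => x * w * x⁻¹) '' {y} = {y} := by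
    intro y hy hy2 x hx
    rw [Set.image_singleton]
    congr 1
    rw [← hcen y hy hy2 x hx]
    group
  obtain ⟨n, hn, hn2⟩ := Cfsg.Agent.Lib.Basic.SylowConj.exists_normalizer_conj_of_invariant S
    {t} {g * t * g⁻¹} (hinv t htS ht) (hinv _ hg hy2) g (by rw [Set.image_singleton])
  rw [Set.image_singleton, Set.singleton_eq_singleton_iff] at hn2
  rw [← hn2]
  exact hfix n hn

/-- Burnside: two elements central in a Sylow subgroup and conjugate in `G` are conjugate in its
normalizer. -/
theorem central_conj_in_normalizer {p : ℕ} [Fact p.Prime] (S : Sylow p G) (t : G)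
    (hcen : ∀ s ∈ S, s * t = t * s) (g : G) (hcg : ∀ s ∈ S, s * (g * t * g⁻¹) = (g * t * g⁻¹) * s) :
    ∃ n ∈ normalizer ((S : Subgroup G) : Set G), n * t * n⁻¹ = g * t * g⁻¹ := by
  have hinv : ∀ y : G, (∀ s ∈ S, s * y = y * s) → ∀ x ∈ S, (fun w => x * w * x⁻¹) '' {y} = {y} := by
    intro y hy x hx
    rw [Set.image_singleton]
    congr 1
    rw [hy x hx]
    group
  obtain ⟨n, hn, hn2⟩ := Cfsg.Agent.Lib.Basic.SylowConj.exists_normalizer_conj_of_invariant S
    {t} {g * t * g⁻¹} (hinv t hcen) (hinv _ hcg) g (by rw [Set.image_singleton])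
  rw [Set.image_singleton, Set.singleton_eq_singleton_iff] at hn2
  exact ⟨n, hn, hn2⟩

end WeakClosure

section CentralInvolution

variable {G : Type*} [Group G] [Finite G]

/-- A Sylow 2-subgroup of a group of even order has a central involution. -/
theorem exists_central_involution (S : Sylow 2 G) (h : Even (Nat.card G)) :
    ∃ z : G, z ∈ S ∧ orderOf z = 2 ∧ ∀ s ∈ S, s * z = z * s := by
  haveI hnt : Nontrivial (S : Subgroup G) := by
    have h2 : 2 ∣ Nat.card G := even_iff_two_dvd.mp h
    obtain ⟨x, hx⟩ := exists_prime_orderOf_dvd_card' 2 h2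
    have hxp : IsPGroup 2 (zpowers x) := by
      rw [IsPGroup.iff_card]
      exact ⟨1, by rw [Nat.card_zpowers, hx, pow_one]⟩
    obtain ⟨P, hP⟩ := hxp.exists_le_sylow
    obtain ⟨g, rfl⟩ := MulAction.exists_smul_eq G P S
    have hmem : g * x * g⁻¹ ∈ ((g • P : Sylow 2 G) : Subgroup G) := by
      rw [Sylow.coe_subgroup_smul]
      exact Subgroup.mem_smul_pointwise_iff_exists _ _ _ |>.mpr
        ⟨x, hP (mem_zpowers x), by simp [MulAut.smul_def]⟩
    refine ⟨⟨⟨_, hmem⟩, 1, fun h => ?_⟩⟩
    have h3 : g * x * g⁻¹ = 1 := congrArg Subtype.val h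
    have h4 : x = 1 := by
      have : x = g⁻¹ * (g * x * g⁻¹) * g := by group
      rw [this, h3]; group
    rw [h4] at hx
    simp at hx
  have hp : IsPGroup 2 (S : Subgroup G) := S.isPGroup'
  haveI := hp.center_nontrivial
  have hcp : IsPGroup 2 (center (S : Subgroup G)) := hp.to_subgroup _
  obtain ⟨n, hn, hcard⟩ := (hcp.nontrivial_iff_card).mp inferInstance
  have h2 : 2 ∣ Nat.card (center (S : Subgroup G)) := by
    rw [hcard]
    exact dvd_pow_self 2 hn.ne'
  obtain ⟨x, hx⟩ := exists_prime_orderOf_dvd_card' 2 h2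
  refine ⟨((x : (S : Subgroup G)) : G), (x : (S : Subgroup G)).2, ?_, ?_⟩
  · have e1 : orderOf ((x : (S : Subgroup G)) : G) = orderOf (x : (S : Subgroup G)) :=
      Subgroup.orderOf_coe _
    have e2 : orderOf (x : (S : Subgroup G)) = orderOf x := Subgroup.orderOf_coe _
    rw [e1, e2, hx]
  · intro s hs
    have := (mem_center_iff.mp x.2) ⟨s, hs⟩
    exact congrArg Subtype.val this

end CentralInvolution

section DirectSylow

variable {G : Type*} [Group G] [Finite G]

/-- An internal direct product decomposition as a multiplicative equivalence. -/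
theorem exists_equiv_of_internal (S Q R : Subgroup G) (hQ : Q ≤ S) (hR : R ≤ S)
    (hc : ∀ a ∈ Q, ∀ b ∈ R, a * b = b * a) (hi : Q ⊓ R = ⊥) (hs : Q ⊔ R = S) :
    ∃ φ : (↥Q × ↥R) ≃* ↥S, ∀ p : ↥Q × ↥R, ((φ p : ↥S) : G) = (p.1 : G) * (p.2 : G) := by
  let f : (↥Q × ↥R) →* ↥S :=
    { toFun := fun p => ⟨(p.1 : G) * (p.2 : G), S.mul_mem (hQ p.1.2) (hR p.2.2)⟩
      map_one' := by ext; simp
      map_mul' := fun x y => by
        ext
        simp only [Prod.fst_mul, Prod.snd_mul, Subgroup.coe_mul]
        have := hc (y.1 : G) y.1.2 (x.2 : G) x.2.2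
        calc (x.1 : G) * y.1 * (x.2 * y.2) = x.1 * (y.1 * x.2) * y.2 := by group
          _ = x.1 * (x.2 * y.1) * y.2 := by rw [this]
          _ = x.1 * x.2 * (y.1 * y.2) := by group }
  have hinj : Function.Injective f := by
    rw [injective_iff_map_eq_one]
    rintro ⟨u, v⟩ h
    have h1 : (u : G) * (v : G) = 1 := congrArg Subtype.val h
    have hu : (u : G) ∈ Q ⊓ R := by
      refine mem_inf.mpr ⟨u.2, ?_⟩
      rw [eq_inv_of_mul_eq_one_left h1]
      exact R.inv_mem v.2
    rw [hi, mem_bot] at hu
    have hv : (v : G) = 1 := by rw [hu, one_mul] at h1; exact h1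
    exact Prod.ext (Subtype.ext hu) (Subtype.ext hv)
  have hsurj : Function.Surjective f := by
    rintro ⟨s, hs'⟩
    have hle : Q ⊔ R ≤ (f.range).map S.subtype := by
      refine sup_le ?_ ?_
      · intro q hq
        refine ⟨⟨q, hQ hq⟩, ⟨(⟨q, hq⟩, 1), ?_⟩, rfl⟩
        ext
        change (q : G) * 1 = q
        rw [mul_one]
      · intro r hr
        refine ⟨⟨r, hR hr⟩, ⟨(1, ⟨r, hr⟩), ?_⟩, rfl⟩
        ext
        change (1 : G) * r = r
        rw [one_mul]
    rw [← hs] at hs'
    obtain ⟨w, ⟨p, hp⟩, hw⟩ := hle hs'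
    refine ⟨p, ?_⟩
    rw [hp]
    exact Subtype.ext hw
  exact ⟨MulEquiv.ofBijective f ⟨hinj, hsurj⟩, fun p => rfl⟩

end DirectSylow

end Cfsg.Agent.Lib.Components.ZStarApps
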