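import Mathlib
import Cfsg.Prelude
import Cfsg.Agent.S0215
import Cfsg.Agent.Lib.Basic.PCore
import Cfsg.Agent.Lib.Components.ZStarApps
import Cfsg.Agent.Lib.Coprime.Coset

/-!
# The Z*-theorem in terms of the odd core.
-/

set_option autoImplicit false

namespace Cfsg.Agent.Lib.Components.ZStarCore

open Subgroup
open scoped commutatorElement

variable {G : Type*} [Group G] [Finite G]

/-- Glauberman's Z*-theorem with conclusion in the odd core. -/
theorem zstar (P : Sylow 2 G) (u : G) (hu : orderOf u = 2) (huP : u ∈ P)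
    (hiso : ∀ g : G, g * u * g⁻¹ ∈ P → g * u * g⁻¹ = u) (g : G) :
    u * g * u⁻¹ * g⁻¹ ∈ Cfsg.oddCore G := by
  obtain ⟨N, hN, hodd, h⟩ := Cfsg.Agent.S0215.result P u hu huP hiso
  have hc : (Nat.card N).Coprime 2 := Nat.coprime_two_right.mpr hodd
  exact Cfsg.Agent.Lib.Basic.PCore.le_pPrimeCore hN hc (h g)

/-- An element of a 2-group (or 2-element) different from `1` has an involution among its powers. -/
theorem exists_involution_zpowers (c : G) (hc : c ≠ 1) (hc2 : ∃ k : ℕ, c ^ (2 ^ k) = 1) :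
    ∃ t ∈ zpowers c, orderOf t = 2 := by
  classical
  obtain ⟨k, hk⟩ := hc2
  have hd : orderOf c ∣ 2 ^ k := orderOf_dvd_of_pow_eq_one hk
  obtain ⟨l, -, hl⟩ := (Nat.dvd_prime_pow Nat.prime_two).mp hd
  have hl0 : l ≠ 0 := by
    rintro rfl
    apply hc
    exact orderOf_eq_one_iff.mp (by simpa using hl)
  obtain ⟨m, rfl⟩ := Nat.exists_eq_succ_of_ne_zero hl0
  refine ⟨c ^ (2 ^ m), npow_mem_zpowers c _, ?_⟩
  rw [orderOf_pow' c (by positivity), hl]
  have : Nat.gcd (2 ^ (m + 1)) (2 ^ m) = 2 ^ m := Nat.gcd_eq_right (pow_dvd_pow 2 (Nat.le_succ m))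
  simp only [Nat.succ_eq_add_one]
  rw [this, pow_succ]
  exact Nat.mul_div_cancel_left 2 (by positivity)

/-- If `O(Γ) = 1 = Z(Γ)`, an abelian Sylow 2-subgroup of `Γ` lies in the commutator subgroup. -/
theorem sylow_le_commutator_of_abelian {Γ : Type*} [Group Γ] [Finite Γ]
    (hO : Cfsg.oddCore Γ = ⊥) (hZ : center Γ = ⊥) (S : Sylow 2 Γ)
    (hab : ∀ a ∈ (S : Subgroup Γ), ∀ b ∈ (S : Subgroup Γ), a * b = b * a) :
    (S : Subgroup Γ) ≤ commutator Γ := by
  classical
  intro s hs
  by_contra hsK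
  set N : Subgroup Γ := normalizer ((S : Subgroup Γ) : Set Γ) with hN
  have hSN : (S : Subgroup Γ) ≤ N := le_normalizer
  let T : Sylow 2 N := S.subtype hSN
  have hT : (T : Subgroup N) = (S : Subgroup Γ).subgroupOf N := Sylow.coe_subtype S hSN
  haveI hTn : (T : Subgroup N).Normal := by
    rw [hT]
    exact normal_in_normalizer
  obtain ⟨H, hH⟩ := exists_right_complement'_of_coprime T.card_coprime_index
  let A : Subgroup Γ := H.map N.subtype
  have hAN : A ≤ normalizer ((S : Subgroup Γ) : Set Γ) := by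
    rintro _ ⟨h, -, rfl⟩
    exact h.2
  have hcardA : Nat.card A = Nat.card H :=
    Nat.card_congr (H.equivMapOfInjective N.subtype N.subtype_injective).symm.toEquiv
  have hcardT : Nat.card (T : Subgroup N) = Nat.card (S : Subgroup Γ) := by
    rw [hT]
    exact Nat.card_congr (subgroupOfEquivOfLe hSN).toEquiv
  have hcop : (Nat.card A).Coprime (Nat.card (S : Subgroup Γ)) := by
    rw [hcardA, ← hcardT, ← hH.symm.index_eq_card]
    exact T.card_coprime_index.symm
  have hsolv : Group.IsSolvable (S : Subgroup Γ) :=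
    Group.isSolvable_of_comm (fun a b => Subtype.ext (hab a a.2 b b.2))
  obtain ⟨c, hc, hcs⟩ := Cfsg.Agent.Lib.Coprime.Coset.exists_centralizer_mem_coset
    (A := A) (K := (S : Subgroup Γ)) (N := (S : Subgroup Γ) ⊓ commutator Γ) hAN hcop (Or.inr hsolv)
    inf_le_left (by
      intro a ha
      rw [mem_normalizer_iff]
      intro y
      have hcn : (commutator Γ).Normal := inferInstance
      constructor
      · intro hy
        obtain ⟨h1, h2⟩ := mem_inf.mp hy
        exact mem_inf.mpr ⟨(mem_normalizer_iff.mp (hAN ha) y).mp h1,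
          hcn.conj_mem y h2 a⟩
      · intro hy
        obtain ⟨h1, h2⟩ := mem_inf.mp hy
        refine mem_inf.mpr ⟨(mem_normalizer_iff.mp (hAN ha) y).mpr h1, ?_⟩
        have := hcn.conj_mem _ h2 a⁻¹
        convert this using 1
        group) s hs (by
      intro a ha
      refine mem_inf.mpr ⟨S.mul_mem (S.inv_mem hs) ((mem_normalizer_iff.mp (hAN ha) s).mp hs), ?_⟩
      have : s⁻¹ * (a * s * a⁻¹) = ⁅s⁻¹, a⁆ := by
        rw [commutatorElement_def]; group
      rw [this]
      rw [commutator_def]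
      exact commutator_mem_commutator (mem_top _) (mem_top _))
  obtain ⟨hcS, hcA⟩ := mem_inf.mp hc
  have hcK : c ∉ commutator Γ := by
    intro hcK
    apply hsK
    have h1 := (mem_inf.mp hcs).2
    have : s = c * (s⁻¹ * c)⁻¹ := by group
    rw [this]
    exact mul_mem hcK (inv_mem h1)
  have hc1 : c ≠ 1 := by
    rintro rfl
    exact hcK (one_mem _)
  have hc2 : ∃ k : ℕ, c ^ (2 ^ k) = 1 := by
    have hp : IsPGroup 2 (S : Subgroup Γ) := S.isPGroup'
    obtain ⟨k, hk⟩ := hp ⟨c, hcS⟩
    exact ⟨k, congrArg Subtype.val hk⟩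
  obtain ⟨t, htc, ht⟩ := exists_involution_zpowers c hc1 hc2
  have htS : t ∈ (S : Subgroup Γ) := by
    have : zpowers c ≤ (S : Subgroup Γ) := (zpowers_le).mpr hcS
    exact this htc
  -- `c` is central in `N`
  have hcN : ∀ n ∈ N, n * c = c * n := by
    intro n hn
    obtain ⟨⟨t', h'⟩, hth⟩ := hH.existsUnique ⟨n, hn⟩ |>.exists
    have h1 : (n : Γ) = (t' : N) * (h' : N) := (congrArg Subtype.val hth).symm
    have h2 : ((t' : N) : Γ) ∈ (S : Subgroup Γ) := by
      have h5 : (t' : N) ∈ (S : Subgroup Γ).subgroupOf N := by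
        rw [← hT]
        exact t'.2
      exact Subgroup.mem_subgroupOf.mp h5
    have h3 : ((h' : N) : Γ) ∈ A := ⟨h', h'.2, rfl⟩
    rw [h1]
    have h4 := (mem_centralizer_iff.mp hcA) _ h3
    calc ((t' : N) : Γ) * (h' : N) * c = (t' : N) * ((h' : N) * c) := by group
      _ = (t' : N) * (c * (h' : N)) := by rw [h4]
      _ = ((t' : N) * c) * (h' : N) := by group
      _ = (c * (t' : N)) * (h' : N) := by rw [hab _ h2 c hcS]
      _ = c * ((t' : N) * (h' : N)) := by group
  have htN : ∀ n ∈ N, n * t = t * n := by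
    intro n hn
    obtain ⟨k, rfl⟩ := mem_zpowers_iff.mp htc
    have : Commute n c := hcN n hn
    exact (this.zpow_right k)
  have hiso : ∀ g : Γ, g * t * g⁻¹ ∈ S → g * t * g⁻¹ = t := by
    intro g hg
    obtain ⟨n, hn, hn2⟩ := Cfsg.Agent.Lib.Components.ZStarApps.central_conj_in_normalizer S t
      (fun s hs => hab s hs t htS) g (fun s hs => hab s hs _ hg)
    rw [← hn2, htN n hn, mul_inv_cancel_right]
  have htZ : t ∈ center Γ := by
    rw [mem_center_iff]
    intro g
    have h1 := zstar S t ht htS hiso g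
    rw [hO, mem_bot] at h1
    have h2 : t * g * t⁻¹ = g := mul_inv_eq_one.mp h1
    exact (mul_inv_eq_iff_eq_mul.mp h2).symm
  rw [hZ, mem_bot] at htZ
  rw [htZ] at ht
  simp at ht

end Cfsg.Agent.Lib.Components.ZStarCore
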