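import Mathlib
import Cfsg.Prelude.Def_IsolatedElements
import Cfsg.Agent.Lib.Components.IsolatedRankTwo
import Cfsg.Agent.Lib.Components.IsolatedMin
import Cfsg.Agent.Lib.Components.Transport
import Cfsg.Agent.Lib.Components.PComponent
import Cfsg.Agent.Lib.Solvable.PSeries
import Cfsg.Agent.Lib.Basic.SylowUtil
import Cfsg.Agent.Lib.Basic.PCore

/-!
# Minimal counterexamples to the `Z*_p` statement
-/

set_option autoImplicit false
set_option linter.unusedSectionVars false
set_option linter.style.haveILetI false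
open Cfsg

namespace Cfsg.Agent.Lib.Components.ZStarMin

open Subgroup Cfsg.Agent.Lib.Components.PMinimal
open scoped commutatorElement Pointwise

variable {G : Type*} [Group G] [Finite G] {p : ℕ} [Fact p.Prime]

/-- The minimal counterexample. -/
structure Setup (p : ℕ) (x : G) : Prop where
  hx : orderOf x = p
  hiso : IsIsolated x
  hnz : ¬ InZStar p x
  hmin : ∀ (H : Subgroup G) (hxH : x ∈ H), H ≠ ⊤ → InZStar p (⟨x, hxH⟩ : ↥H)
  hquot : ∀ (N : Subgroup G) [N.Normal], N ≠ ⊥ → InZStar p (QuotientGroup.mk x : G ⧸ N)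

namespace Setup

variable {x : G}

theorem not_central (h : Setup p x) : ¬ ∀ g : G, g * x * g⁻¹ = x := by
  intro hc
  apply h.hnz
  intro g
  rw [hc g, mul_inv_cancel]
  exact one_mem _

theorem core_eq_bot (h : Setup p x) : pPrimeCore p G = ⊥ := by
  by_contra hne
  apply h.hnz
  intro g
  have h1 := h.hquot (pPrimeCore p G) hne (g : G ⧸ pPrimeCore p G)
  rw [Cfsg.Agent.Lib.Components.PComponent.pPrimeCore_quotient_eq_bot p, mem_bot] at h1
  exact (QuotientGroup.eq_one_iff _).mp h1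

theorem normal_core_eq_bot (h : Setup p x) (M : Subgroup G) [hM : M.Normal] : pPrimeCore p ↥M = ⊥ := by
  haveI := Cfsg.Agent.Lib.Solvable.PSeries.pPrimeCore_char p ↥M
  have hn : ((pPrimeCore p ↥M).map M.subtype).Normal :=
    Cfsg.Agent.Lib.Basic.PCore.map_subtype_normal_of_characteristic _
  have hc : (Nat.card ↥((pPrimeCore p ↥M).map M.subtype)).Coprime p :=
    Nat.Coprime.coprime_dvd_left (Subgroup.card_map_dvd _ _)
      (Cfsg.Agent.Lib.Components.Transport.coprime_card_pPrimeCore p)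
  have h1 := Cfsg.Agent.Lib.Basic.PCore.le_pPrimeCore hn hc
  rw [h.core_eq_bot, le_bot_iff] at h1
  rw [eq_bot_iff]
  intro y hy
  have : (y : G) ∈ (pPrimeCore p ↥M).map M.subtype := ⟨y, hy, rfl⟩
  rw [h1] at this
  have h2 : (y : G) = 1 := by simpa using this
  simpa using Subtype.ext h2

theorem normalClosure_eq_top (h : Setup p x) : normalClosure ({x} : Set G) = ⊤ := by
  by_contra hne
  haveI hHn : (normalClosure ({x} : Set G)).Normal := normalClosure_normal
  have hxH : x ∈ normalClosure ({x} : Set G) := subset_normalClosure rfl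
  have h1 := h.hmin _ hxH hne
  have h2 := h.normal_core_eq_bot (normalClosure ({x} : Set G))
  apply h.not_central
  intro g
  have hgx : g * x * g⁻¹ ∈ normalClosure ({x} : Set G) := hHn.conj_mem x hxH g
  have h3 := h1 ⟨g * x * g⁻¹, hgx⟩
  rw [h2, mem_bot] at h3
  have h4 := congrArg Subtype.val h3
  have h5 : (g * x * g⁻¹) * x * (g * x * g⁻¹)⁻¹ * x⁻¹ = 1 := h4
  refine h.hiso g ?_
  rw [mul_inv_eq_one, mul_inv_eq_iff_eq_mul] at h5
  exact h5.symm

theorem central_of_centralized (h : Setup p x) {M : Subgroup G} (hM : M.Normal)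
    (hc : M ≤ centralizer ({x} : Set G)) {m : G} (hm : m ∈ M) (g : G) : g * m = m * g := by
  haveI := hM
  have h1 : x ∈ centralizer (M : Set G) := by
    rw [mem_centralizer_iff]
    intro y hy
    exact (mem_centralizer_singleton_iff.mp (hc hy)).symm ▸ rfl
  have h2 : normalClosure ({x} : Set G) ≤ centralizer (M : Set G) := by
    apply normalClosure_le_normal
    rintro _ rfl
    exact h1
  rw [h.normalClosure_eq_top] at h2
  exact (mem_centralizer_iff.mp (h2 (mem_top g)) m hm).symm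

/-- No nontrivial normal subgroup is centralized by `x`. -/
theorem false_of_centralized (h : Setup p x) {M : Subgroup G} (hM : M.Normal) (hne : M ≠ ⊥)
    (hc : M ≤ centralizer ({x} : Set G)) : False := by
  haveI := hM
  have hcentral := fun {m : G} (hm : m ∈ M) (g : G) => h.central_of_centralized hM hc hm g
  -- `M` is a `p`-group
  have hMp : IsPGroup p ↥M := by
    apply Cfsg.Agent.Lib.Components.LocalFStar.isPGroup_of_forall_coprime p
    intro m hm hco
    have hn : (zpowers m).Normal := by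
      constructor
      intro y hy g
      obtain ⟨k, rfl⟩ := mem_zpowers_iff.mp hy
      have hc1 : Commute g (m ^ k) := Commute.zpow_right (hcentral hm g) k
      rw [hc1.eq, mul_inv_cancel_right]
      exact hy
    have h1 : (Nat.card (zpowers m)).Coprime p := by
      rw [Nat.card_zpowers]
      exact hco
    have h2 := Cfsg.Agent.Lib.Basic.PCore.le_pPrimeCore hn h1
    rw [h.core_eq_bot] at h2
    simpa using h2 (mem_zpowers m)
  set K := (pPrimeCore p (G ⧸ M)).comap (QuotientGroup.mk' M) with hK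
  haveI hKn : K.Normal := Subgroup.Normal.comap inferInstance _
  have hMK : M ≤ K := by
    intro m hm
    rw [hK, mem_comap]
    have : QuotientGroup.mk' M m = 1 := (QuotientGroup.eq_one_iff m).mpr hm
    rw [this]
    exact one_mem _
  haveI hM' : (M.subgroupOf K).Normal := Subgroup.Normal.subgroupOf hM _
  have hcop : (Nat.card ↥(M.subgroupOf K)).Coprime (M.subgroupOf K).index := by
    have hf : ((QuotientGroup.mk' M).comp K.subtype).ker = M.subgroupOf K := by
      ext y
      rw [MonoidHom.mem_ker, mem_subgroupOf]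
      exact QuotientGroup.eq_one_iff _
    have h1 : (M.subgroupOf K).index = Nat.card ((QuotientGroup.mk' M).comp K.subtype).range := by
      rw [← hf, Subgroup.index_ker]
    have h2 : ((QuotientGroup.mk' M).comp K.subtype).range ≤ pPrimeCore p (G ⧸ M) := by
      rintro _ ⟨y, rfl⟩
      exact y.2
    have h3 : (M.subgroupOf K).index ∣ Nat.card (pPrimeCore p (G ⧸ M)) := by
      rw [h1]
      exact Subgroup.card_dvd_of_le h2
    have h4 : ((M.subgroupOf K).index).Coprime p := Nat.Coprime.coprime_dvd_left h3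
      (Cfsg.Agent.Lib.Components.Transport.coprime_card_pPrimeCore p)
    have hMp' : IsPGroup p ↥(M.subgroupOf K) := by
      rintro ⟨a, ha⟩
      obtain ⟨k, hk⟩ := hMp ⟨a, mem_subgroupOf.mp ha⟩
      refine ⟨k, Subtype.ext (Subtype.ext ?_)⟩
      simpa using congrArg Subtype.val hk
    obtain ⟨k, hk⟩ := IsPGroup.iff_card.mp hMp'
    rw [hk]
    exact Nat.Coprime.pow_left k h4.symm
  obtain ⟨L, hL⟩ := Subgroup.exists_right_complement'_of_coprime hcop
  have hLn : L.Normal := by
    constructor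
    intro l hl k
    have hk : k ∈ ((M.subgroupOf K ⊔ L : Subgroup ↥K) : Set ↥K) := by
      rw [hL.sup_eq_top]; trivial
    rw [Subgroup.normal_mul] at hk
    obtain ⟨a, ha, b, hb, rfl⟩ := Set.mem_mul.mp hk
    have hcen : a * (b * l * b⁻¹) * a⁻¹ = b * l * b⁻¹ := by
      apply Subtype.ext
      have := hcentral (mem_subgroupOf.mp ha) ((b * l * b⁻¹ : ↥K) : G)
      simp only [Subgroup.coe_mul, InvMemClass.coe_inv] at this ⊢
      rw [← this]
      group
    have e : (a * b) * l * (a * b)⁻¹ = a * (b * l * b⁻¹) * a⁻¹ := by group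
    rw [e, hcen]
    exact L.mul_mem (L.mul_mem hb hl) (L.inv_mem hb)
  have hLc : (Nat.card L).Coprime p := by
    have h1 : (M.subgroupOf K).index = Nat.card L := hL.symm.index_eq_card
    rw [← h1]
    have hf : ((QuotientGroup.mk' M).comp K.subtype).ker = M.subgroupOf K := by
      ext y
      rw [MonoidHom.mem_ker, mem_subgroupOf]
      exact QuotientGroup.eq_one_iff _
    have h1' : (M.subgroupOf K).index = Nat.card ((QuotientGroup.mk' M).comp K.subtype).range := by
      rw [← hf, Subgroup.index_ker]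
    have h2 : ((QuotientGroup.mk' M).comp K.subtype).range ≤ pPrimeCore p (G ⧸ M) := by
      rintro _ ⟨y, rfl⟩
      exact y.2
    have h3 : (M.subgroupOf K).index ∣ Nat.card (pPrimeCore p (G ⧸ M)) := by
      rw [h1']
      exact Subgroup.card_dvd_of_le h2
    exact Nat.Coprime.coprime_dvd_left h3
      (Cfsg.Agent.Lib.Components.Transport.coprime_card_pPrimeCore p)
  have hLbot : L = ⊥ := by
    have h1 := Cfsg.Agent.Lib.Basic.PCore.le_pPrimeCore hLn hLc
    rw [h.normal_core_eq_bot K] at h1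
    exact le_bot_iff.mp h1
  have hKM : K ≤ M := by
    have h1 := hL.sup_eq_top
    rw [hLbot, sup_bot_eq] at h1
    intro k hk
    have h2 : (⟨k, hk⟩ : ↥K) ∈ M.subgroupOf K := by rw [h1]; trivial
    exact mem_subgroupOf.mp h2
  apply h.not_central
  intro g
  have h1 := h.hquot M hne (g : G ⧸ M)
  have h2 : g * x * g⁻¹ * x⁻¹ ∈ K := h1
  have h3 := hKM h2
  refine h.hiso g ?_
  have h4 : g * x * g⁻¹ = (g * x * g⁻¹ * x⁻¹) * x := by group
  show x * (g * x * g⁻¹) = (g * x * g⁻¹) * x
  rw [h4]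
  have h5 := hcentral h3 x
  calc x * ((g * x * g⁻¹ * x⁻¹) * x) = (x * (g * x * g⁻¹ * x⁻¹)) * x := by group
    _ = ((g * x * g⁻¹ * x⁻¹) * x) * x := by rw [h5]

/-- Every nontrivial normal subgroup supplements `⟨x⟩`. -/
theorem sup_eq_top (h : Setup p x) {M : Subgroup G} (hM : M.Normal) (hne : M ≠ ⊥) :
    M ⊔ zpowers x = ⊤ := by
  by_contra htop
  haveI := hM
  set H := M ⊔ zpowers x with hH
  have hxH : x ∈ H := (le_sup_right : zpowers x ≤ H) (mem_zpowers x)
  have hMH : M ≤ H := le_sup_left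
  have h1 := h.hmin H hxH htop
  apply h.false_of_centralized hM hne
  intro m hm
  rw [mem_centralizer_singleton_iff]
  set C := pPrimeCore p ↥H with hC
  set X := C.map H.subtype ⊓ M with hX
  have hXn : (X.subgroupOf M).Normal := by
    constructor
    intro y hy g
    rw [mem_subgroupOf] at hy ⊢
    obtain ⟨h2, h3⟩ := mem_inf.mp hy
    refine mem_inf.mpr ⟨?_, ?_⟩
    · obtain ⟨c, hc, hcy⟩ := h2
      have hgH : (g : G) ∈ H := hMH g.2
      refine ⟨⟨g, hgH⟩ * c * (⟨g, hgH⟩ : ↥H)⁻¹, (inferInstance : C.Normal).conj_mem c hc _, ?_⟩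
      simp [← hcy]
    · simpa using M.mul_mem (M.mul_mem g.2 h3) (M.inv_mem g.2)
  have hXc : (Nat.card ↥(X.subgroupOf M)).Coprime p := by
    have h2 : Nat.card ↥(X.subgroupOf M) = Nat.card X :=
      Nat.card_congr (Subgroup.subgroupOfEquivOfLe inf_le_right).toEquiv
    rw [h2]
    have h3 : Nat.card X ∣ Nat.card ↥(C.map H.subtype) := Subgroup.card_dvd_of_le inf_le_left
    have h4 : Nat.card ↥(C.map H.subtype) ∣ Nat.card C := Subgroup.card_map_dvd _ _
    exact Nat.Coprime.coprime_dvd_left (h3.trans h4)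
      (Cfsg.Agent.Lib.Components.Transport.coprime_card_pPrimeCore p)
  have h5 := Cfsg.Agent.Lib.Basic.PCore.le_pPrimeCore hXn hXc
  rw [h.normal_core_eq_bot M, le_bot_iff] at h5
  have hy : m * x * m⁻¹ * x⁻¹ ∈ X := by
    refine mem_inf.mpr ⟨?_, ?_⟩
    · exact ⟨_, h1 ⟨m, hMH hm⟩, rfl⟩
    · have h6 := hM.conj_mem _ (M.inv_mem hm) x
      have e : m * x * m⁻¹ * x⁻¹ = m * (x * m⁻¹ * x⁻¹) := by group
      rw [e]
      exact M.mul_mem hm h6
  have h7 : (⟨_, hy.2⟩ : ↥M) ∈ X.subgroupOf M := mem_subgroupOf.mpr hy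
  rw [h5, mem_bot] at h7
  have h8 : m * x * m⁻¹ * x⁻¹ = 1 := congrArg Subtype.val h7
  rw [mul_inv_eq_one, mul_inv_eq_iff_eq_mul] at h8
  exact h8

/-- The order of a normal subgroup is divisible by `p`... and no `M`-normal subgroup is a `p'`-group
if it misses a Sylow subgroup containing `x`. -/
theorem eq_bot_of_inf_sylow (h : Setup p x) {M T : Subgroup G} (hM : M.Normal) (hTM : T ≤ M)
    (hMT : M ≤ normalizer (T : Set G)) (P : Sylow p G) (hPT : (P : Subgroup G) ⊓ T = ⊥) : T = ⊥ := by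
  haveI := hM
  haveI hT' : (T.subgroupOf M).Normal := by
    constructor
    intro y hy g
    rw [mem_subgroupOf] at hy ⊢
    exact (mem_normalizer_iff.mp (hMT g.2) _).mp hy
  obtain ⟨Q₁, hQ₁⟩ := Cfsg.Agent.Lib.Basic.SylowUtil.exists_sylow_inf_normal P M
  obtain ⟨Q₂, hQ₂⟩ := Cfsg.Agent.Lib.Basic.SylowUtil.exists_sylow_inf_normal Q₁ (T.subgroupOf M)
  have hQ₂b : (Q₂ : Subgroup ↥(T.subgroupOf M)) = ⊥ := by
    rw [eq_bot_iff]
    intro y hy
    have h1 : ((y : ↥M)) ∈ (Q₁ : Subgroup ↥M) ⊓ T.subgroupOf M := by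
      rw [← hQ₂]
      exact ⟨y, hy, rfl⟩
    obtain ⟨h2, h3⟩ := mem_inf.mp h1
    have h4 : ((y : ↥M) : G) ∈ (P : Subgroup G) ⊓ M := by
      rw [← hQ₁]
      exact ⟨_, h2, rfl⟩
    have h5 : ((y : ↥M) : G) ∈ (P : Subgroup G) ⊓ T := mem_inf.mpr ⟨(mem_inf.mp h4).1, mem_subgroupOf.mp h3⟩
    rw [hPT, mem_bot] at h5
    have h6 : y = 1 := Subtype.ext (Subtype.ext h5)
    rw [h6]
    exact one_mem _
  have hc : (Nat.card ↥(T.subgroupOf M)).Coprime p := by
    have h1 := Q₂.not_dvd_index
    rw [hQ₂b, Subgroup.index_bot] at h1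
    exact ((Nat.Prime.coprime_iff_not_dvd Fact.out).mpr h1).symm
  have h2 := Cfsg.Agent.Lib.Basic.PCore.le_pPrimeCore hT' hc
  rw [h.normal_core_eq_bot M, le_bot_iff] at h2
  rw [eq_bot_iff]
  intro t ht
  have h3 : (⟨t, hTM ht⟩ : ↥M) ∈ T.subgroupOf M := mem_subgroupOf.mpr ht
  rw [h2, mem_bot] at h3
  simpa using congrArg Subtype.val h3

/-- A minimal normal subgroup is simple. -/
theorem eq_of_le (h : Setup p x) {M : Subgroup G} (hM : M.Normal) (hne : M ≠ ⊥)
    (hmin : ∀ N : Subgroup G, N.Normal → N ≠ ⊥ → N ≤ M → N = M) {T₀ : Subgroup G} (hT₀M : T₀ ≤ M)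
    (hMT₀ : M ≤ normalizer (T₀ : Set G)) (hT₀ : T₀ ≠ ⊥) : T₀ = M := by
  classical
  by_contra hT₀ne
  haveI := hM
  -- a minimal one
  let 𝒮 : Set (Subgroup G) := {T | T ≤ T₀ ∧ M ≤ normalizer (T : Set G) ∧ T ≠ ⊥}
  have h𝒮 : 𝒮.Nonempty := ⟨T₀, le_rfl, hMT₀, hT₀⟩
  obtain ⟨T, hT⟩ := (Set.toFinite 𝒮).exists_minimal h𝒮
  obtain ⟨hTT₀, hMT, hTne⟩ := hT.prop
  have hTM : T ≤ M := hTT₀.trans hT₀M
  have hTneM : T ≠ M := by
    rintro rfl
    exact hT₀ne (le_antisymm hT₀M hTT₀)
  have hxT : x ∉ normalizer (T : Set G) := by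
    intro hx
    have h1 : (⊤ : Subgroup G) ≤ normalizer (T : Set G) := by
      rw [← h.sup_eq_top hM hne]
      refine sup_le hMT ?_
      rw [zpowers_le]
      exact hx
    have h2 : T.Normal := normalizer_eq_top_iff.mp (top_le_iff.mp h1)
    exact hTneM (hmin T h2 hTne hTM)
  -- conjugate
  set U := cj x T with hU
  have hcard : Nat.card U = Nat.card T :=
    Nat.card_congr (T.equivMapOfInjective _ (MulAut.conj x).injective).symm.toEquiv
  have hMU : M ≤ normalizer (U : Set G) := by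
    intro m hm
    have h1 : x⁻¹ * m * x ∈ M := by
      have := hM.conj_mem m hm x⁻¹
      simpa using this
    have h2 := mem_normalizer_iff.mp (hMT h1)
    rw [mem_normalizer_iff]
    intro y
    rw [mem_cj, mem_cj]
    have e : x⁻¹ * (m * y * m⁻¹) * x = (x⁻¹ * m * x) * (x⁻¹ * y * x) * (x⁻¹ * m * x)⁻¹ := by group
    rw [e]
    exact h2 _
  have hinf : T ⊓ U = ⊥ := by
    by_contra hc
    have hle : T ⊓ U ≤ T₀ := inf_le_left.trans hTT₀
    have hn : M ≤ normalizer ((T ⊓ U : Subgroup G) : Set G) := by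
      intro m hm
      have h1 := mem_normalizer_iff.mp (hMT hm)
      have h2 := mem_normalizer_iff.mp (hMU hm)
      rw [mem_normalizer_iff]
      intro y
      exact ⟨fun hy => mem_inf.mpr ⟨(h1 y).mp (mem_inf.mp hy).1, (h2 y).mp (mem_inf.mp hy).2⟩,
        fun hy => mem_inf.mpr ⟨(h1 y).mpr (mem_inf.mp hy).1, (h2 y).mpr (mem_inf.mp hy).2⟩⟩
    have h3 : T ≤ T ⊓ U := hT.2 ⟨hle, hn, hc⟩ inf_le_left
    have h4 : T ≤ U := h3.trans inf_le_right
    have h5 : T = U := Subgroup.eq_of_le_of_card_ge h4 hcard.le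
    apply hxT
    apply Cfsg.Agent.Lib.Coprime.Three.mem_normalizer_of_conj_mem
    intro t ht
    have h6 : x * t * x⁻¹ ∈ U := ⟨t, ht, rfl⟩
    rw [← h5] at h6
    exact h6
  -- a Sylow subgroup containing `x`
  have hxp : IsPGroup p ↥(zpowers x) := by
    apply IsPGroup.of_card (n := 1)
    rw [Nat.card_zpowers, h.hx, pow_one]
  obtain ⟨P, hP⟩ := hxp.exists_le_sylow
  have hxP : x ∈ (P : Subgroup G) := hP (mem_zpowers x)
  have hPT : (P : Subgroup G) ⊓ T = ⊥ := by
    rw [eq_bot_iff]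
    intro y hy
    obtain ⟨h1, h2⟩ := mem_inf.mp hy
    have h3 := Cfsg.Agent.Lib.Components.IsolatedRankTwo.commute_of_mem_pgroup h.hiso P.2 hxP h1
    have h4 : y ∈ U := by
      rw [mem_cj]
      have e : x⁻¹ * y * x = y := by
        calc x⁻¹ * y * x = x⁻¹ * (y * x) := by group
          _ = x⁻¹ * (x * y) := by rw [h3]
          _ = y := by group
      rw [e]
      exact h2
    have h5 : y ∈ T ⊓ U := mem_inf.mpr ⟨h2, h4⟩
    rw [hinf] at h5
    exact h5
  exact hTne (h.eq_bot_of_inf_sylow hM hTM hMT P hPT)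

theorem main (h : Setup p x) : IsSimpleGroup ↥(commutator G) ∧ ¬ IsMulCommutative ↥(commutator G) ∧
    commutator G ⊔ zpowers x = ⊤ := by
  classical
  have hx1 : x ≠ 1 := by
    intro hc
    have := h.hx
    rw [hc, orderOf_one] at this
    exact (Fact.out : p.Prime).one_lt.ne this
  let 𝒮 : Set (Subgroup G) := {N | N.Normal ∧ N ≠ ⊥}
  have h𝒮 : 𝒮.Nonempty := by
    refine ⟨⊤, inferInstance, ?_⟩
    intro hc
    have : x ∈ (⊤ : Subgroup G) := mem_top x
    rw [hc] at this
    exact hx1 (by simpa using this)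
  obtain ⟨M, hMmin⟩ := (Set.toFinite 𝒮).exists_minimal h𝒮
  obtain ⟨hM, hne⟩ := hMmin.prop
  haveI := hM
  have hmin : ∀ N : Subgroup G, N.Normal → N ≠ ⊥ → N ≤ M → N = M := fun N h1 h2 h3 =>
    le_antisymm h3 (hMmin.2 ⟨h1, h2⟩ h3)
  have hsup := h.sup_eq_top hM hne
  -- non-abelian
  have hnab : ⁅M, M⁆ ≠ ⊥ := by
    intro hc
    have hcomm : ∀ a ∈ M, ∀ b ∈ M, a * b = b * a := by
      intro a ha b hb
      have h1 : ⁅a, b⁆ ∈ ⁅M, M⁆ := commutator_mem_commutator ha hb
      rw [hc, mem_bot, commutatorElement_def, mul_inv_eq_one, mul_inv_eq_iff_eq_mul] at h1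
      exact h1
    have hMp : IsPGroup p ↥M := by
      apply Cfsg.Agent.Lib.Components.LocalFStar.isPGroup_of_forall_coprime p
      intro m hm hco
      have hn : (zpowers (⟨m, hm⟩ : ↥M)).Normal := by
        constructor
        intro y hy g
        have e : g * y * g⁻¹ = y := by
          apply Subtype.ext
          have := hcomm _ g.2 _ y.2
          simp only [Subgroup.coe_mul, InvMemClass.coe_inv]
          rw [this]
          group
        rw [e]
        exact hy
      have hc1 : (Nat.card (zpowers (⟨m, hm⟩ : ↥M))).Coprime p := by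
        rw [Nat.card_zpowers, Subgroup.orderOf_mk]
        exact hco
      have h2 := Cfsg.Agent.Lib.Basic.PCore.le_pPrimeCore hn hc1
      rw [h.normal_core_eq_bot M] at h2
      have h3 := h2 (mem_zpowers (⟨m, hm⟩ : ↥M))
      rw [mem_bot] at h3
      exact congrArg Subtype.val h3
    have hxp : IsPGroup p ↥(zpowers x) := by
      apply IsPGroup.of_card (n := 1)
      rw [Nat.card_zpowers, h.hx, pow_one]
    have hall : IsPGroup p ↥(M ⊔ zpowers x) := IsPGroup.to_sup_of_normal_left hMp hxp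
    apply h.not_central
    intro g
    have h1 := Cfsg.Agent.Lib.Components.IsolatedRankTwo.commute_of_mem_pgroup h.hiso hall
      ((le_sup_right : zpowers x ≤ M ⊔ zpowers x) (mem_zpowers x))
      (show g ∈ M ⊔ zpowers x by rw [hsup]; trivial)
    rw [← h1]
    group
  have hperf : ⁅M, M⁆ = M :=
    hmin _ (Subgroup.commutator_normal M M) hnab (Subgroup.commutator_le_left M M)
  have hcomm : commutator G = M := by
    apply le_antisymm
    · apply Subgroup.Normal.quotient_commutative_iff_commutator_le.mp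
      refine ⟨⟨fun a b => ?_⟩⟩
      have key : ∀ c : G ⧸ M, ∃ z ∈ zpowers x, c = (z : G ⧸ M) := by
        intro c
        obtain ⟨g, rfl⟩ := QuotientGroup.mk_surjective c
        have hg : g ∈ ((M ⊔ zpowers x : Subgroup G) : Set G) := by rw [hsup]; trivial
        rw [Subgroup.normal_mul] at hg
        obtain ⟨m, hm, z, hz, rfl⟩ := Set.mem_mul.mp hg
        refine ⟨z, hz, ?_⟩
        rw [QuotientGroup.mk_mul, (QuotientGroup.eq_one_iff m).mpr hm, one_mul]
      obtain ⟨z₁, hz₁, rfl⟩ := key a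
      obtain ⟨z₂, hz₂, rfl⟩ := key b
      obtain ⟨i, rfl⟩ := mem_zpowers_iff.mp hz₁
      obtain ⟨j, rfl⟩ := mem_zpowers_iff.mp hz₂
      rw [← QuotientGroup.mk_mul, ← QuotientGroup.mk_mul, ← zpow_add, ← zpow_add, add_comm]
    · rw [← hperf]
      exact Subgroup.commutator_mono le_top le_top
  rw [hcomm]
  refine ⟨?_, ?_, hsup⟩
  · haveI : Nontrivial ↥M := (Subgroup.nontrivial_iff_ne_bot M).mpr hne
    refine ⟨fun N hN => ?_⟩
    by_cases hNb : N = ⊥
    · exact Or.inl hNb
    · right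
      have hT : N.map M.subtype ≠ ⊥ := by
        intro hc
        apply hNb
        rw [eq_bot_iff]
        intro y hy
        have h1 : (y : G) ∈ N.map M.subtype := ⟨y, hy, rfl⟩
        rw [hc] at h1
        simpa using Subtype.ext (by simpa using h1 : (y : G) = 1)
      haveI := hN
      have h2 := h.eq_of_le hM hne hmin (map_subtype_le N)
        (Cfsg.Agent.Lib.Components.IsolatedMin.le_normalizer_map_subtype N) hT
      rw [eq_top_iff]
      intro y _
      have h3 : (y : G) ∈ N.map M.subtype := by rw [h2]; exact y.2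
      obtain ⟨z, hz, hzy⟩ := h3
      have : z = y := Subtype.ext hzy
      exact this ▸ hz
  · intro hc
    apply hnab
    rw [eq_bot_iff, commutator_le]
    intro a ha b hb
    have h1 := hc.is_comm.comm (⟨a, ha⟩ : ↥M) ⟨b, hb⟩
    have h2 : a * b = b * a := congrArg Subtype.val h1
    rw [commutatorElement_def, h2]
    simp

end Setup

end Cfsg.Agent.Lib.Components.ZStarMin
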